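import Cfsg.Agent.Lib.Spor.CoTypeBig

/-!
Checks on column lists used to exclude a weakly closed central involution, and what they give.
-/

set_option autoImplicit false
set_option maxRecDepth 100000
set_option linter.unusedSectionVars false

namespace Cfsg.Agent.Spor.CoWC

open Cfsg.Agent.Spor.CoT Cfsg.Agent.Spor.CoT.Chk Cfsg.Agent.Classical

theorem app_add (L : List ℕ) (hL : L.all (Nat.blt · 256) = true) (a b : ℕ) :
    app L (Nat.xor a b) = Nat.xor (app L a) (app L b) := by
  have hlt := app_lt (L := L) fun x hx => Nat.le_of_ble_eq_true (List.all_eq_true.1 hL x hx)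
  have h := congrArg enc (app_xor L a b)
  rwa [enc_add, enc_vec _ (hlt _), enc_vec _ (hlt _), enc_vec _ (hlt _)] at h

/-! ### spans -/

/-- the span -/
def spanC : List ℕ → List ℕ
  | [] => [0]
  | b :: bs => spanC bs ++ (spanC bs).map (Nat.xor b)

/-- the span with parities -/
def spanK : List (ℕ × Bool) → List (ℕ × Bool)
  | [] => [(0, false)]
  | b :: bs => spanK bs ++ (spanK bs).map fun p => (Nat.xor b.1 p.1, Bool.xor b.2 p.2)

theorem spanK_fst : ∀ l : List (ℕ × Bool), (spanK l).map Prod.fst = spanC (l.map Prod.fst)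
  | [] => rfl
  | b :: l => by simp [spanK, spanC, ← spanK_fst l, Function.comp_def]

/-- all Boolean lists of a length -/
def allB : ℕ → List (List Bool)
  | 0 => [[]]
  | n + 1 => (allB n).map (List.cons false) ++ (allB n).map (List.cons true)

theorem mem_allB : ∀ l : List Bool, l ∈ allB l.length
  | [] => by simp [allB]
  | b :: l => by cases b <;> simp [allB, mem_allB l]

/-- fixed codes -/
def fixL (s : List ℕ) : List ℕ := (List.range 256).filter fun c => Nat.beq (app s c) c

/-- codes of the image -/
def imgL (s : List ℕ) : List ℕ := (List.range 256).map fun c => Nat.xor (app s c) c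

/-- the vectors with commuting lifts -/
def kOf (bs : List ℕ) (χ : List Bool) : List ℕ := ((spanK (List.zip bs χ)).filter fun p => !p.2).map Prod.fst

/-- the parities respect the image -/
def compatK (R K : List ℕ) : Bool := R.all fun r => K.contains r == Nat.beq (qc r) 0

/-! ### the family of maximal singular subspaces -/

/-- a subset of codes has a given code -/
def hasC (W c : ℕ) : Bool := Nat.testBit W c

/-- the image of a set of codes -/
def imgM (L : List ℕ) (W : ℕ) : ℕ :=
  (List.range 256).foldr (fun c r => bif Nat.testBit W c then Nat.lor (Nat.shiftLeft 1 (app L c)) r else r) 0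

theorem testBit_imgM (L : List ℕ) (W j : ℕ) :
    Nat.testBit (imgM L W) j = true ↔ ∃ c < 256, Nat.testBit W c = true ∧ app L c = j := by
  have key : ∀ l : List ℕ, Nat.testBit (l.foldr
      (fun c r => bif Nat.testBit W c then Nat.lor (Nat.shiftLeft 1 (app L c)) r else r) 0) j = true ↔
      ∃ c ∈ l, Nat.testBit W c = true ∧ app L c = j := by
    intro l
    induction l with
    | nil => simp
    | cons a l ih =>
      rw [List.foldr_cons]
      cases hW : Nat.testBit W a
      · simp only [cond_false, ih, List.mem_cons, exists_eq_or_imp, hW, Bool.false_eq_true, false_and, false_or]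
      · simp only [cond_true, List.mem_cons, exists_eq_or_imp, hW, true_and]
        rw [show ∀ x y, Nat.lor x y = x ||| y from fun _ _ => rfl, Nat.testBit_or, Bool.or_eq_true, ih,
          show Nat.shiftLeft 1 (app L a) = 1 <<< app L a from rfl, Nat.one_shiftLeft, Nat.testBit_two_pow,
          decide_eq_true_eq]
  rw [imgM, key]
  simp only [List.mem_range]

/-- all images lie in the family -/
def famOK (fam : List ℕ) (L : List ℕ) : Bool := fam.all fun W => fam.any (Nat.beq (imgM L W))

theorem famOK_iff {fam L : List ℕ} : famOK fam L = true ↔ ∀ W ∈ fam, imgM L W ∈ fam := by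
  simp only [famOK, List.all_eq_true, List.any_eq_true]
  exact forall₂_congr fun W _ => ⟨fun ⟨a, ha, e⟩ => Nat.eq_of_beq_eq_true e ▸ ha, fun h => ⟨_, h, Nat.beq_refl _⟩⟩

theorem imgM_mul {g h : OG} {A B : List ℕ} (hg : IsCols g A) (hh : IsCols h B) (W : ℕ) :
    imgM (mulL A B) W = imgM A (imgM B W) := by
  have hm := hg.mul hh
  have hA : ∀ c < 256, app A c = enc (g.1 (vec c)) := fun c hc => by rw [hg.2, enc_vec c hc]
  have hB : ∀ c < 256, app B c = enc (h.1 (vec c)) := fun c hc => by rw [hh.2, enc_vec c hc]
  have key : ∀ c < 256, app (mulL A B) c = app A (app B c) := fun c hc => by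
    rw [hB c hc, ← hg.2, ← enc_vec c hc, ← hm.2, enc_vec c hc]
    rfl
  refine Nat.eq_of_testBit_eq fun j => Bool.eq_iff_iff.2 ?_
  rw [testBit_imgM, testBit_imgM]
  constructor
  · rintro ⟨c, hc, hW, e⟩
    exact ⟨app B c, by rw [hB c hc]; exact enc_lt _, (testBit_imgM _ _ _).2 ⟨c, hc, hW, rfl⟩, (key c hc).symm.trans e⟩
  · rintro ⟨d, hd, hd', e⟩
    obtain ⟨c, hc, hW, rfl⟩ := (testBit_imgM _ _ _).1 hd'
    exact ⟨c, hc, hW, (key c hc).trans e⟩

/-! ### closures under translations -/

/-- one step of the closure of a subspace under some maps -/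
def stepS (ms : List (List ℕ)) (S : List ℕ) : List ℕ :=
  match (S.flatMap fun a => ms.map fun m => app m a).find? (fun w => !S.contains w) with
  | some w => S ++ S.map (Nat.xor w)
  | none => S

/-- several steps -/
def growS (ms : List (List ℕ)) : ℕ → List ℕ → List ℕ
  | 0, S => S
  | k + 1, S => growS ms k (stepS ms S)

theorem growS_mem {P : ℕ → Prop} (ms : List (List ℕ)) (hadd : ∀ a b, P a → P b → P (Nat.xor a b))
    (hm : ∀ m ∈ ms, ∀ a, P a → P (app m a)) : ∀ k S, (∀ a ∈ S, P a) → ∀ a ∈ growS ms k S, P a
  | 0, _, h => h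
  | k + 1, S, h => by
    refine growS_mem ms hadd hm k _ fun a ha => ?_
    unfold stepS at ha
    cases e : (S.flatMap fun a => ms.map fun m => app m a).find? (fun w => !S.contains w) with
    | none => rw [e] at ha; exact h a ha
    | some w =>
      rw [e] at ha
      have hw := List.mem_of_find?_eq_some e
      simp only [List.mem_flatMap, List.mem_map] at hw
      obtain ⟨b, hb, m, hm', rfl⟩ := hw
      rcases List.mem_append.1 ha with ha | ha
      · exact h a ha
      · obtain ⟨c, hc, rfl⟩ := List.mem_map.1 ha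
        exact hadd _ _ (hm m hm' b (h b hb)) (h c hc)

/-- not totally singular -/
def badS (S : List ℕ) : Bool := S.any fun a => !Nat.beq (qc a) 0 || S.any fun b => !Nat.beq (pc a b) 0

/-! ### maps with prescribed images -/

/-- a step: a vector, the possible images, and relations with the involution known then -/
abbrev Step : Type := ℕ × List ℕ × List (ℕ × ℕ)

/-- the combination with a mask -/
def combC : List ℕ → ℕ → ℕ
  | [], _ => 0
  | a :: l, m => bif Nat.beq (Nat.land m 1) 1 then Nat.xor a (combC l (Nat.shiftRight m 1))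
      else combC l (Nat.shiftRight m 1)

/-- the new image fits -/
def stepOK (s : List ℕ) (st : Step) (vs ws : List ℕ) (w : ℕ) : Bool :=
  Nat.beq (qc w) (qc st.1) && (List.zip vs ws).all (fun p => Nat.beq (pc p.1 st.1) (pc p.2 w)) &&
    st.2.2.all fun e => Nat.beq (combC (ws ++ [w]) e.2) (app s ((ws ++ [w]).getD e.1 0))

/-- all lists of images -/
def extend (s : List ℕ) : List Step → List ℕ → List ℕ → List (List ℕ)
  | [], _, ws => [ws]
  | st :: rest, vs, ws =>
    st.2.1.flatMap fun w => bif stepOK s st vs ws w then extend s rest (vs ++ [st.1]) (ws ++ [w]) else []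

/-- the relations are true -/
def stepsOK (s : List ℕ) : List Step → List ℕ → Bool
  | [], _ => true
  | st :: rest, vs =>
    Nat.blt st.1 256 &&
      st.2.2.all (fun e => Nat.blt e.1 (vs.length + 1) && Nat.beq (combC (vs ++ [st.1]) e.2) (app s ((vs ++ [st.1]).getD e.1 0))) &&
      stepsOK s rest (vs ++ [st.1])

/-- the columns from the images -/
def colsOf (units ws : List ℕ) : List ℕ := units.map (combC ws)

/-- the units are expressed -/
def unitsOK (dom : List Step) (units : List ℕ) : Bool :=
  units.map (combC (dom.map Prod.fst)) == idL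

theorem combC_map {f : ℕ → ℕ} (h0 : f 0 = 0)
    (hadd : ∀ a < 256, ∀ b < 256, f (Nat.xor a b) = Nat.xor (f a) (f b)) : ∀ (l : List ℕ) (m : ℕ),
    (∀ a ∈ l, a < 256) → combC l m < 256 ∧ combC (l.map f) m = f (combC l m)
  | [], _, _ => ⟨by norm_num [combC], h0.symm⟩
  | a :: l, m, h => by
    obtain ⟨h1, h2⟩ := combC_map h0 hadd l (Nat.shiftRight m 1) fun x hx => h x (List.mem_cons_of_mem _ hx)
    have ha := h a List.mem_cons_self
    simp only [List.map_cons, combC]
    cases Nat.beq (Nat.land m 1) 1
    · exact ⟨h1, h2⟩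
    · simp only [cond_true]
      exact ⟨Nat.xor_lt_two_pow (n := 8) ha h1, by rw [h2, hadd _ ha _ h1]⟩

theorem extend_mem {s : List ℕ} {f : ℕ → ℕ} (hq : ∀ a < 256, qc (f a) = qc a)
    (hp : ∀ a < 256, ∀ b < 256, pc (f a) (f b) = pc a b) (h0 : f 0 = 0)
    (hadd : ∀ a < 256, ∀ b < 256, f (Nat.xor a b) = Nat.xor (f a) (f b))
    (hs : ∀ a < 256, f (app s a) = app s (f a)) :
    ∀ (dom : List Step) (vs : List ℕ), stepsOK s dom vs = true → (∀ v ∈ vs, v < 256) →
      (∀ d ∈ dom, f d.1 ∈ d.2.1) → (vs ++ dom.map Prod.fst).map f ∈ extend s dom vs (vs.map f)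
  | [], vs, _, _, _ => by simp [extend]
  | st :: rest, vs, hok, hv, hd => by
    simp only [stepsOK, Bool.and_eq_true, List.all_eq_true] at hok
    obtain ⟨⟨hst, hrel⟩, hrest⟩ := hok
    have hst' : st.1 < 256 := Nat.le_of_ble_eq_true hst
    have hv' : ∀ v ∈ vs ++ [st.1], v < 256 := fun v hv'' => by
      rcases List.mem_append.1 hv'' with h | h
      · exact hv v h
      · rw [List.mem_singleton] at h; subst h; exact hst'
    rw [extend, List.mem_flatMap]
    refine ⟨f st.1, hd st List.mem_cons_self, ?_⟩
    rw [show stepOK s st vs (vs.map f) (f st.1) = true from ?_]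
    · have := extend_mem hq hp h0 hadd hs rest (vs ++ [st.1]) hrest hv' fun d hd' => hd d (List.mem_cons_of_mem _ hd')
      simpa [List.append_assoc] using this
    simp only [stepOK, Bool.and_eq_true, List.all_eq_true]
    refine ⟨⟨by rw [hq _ hst', Nat.beq_refl], fun p hp' => ?_⟩, fun e he => ?_⟩
    · obtain ⟨v, hv'', rfl⟩ : ∃ v ∈ vs, p = (v, f v) := by
        have e : List.zip vs (vs.map f) = vs.map fun v => (v, f v) := by
          rw [List.zip_map_right, List.zip_eq_zipWith, List.zipWith_self, List.map_map]; rfl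
        rw [e, List.mem_map] at hp'
        obtain ⟨v, hv'', rfl⟩ := hp'
        exact ⟨v, hv'', rfl⟩
      rw [hp _ (hv v hv'') _ hst', Nat.beq_refl]
    · obtain ⟨h1, h2⟩ := hrel e he
      have hlen : e.1 < (vs ++ [st.1]).length := by simpa using Nat.le_of_ble_eq_true h1
      have hm : vs.map f ++ [f st.1] = (vs ++ [st.1]).map f := by simp
      obtain ⟨c1, c2⟩ := combC_map h0 hadd (vs ++ [st.1]) e.2 hv'
      rw [hm, c2, Nat.eq_of_beq_eq_true h2,
        List.getD_eq_getElem ((vs ++ [st.1]).map f) _ (by simpa using hlen),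
        List.getD_eq_getElem (vs ++ [st.1]) _ hlen, List.getElem_map, hs _ (hv' _ (List.getElem_mem hlen)),
        Nat.beq_refl]

/-! ### groups inside a list -/

/-- insertion without repeats -/
def insC (l : List (List ℕ)) (g : List ℕ) : List (List ℕ) := bif l.contains g then l else l ++ [g]

/-- adding all products -/
def mulStep (l : List (List ℕ)) : List (List ℕ) := (l.flatMap fun a => l.map (mulL a)).foldl insC l

/-- adding all conjugates -/
def conjStep (gs : List (List ℕ × List ℕ)) (l : List (List ℕ)) : List (List ℕ) :=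
  (l.flatMap fun a => gs.map fun g => mulL (mulL g.1 a) g.2).foldl insC l

theorem foldl_insC {P : List ℕ → Prop} : ∀ (new l : List (List ℕ)), l.Nodup → (∀ a ∈ l, P a) → (∀ a ∈ new, P a) →
    (new.foldl insC l).Nodup ∧ ∀ a ∈ new.foldl insC l, P a
  | [], _, h1, h2, _ => ⟨h1, h2⟩
  | g :: new, l, h1, h2, h3 => by
    rw [List.foldl_cons]
    cases e : l.contains g with
    | true =>
      rw [show insC l g = l by rw [insC, e]; rfl]
      exact foldl_insC new l h1 h2 fun a ha => h3 a (List.mem_cons_of_mem _ ha)
    | false =>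
      rw [show insC l g = l ++ [g] by rw [insC, e]; rfl]
      refine foldl_insC new _ (List.nodup_append.2 ⟨h1, List.nodup_singleton g, fun a ha b hb => ?_⟩)
        (fun a ha => ?_) fun a ha => h3 a (List.mem_cons_of_mem _ ha)
      · rw [List.mem_singleton] at hb; subst hb
        rintro rfl
        rw [List.contains_iff_mem.2 ha] at e; cases e
      · rcases List.mem_append.1 ha with ha | ha
        · exact h2 a ha
        · rw [List.mem_singleton] at ha; subst ha; exact h3 _ List.mem_cons_self

/-- no group of order sixteen inside the list -/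
def groupOK (T : List (List ℕ)) : ℕ → List (List ℕ) → Bool
  | 0, _ => false
  | k + 1, l => T.all fun b => l.contains b ||
      let l2 := mulStep (mulStep (l ++ [b]))
      !(l2.all T.contains) || (Nat.blt l2.length 16 && groupOK T k l2)

theorem groupOK_false {T : List (List ℕ)} {H : Finset (List ℕ)} (hH : ∀ a ∈ H, a ∈ T) (hcard : 16 ≤ H.card)
    (hmul : ∀ a ∈ H, ∀ b ∈ H, mulL a b ∈ H) : ∀ k l, groupOK T k l = true → l.Nodup → l.length < 16 →
    (∀ a ∈ l, a ∈ H) → False
  | 0, _, h, _, _, _ => by simp [groupOK] at h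
  | k + 1, l, h, hn, hlen, hl => by
    obtain ⟨b, hb, hbl⟩ : ∃ b ∈ H, b ∉ l.toFinset := by
      by_contra hh
      push Not at hh
      have := Finset.card_le_card hh
      have := List.toFinset_card_le l
      omega
    rw [List.mem_toFinset] at hbl
    simp only [groupOK, List.all_eq_true, Bool.or_eq_true, Bool.and_eq_true, Bool.not_eq_true'] at h
    have hn' : (l ++ [b]).Nodup := List.nodup_append.2 ⟨hn, List.nodup_singleton b, fun a ha c hc => by
      rw [List.mem_singleton] at hc; subst hc; rintro rfl; exact hbl ha⟩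
    have hl' : ∀ a ∈ l ++ [b], a ∈ H := fun a ha => by
      rcases List.mem_append.1 ha with ha | ha
      · exact hl a ha
      · rw [List.mem_singleton] at ha; subst ha; exact hb
    have hstep : ∀ L : List (List ℕ), L.Nodup → (∀ a ∈ L, a ∈ H) → (mulStep L).Nodup ∧ ∀ a ∈ mulStep L, a ∈ H :=
      fun L h1 h2 => foldl_insC _ L h1 h2 fun a ha => by
        simp only [List.mem_flatMap, List.mem_map] at ha
        obtain ⟨c, hc, d, hd, rfl⟩ := ha
        exact hmul _ (h2 c hc) _ (h2 d hd)
    obtain ⟨n1, m1⟩ := hstep _ hn' hl'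
    obtain ⟨n2, m2⟩ := hstep _ n1 m1
    rcases h b (hH b hb) with e | e | ⟨e1, e2⟩
    · exact hbl (List.contains_iff_mem.1 e)
    · rw [List.all_eq_false] at e
      obtain ⟨a, ha, e⟩ := e
      exact e (List.contains_iff_mem.2 (hH a (m2 a ha)))
    · exact groupOK_false hH hcard hmul k _ e2 n2 (Nat.le_of_ble_eq_true e1) m2

/-- the closure under products and conjugation -/
def normC (gs : List (List ℕ × List ℕ)) : ℕ → List (List ℕ) → List (List ℕ)
  | 0, l => l
  | k + 1, l => bif Nat.blt 32 l.length then l else normC gs k (mulStep (conjStep gs l))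

theorem normC_mem {P : List ℕ → Prop} {gs : List (List ℕ × List ℕ)} (hmul : ∀ a b, P a → P b → P (mulL a b))
    (hc : ∀ g ∈ gs, ∀ a, P a → P (mulL (mulL g.1 a) g.2)) : ∀ k l, l.Nodup → (∀ a ∈ l, P a) →
    (normC gs k l).Nodup ∧ ∀ a ∈ normC gs k l, P a
  | 0, _, h1, h2 => ⟨h1, h2⟩
  | k + 1, l, h1, h2 => by
    rw [normC]
    cases Nat.blt 32 l.length
    · obtain ⟨a1, a2⟩ := foldl_insC (P := P) (l.flatMap fun a => gs.map fun g => mulL (mulL g.1 a) g.2) l h1 h2
        fun a ha => by
          simp only [List.mem_flatMap, List.mem_map] at ha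
          obtain ⟨c, hc', g, hg, rfl⟩ := ha
          exact hc g hg c (h2 c hc')
      obtain ⟨b1, b2⟩ := foldl_insC (P := P) ((conjStep gs l).flatMap fun a => (conjStep gs l).map (mulL a))
        (conjStep gs l) a1 a2 fun a ha => by
          simp only [List.mem_flatMap, List.mem_map] at ha
          obtain ⟨c, hc', d, hd, rfl⟩ := ha
          exact hmul _ _ (a2 c hc') (a2 d hd)
      exact normC_mem hmul hc k _ b1 b2
    · exact ⟨h1, h2⟩

end Cfsg.Agent.Spor.CoWC
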