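import Cfsg.Agent.Lib.Spor.CoWC.Bits

/-!
The checks for the exclusion of a weakly closed central involution.
-/

set_option autoImplicit false
set_option maxRecDepth 100000

namespace Cfsg.Agent.Spor.CoWC

open Cfsg.Agent.Spor.CoT Cfsg.Agent.Spor.CoT.Chk

/-- the sixteen codes of the first maximal singular subspace -/
def baseW : List ℕ := [0, 1, 2, 3, 4, 5, 6, 7, 8, 9, 10, 11, 12, 13, 14, 15]

/-- the base subspace stays in the family -/
def famOne (fam L : List ℕ) : Bool :=
  fam.any (Nat.beq (baseW.foldr (fun c r => Nat.lor (Nat.shiftLeft 1 (app L c)) r) 0))

/-- a valid pair of inverse column lists in the special orthogonal group -/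
def pairOK (fam : List ℕ) (p : List ℕ × List ℕ) : Bool :=
  isoL p.1 && isoL p.2 && mulL p.1 p.2 == idL && famOne fam p.1

/-- the maps commuting with an involution, of square in the group it generates, with given restriction -/
def tList (fam s : List ℕ) (dom : List Step) (units : List ℕ) : List (List ℕ) :=
  ((extend s dom [] []).map (colsOf units)).filter fun b =>
    mulL b s == mulL s b && (mulL b b == idL || mulL b b == s) && famOne fam b

/-- the maps fixing a subspace -/
def pList (fam : List ℕ) (dom : List Step) (units : List ℕ) : List (List ℕ) :=
  ((extend idL dom [] []).map (colsOf units)).filter (famOne fam)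

/-- all codes as images, or translates of a set -/
def domOK (s K R : List ℕ) (dom : List Step) (units : List ℕ) : Bool :=
  stepsOK s dom [] && unitsOK dom units && dom.all fun st =>
    (K.contains st.1 && R.all fun r => st.2.1.contains (Nat.xor st.1 r)) || Nat.beq st.2.1.length 256 &&
      (List.zip (List.range 256) st.2.1).all fun p => Nat.beq p.1 p.2

/-- a conjugation witness -/
def conjOK (fam s : List ℕ) (e : List ℕ × List ℕ × List ℕ) : Bool :=
  pairOK fam e.2 && mulL e.2.1 e.1 == mulL s e.2.1

/-- the basic facts about a representative -/
def repOK' (s bs R : List ℕ) : Bool :=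
  mulL s s == idL && bs.all (fun b => Nat.blt b 256 && Nat.beq (app s b) b) &&
    (fixL s).all (spanC bs).contains && R.all (imgL s).contains && (imgL s).all R.contains &&
    Nat.blt 15 (fixL s).length && Nat.blt (fixL s).length 65

/-- one choice of the commuting part -/
structure Cand where
  /-- parities on the basis -/
  chi : List Bool
  /-- the commuting part -/
  K : List ℕ
  /-- symmetries with inverses -/
  ns : List (List ℕ × List ℕ)
  /-- the possible maps -/
  T : List (List ℕ)
  /-- those outside the class -/
  good : List (List ℕ)
  /-- their product table -/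
  table : List (List ℕ)
  /-- steps of the enumeration -/
  dom : List Step
  /-- expressions of the units -/
  units : List ℕ
  /-- the groups among the maps outside the class -/
  subs : List (List ℕ)

/-- no vectors of the common part -/
def evOK (R K : List ℕ) (ms : List (List ℕ)) : Bool :=
  K.all fun v => Nat.beq v 0 || !Nat.beq (qc v) 0 || R.contains v ||
    (let S := growS ms 5 [0, v]; badS S || S.any fun a => !Nat.beq a 0 && R.contains a)

/-- some rows of the table are right -/
def tableRows (good : List (List ℕ)) (rows : List (List ℕ × List ℕ)) : Bool :=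
  rows.all fun r =>
    Nat.beq r.2.length good.length && (List.zip good r.2).all fun e =>
      bif Nat.blt e.2 good.length then mulL r.1 e.1 == good.getD e.2 [] else !good.contains (mulL r.1 e.1)

/-- adding products of indices -/
def mulI (n : ℕ) (table : List (List ℕ)) (l : List ℕ) : List ℕ :=
  (l.flatMap fun a => l.map fun b => (table.getD a []).getD b n).foldl
    (fun acc g => bif acc.contains g then acc else acc ++ [g]) l

/-- some of the listed groups extend only to listed groups -/
def subRows (n : ℕ) (table : List (List ℕ)) (subs rows : List (List ℕ)) : Bool :=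
  rows.all fun l => Nat.blt l.length 16 && (List.range n).all fun b => l.contains b ||
    l.any (fun a => Nat.beq ((table.getD a []).getD b n) n || Nat.beq ((table.getD b []).getD a n) n) ||
    (let l2 := mulI n table (mulI n table (l ++ [b]))
     l2.contains n || subs.contains l2)

/-- no group of order sixteen among the indices: the possible groups are listed -/
def groupS (n : ℕ) (table : List (List ℕ)) (subs : List (List ℕ)) : Bool :=
  subs.contains [0, 1] && subRows n table subs subs

/-- one choice: the vectors and the maps -/
def candA (fam s bs R : List ℕ) (c : Cand) : Bool :=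
  kOf bs c.chi == c.K &&
    c.ns.all (fun n => pairOK fam n && mulL n.1 s == mulL s n.1 && c.K.all fun v => c.K.contains (app n.1 v)) &&
    evOK R c.K (c.ns.map fun n => mulL n.1 n.1) &&
    domOK s c.K [0] c.dom c.units && (tList fam s c.dom c.units).all c.T.contains

/-- one choice: the product table of the maps outside the class -/
def candG (s R : List ℕ) (cj : List (List ℕ × List ℕ × List ℕ)) (c : Cand) : Bool :=
  Nat.blt c.T.length 16 ||
    ((fixL s).all R.contains &&
      c.T.all (fun b => b == idL || c.good.contains b || cj.any fun e => e.1 == b) &&
      Nat.beq c.table.length c.good.length && c.good.getD 0 [] == idL && c.good.getD 1 [] == s && Nat.blt 1 c.good.length)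

/-- one choice: no large group -/
def candS (c : Cand) : Bool :=
  Nat.blt c.T.length 16 || groupS c.good.length c.table c.subs

/-- every choice is listed -/
def coverA (bs R : List ℕ) (cs : List Cand) : Bool :=
  (allB bs.length).all fun χ => !compatK R (kOf bs χ) || cs.any fun c => c.chi == χ

/-- a derivation of elements from the first two: products and conjugates -/
def derivOK (gs : List (List ℕ × List ℕ)) : List (List ℕ) → List ((ℕ × ℕ × Bool) × List ℕ) → Bool
  | l, [] => Nat.blt 32 l.length
  | l, ((i, j, c), g) :: rest =>
    Nat.blt i l.length && !l.contains g &&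
      (bif c then Nat.blt j gs.length &&
          mulL (mulL (gs.getD j ([], [])).1 (l.getD i [])) (gs.getD j ([], [])).2 == g
       else Nat.blt j l.length && mulL (l.getD i []) (l.getD j []) == g) &&
      derivOK gs (l ++ [g]) rest

/-- elements generating too large a normal subgroup: by derivation, or conjugate to an earlier one -/
def bigRows (gs : List (List ℕ × List ℕ)) (s : List ℕ) (roots : List (List ℕ × List ((ℕ × ℕ × Bool) × List ℕ)))
    (order : List (List ℕ × ℕ × ℕ)) (off : ℕ) (rows : List (List ℕ × ℕ × ℕ)) : Bool :=
  (List.zip (List.range rows.length) rows).all fun e =>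
    bif Nat.blt e.2.2.1 gs.length then
      Nat.blt e.2.2.2 (Nat.add off e.1) &&
        mulL (mulL (gs.getD e.2.2.1 ([], [])).1 e.2.1) (gs.getD e.2.2.1 ([], [])).2 ==
          (order.getD e.2.2.2 ([], 0, 0)).1
    else roots.any fun r => r.1 == e.2.1 && !(e.2.1 == idL) && !(e.2.1 == s) && derivOK gs [idL, s, e.2.1] r.2

/-- data of the second case -/
structure CaseB where
  /-- generators with inverses -/
  gs : List (List ℕ × List ℕ)
  /-- those allowed -/
  W : List (List ℕ)
  /-- order of the treatment -/
  order : List (List ℕ × ℕ × ℕ)
  /-- steps of the enumeration -/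
  dom : List Step
  /-- expressions of the units -/
  units : List ℕ
  /-- derivations -/
  roots : List (List ℕ × List ((ℕ × ℕ × Bool) × List ℕ))

/-- the possible maps -/
def CaseB.T (d : CaseB) : List (List ℕ) := d.W ++ d.order.map Prod.fst

/-- the symmetries are valid -/
def caseBT (fam s : List ℕ) (d : CaseB) : Bool :=
  d.gs.all fun n => pairOK fam n && mulL n.1 s == mulL s n.1

/-- the steps with the first three images chosen -/
def fixThree (dom : List Step) (w0 w1 w2 : ℕ) : List Step :=
  match dom with
  | a :: b :: c :: rest => (a.1, [w0], a.2.2) :: (b.1, [w1], b.2.2) :: (c.1, [w2], c.2.2) :: rest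
  | l => l

/-- part of the enumeration in the second case -/
def caseBA2 (fam s : List ℕ) (d : CaseB) (w0 w1 w2 : ℕ) : Bool :=
  (tList fam s (fixThree d.dom w0 w1 w2) d.units).all d.T.contains

/-- the first representative in the second case -/
def caseBA (fam s R : List ℕ) (d : CaseB) : Bool :=
  (fixL s).all (fun v => Nat.beq v 0 || !Nat.beq (qc v) 0 || R.contains v ||
      badS (growS (d.gs.map Prod.fst) 6 [0, v])) &&
    Nat.blt R.length 5 && d.W.all (fun b => b == idL || b == s) &&
    domOK s (fixL s) R d.dom d.units

/-- the second representative in the second case: the space and the maps -/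
def caseBE (fam s R sA : List ℕ) (cj dj : List (List ℕ × List ℕ × List ℕ)) (d : CaseB) : Bool :=
  (fixL s).all R.contains && R.all (fun v => Nat.beq (qc v) 0) && Nat.beq R.length 16 &&
    R.all (fun v => Nat.beq v 0 || R.all fun w => (growS (d.gs.map Prod.fst) 4 [0, v]).contains w) &&
    domOK idL R [0] d.dom d.units && (pList fam d.dom d.units).all d.T.contains && Nat.beq d.T.length 64 &&
    Nat.blt d.W.length 33 && cj.all (fun e => R.all fun v => R.contains (app e.2.1 v)) && dj.all (conjOK fam sA)

/-- the second representative in the second case: the classes of the maps -/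
def caseBC (s : List ℕ) (cj dj : List (List ℕ × List ℕ × List ℕ)) (d : CaseB) : Bool :=
  (d.T.all fun b => b == idL || b == s || cj.any (fun e => e.1 == b) || dj.any fun e => e.1 == b) &&
    (d.T.all fun b => b == idL || b == s || cj.any (fun e => e.1 == b) ||
      cj.any fun t => cj.any fun u => mulL t.1 u.1 == b) &&
    (cj.all fun t => d.T.contains t.1) &&
    cj.all fun e => d.W.contains e.1 || cj.any fun f => d.W.contains (mulL (mulL f.2.1 s) f.2.2) &&
      d.W.contains (mulL (mulL f.2.1 e.1) f.2.2)

end Cfsg.Agent.Spor.CoWC
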