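import Cfsg.Agent.Lib.Spor.CoWC.Pair
import Cfsg.Agent.Lib.Spor.CoWC.Checks

/-!
What the checks say about elements of the orthogonal group and about a pair of commuting conjugates.
-/

set_option autoImplicit false
set_option maxRecDepth 100000
set_option linter.unusedSectionVars false

namespace Cfsg.Agent.Spor.CoWC

open Cfsg.Agent.Spor.CoT Cfsg.Agent.Spor.CoT.Chk Cfsg.Agent.Classical

theorem app_col {g : OG} {L : List ℕ} (hL : IsCols g L) {a : ℕ} (ha : a < 256) : app L a = enc (g • vec a) := by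
  show _ = enc (g.1 (vec a))
  rw [hL.2, enc_vec a ha]

theorem col_app {g : OG} {L : List ℕ} (hL : IsCols g L) (v : V) : app L (enc v) = enc (g • v) := (hL.2 v).symm

theorem vec_zero0 : vec 0 = (0 : V) := by
  have h := congrArg vec enc_zero
  rwa [vec_enc, eq_comm] at h

theorem enc_eq_zero {v : V} : enc v = 0 ↔ v = 0 := ⟨fun e => enc_injective (e.trans enc_zero.symm), fun e => e ▸ enc_zero⟩

theorem qc_enc_zero {v : V} : Nat.beq (qc (enc v)) 0 = true ↔ qm v = 0 :=
  ⟨fun e => qm_eq_zero.2 (Nat.eq_of_beq_eq_true e), fun e => by rw [qm_eq_zero.1 e]; rfl⟩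

/-- the map on codes is linear and orthogonal -/
theorem code_map {g : OG} {L : List ℕ} (hL : IsCols g L) :
    (∀ a < 256, qc (app L a) = qc a) ∧ (∀ a < 256, ∀ b < 256, pc (app L a) (app L b) = pc a b) ∧ app L 0 = 0 ∧
      ∀ a < 256, ∀ b < 256, app L (Nat.xor a b) = Nat.xor (app L a) (app L b) := by
  have hcast : ∀ {a b : ℕ}, a < 2 → b < 2 → (a : ZMod 2) = b → a = b := fun {a b} ha hb e => by
    interval_cases a <;> interval_cases b <;> first | rfl | exact absurd e (by decide)
  refine ⟨fun a ha => ?_, fun a ha b hb => ?_, ?_, fun a ha b hb => ?_⟩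
  · have h := osmul_qm g (vec a)
    rw [qm_enc, qm_enc (vec a), ← app_col hL ha, enc_vec a ha] at h
    exact hcast (qc_lt _) (qc_lt _) h
  · have h := osmul_pol g (vec a) (vec b)
    rw [pol_enc, pol_enc (vec a), ← app_col hL ha, ← app_col hL hb, enc_vec a ha, enc_vec b hb] at h
    exact hcast (Nat.mod_lt _ (by norm_num)) (Nat.mod_lt _ (by norm_num)) h
  · rw [app_col hL (by norm_num), vec_zero0, osmul_zero, enc_zero]
  · rw [app_col hL (a := Nat.xor a b) (Nat.xor_lt_two_pow (n := 8) ha hb), vec_xor, osmul_add, enc_add, ← app_col hL ha, ← app_col hL hb]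

theorem commute_app {g h : OG} {A B : List ℕ} (hA : IsCols g A) (hB : IsCols h B) (hc : Commute g h) {a : ℕ}
    (ha : a < 256) : app A (app B a) = app B (app A a) := by
  rw [app_col hB ha, col_app hA, app_col hA ha, col_app hB, ← mul_smul, ← mul_smul, hc.eq]

theorem cols_one : cols (1 : OG) = idL := IsCols.one.eq_cols.symm

theorem cols_mul (g h : OG) : cols (g * h) = mulL (cols g) (cols h) :=
  ((isCols_cols g).mul (isCols_cols h)).eq_cols.symm

theorem cols_mul' (g h : Ga) : cols ((g * h : Ga) : OG) = mulL (cols (g : OG)) (cols (h : OG)) := cols_mul _ _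

theorem cols_one' : cols ((1 : Ga) : OG) = idL := cols_one

theorem cols_inj' {g h : OG} (e : cols g = cols h) : g = h := (isCols_cols g).ext (e ▸ isCols_cols h)

/-! ### the family criterion -/

/-- the property of keeping the family -/
def Keeps (fam : List ℕ) (g : OG) : Prop := famOK fam (cols g) = true

theorem Keeps.mul {fam : List ℕ} {g h : OG} (hg : Keeps fam g) (hh : Keeps fam h) : Keeps fam (g * h) := by
  rw [Keeps, famOK_iff] at hg hh ⊢
  intro W hW
  rw [cols_mul, imgM_mul (isCols_cols g) (isCols_cols h)]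
  exact hg _ (hh W hW)

theorem testBit_foldr_shift (L : List ℕ) (j : ℕ) : ∀ l : List ℕ,
    Nat.testBit (l.foldr (fun c r => Nat.lor (Nat.shiftLeft 1 (app L c)) r) 0) j = true ↔ ∃ c ∈ l, app L c = j
  | [] => by simp
  | a :: l => by
    rw [List.foldr_cons, show ∀ x y, Nat.lor x y = x ||| y from fun _ _ => rfl, Nat.testBit_or, Bool.or_eq_true,
      testBit_foldr_shift L j l, show Nat.shiftLeft 1 (app L a) = 1 <<< app L a from rfl, Nat.one_shiftLeft,
      Nat.testBit_two_pow, decide_eq_true_eq]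
    simp only [List.mem_cons, exists_eq_or_imp]

theorem base_bits : ∀ c < 256, (Nat.testBit 65535 c = true ↔ c ∈ baseW) := by decide +kernel

theorem famOne_iff {fam L : List ℕ} : famOne fam L = true ↔ imgM L 65535 ∈ fam := by
  have e : baseW.foldr (fun c r => Nat.lor (Nat.shiftLeft 1 (app L c)) r) 0 = imgM L 65535 := by
    refine Nat.eq_of_testBit_eq fun j => Bool.eq_iff_iff.2 ?_
    rw [testBit_foldr_shift, testBit_imgM]
    constructor
    · rintro ⟨c, hc, e⟩
      have hc' : c < 256 := by
        simp only [baseW, List.mem_cons, List.not_mem_nil, or_false] at hc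
        omega
      exact ⟨c, hc', (base_bits c hc').2 hc, e⟩
    · rintro ⟨c, hc, hb, e⟩
      exact ⟨c, (base_bits c hc).1 hb, e⟩
  rw [famOne, e, List.any_eq_true]
  exact ⟨fun ⟨a, ha, r⟩ => Nat.eq_of_beq_eq_true r ▸ ha, fun h => ⟨_, h, Nat.beq_refl _⟩⟩

/-- the family with its generators -/
structure FamData (fam outM : List ℕ) : Prop where
  gens : ∀ i < 2, famOK fam (Dat.gens.getD i []) = true
  ginvs : ∀ i < 2, famOK fam (Dat.ginvs.getD i []) = true
  one : famOK fam idL = true
  base : 65535 ∈ fam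
  iso : isoL outM = true
  inv : mulL outM outM = idL
  out : ∀ W ∈ fam, imgM outM W ∉ fam

theorem keeps_Ga {fam outM : List ℕ} (D : FamData fam outM) {g : OG} (hg : g ∈ Ga) : Keeps fam g := by
  have h1 : Keeps fam 1 := by rw [Keeps, cols_one]; exact D.one
  have hgen : ∀ i < 2, Keeps fam (gel2 i) ∧ Keeps fam (gel2 i)⁻¹ := fun i hi => by
    have hk : Keeps fam (gel2 i) := by
      rw [Keeps, ← (gel2_cols hi).eq_cols]; exact D.gens i hi
    refine ⟨hk, ?_⟩
    obtain ⟨-, g', hg'⟩ := gen_spec hi
    have h := List.all_eq_true.mp gen_ok i (List.mem_range.mpr hi)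
    simp only [Bool.and_eq_true, beq_iff_eq] at h
    have e : g' = (gel2 i)⁻¹ :=
      eq_inv_of_mul_eq_one_left (hg'.mul (gel2_cols hi) |>.ext (h.1.2 ▸ IsCols.one))
    rw [Keeps, ← e, ← hg'.eq_cols]
    exact D.ginvs i hi
  have key : Keeps fam g ∧ Keeps fam g⁻¹ := by
    induction hg using Subgroup.closure_induction with
    | mem y hy =>
      rcases hy with rfl | rfl
      exacts [hgen 0 (by norm_num), hgen 1 (by norm_num)]
    | one => exact ⟨h1, by rw [inv_one]; exact h1⟩
    | mul a b _ _ ha hb => exact ⟨ha.1.mul hb.1, by rw [mul_inv_rev]; exact hb.2.mul ha.2⟩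
    | inv a _ ha => exact ⟨ha.2, by rw [inv_inv]; exact ha.1⟩
  exact key.1

theorem famOne_Ga {fam outM : List ℕ} (D : FamData fam outM) (g : Ga) : famOne fam (cols (g : OG)) = true :=
  famOne_iff.2 (famOK_iff.1 (keeps_Ga D g.2) _ D.base)

theorem mem_Ga_of_famOne {fam outM : List ℕ} (D : FamData fam outM) {g : OG} (h : famOne fam (cols g) = true) :
    g ∈ Ga := by
  obtain ⟨t, ht⟩ := exists_of_isoL D.iso D.iso D.inv
  have htt : t * t = 1 := (ht.mul ht).ext (D.inv.symm ▸ IsCols.one)
  have hout : ∀ {k : OG}, imgM (cols k) 65535 ∈ fam → t * k ∉ Ga := fun {k} hk hm => by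
    have h1 := famOK_iff.1 (keeps_Ga D hm) _ D.base
    rw [cols_mul, ← ht.eq_cols, imgM_mul ht (isCols_cols k)] at h1
    exact D.out _ hk h1
  by_contra hg
  have hidx : Ga.index = 2 := by
    have := Subgroup.card_mul_index Ga
    rw [card_Ga, card_OG] at this
    omega
  have ht' : t ∉ Ga := fun hm => by
    have h1 := famOK_iff.1 (keeps_Ga D hm) _ D.base
    rw [← ht.eq_cols] at h1
    exact D.out _ D.base h1
  exact hout (famOne_iff.1 h) ((Subgroup.mul_mem_iff_of_index_two hidx).2 ⟨fun e => absurd e ht', fun e => absurd e hg⟩)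

theorem pair_elt {fam outM : List ℕ} (D : FamData fam outM) {p : List ℕ × List ℕ} (h : pairOK fam p = true) :
    ∃ g : Ga, cols (g : OG) = p.1 ∧ cols ((g⁻¹ : Ga) : OG) = p.2 := by
  simp only [pairOK, Bool.and_eq_true, beq_iff_eq] at h
  obtain ⟨⟨⟨h1, h2⟩, h3⟩, h4⟩ := h
  obtain ⟨g, hg⟩ := exists_of_isoL h1 h2 h3
  refine ⟨⟨g, mem_Ga_of_famOne D (hg.eq_cols ▸ h4)⟩, hg.eq_cols.symm, ?_⟩
  have hl : p.2.length = 8 ∧ ∀ a ∈ p.2, a < 256 := by
    simp only [isoL, Bool.and_eq_true, List.all_eq_true] at h2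
    exact ⟨Nat.eq_of_beq_eq_true h2.1.1, fun a ha => Nat.le_of_ble_eq_true (h2.1.2 a ha)⟩
  refine (IsCols.eq_cols (g := g⁻¹) ?_).symm
  refine IsCols.of_mul_left hl.1 hl.2 hg ?_
  rw [mul_inv_cancel, h3]
  exact IsCols.one

theorem commute_of_cols {g h : Ga} (e : mulL (cols (g : OG)) (cols (h : OG)) = mulL (cols (h : OG)) (cols (g : OG))) :
    Commute g h :=
  Subtype.ext (cols_inj' (g := (g : OG) * h) (h := (h : OG) * g) (by rw [cols_mul, cols_mul, e]))

/-! ### the enumeration is complete -/

theorem mem_extend {g : OG} {s : List ℕ} {dom : List Step} {units : List ℕ} {K R : List ℕ}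
    (hd : domOK s K R dom units = true) (hs : ∀ a < 256, app (cols g) (app s a) = app s (app (cols g) a))
    (hK : ∀ v ∈ K, v < 256 → ∃ r ∈ R, app (cols g) v = Nat.xor v r) :
    cols g ∈ (extend s dom [] []).map (colsOf units) ∧ ∀ d ∈ dom, app (cols g) d.1 ∈ d.2.1 := by
  have hg := isCols_cols g
  obtain ⟨hq, hp, h0, hadd⟩ := code_map hg
  simp only [domOK, Bool.and_eq_true, List.all_eq_true, Bool.or_eq_true] at hd
  obtain ⟨⟨hst, hu⟩, hc⟩ := hd
  have hlt : ∀ d ∈ dom, d.1 < 256 := by
    have key : ∀ (l : List Step) (vs : List ℕ), stepsOK s l vs = true → ∀ d ∈ l, d.1 < 256 := by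
      intro l
      induction l with
      | nil => intro _ _ d hd; simp at hd
      | cons a l ih =>
        intro vs h d hd
        simp only [stepsOK, Bool.and_eq_true] at h
        rcases List.mem_cons.1 hd with rfl | hd
        · exact Nat.le_of_ble_eq_true h.1.1
        · exact ih _ h.2 d hd
    exact key dom [] hst
  have hcand : ∀ d ∈ dom, app (cols g) d.1 ∈ d.2.1 := fun d hd => by
    rcases hc d hd with ⟨hk, hr⟩ | ⟨hl, hz⟩
    · obtain ⟨r, hr', e⟩ := hK _ (List.contains_iff_mem.1 hk) (hlt d hd)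
      exact e ▸ List.contains_iff_mem.1 (hr r hr')
    · have hv : app (cols g) d.1 < 256 := by rw [app_col hg (hlt d hd)]; exact enc_lt _
      have hlen := Nat.eq_of_beq_eq_true hl
      have := hz (app (cols g) d.1, d.2.1[app (cols g) d.1]'(by omega)) (List.mem_iff_getElem.2
        ⟨app (cols g) d.1, by rw [List.length_zip, List.length_range]; omega, by simp⟩)
      have e : app (cols g) d.1 = d.2.1[app (cols g) d.1]'(by omega) := Nat.eq_of_beq_eq_true this
      exact List.mem_iff_getElem.2 ⟨_, _, e.symm⟩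
  have h := extend_mem hq hp h0 hadd hs dom [] hst (by simp) hcand
  rw [List.nil_append, List.map_nil] at h
  refine ⟨List.mem_map.2 ⟨_, h, ?_⟩, hcand⟩
  simp only [unitsOK, beq_iff_eq] at hu
  refine List.ext_getElem ?_ fun k h1 h2 => ?_
  · have := congrArg List.length hu
    simp only [List.length_map] at this
    simp only [colsOf, List.length_map, this, cols, idL, List.length_range]
    rfl
  · have hk : k < 8 := by simpa [cols] using h2
    simp only [colsOf, List.getElem_map]
    have hk' : k < units.length := by simpa [colsOf] using h1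
    have e := congrArg (fun l => List.getD l k 0) hu
    simp only [List.getD_eq_getElem _ _ (show k < (units.map (combC (dom.map Prod.fst))).length by simpa using hk'),
      List.getElem_map] at e
    obtain ⟨-, c2⟩ := combC_map h0 hadd (dom.map Prod.fst) units[k] fun a ha => by
      obtain ⟨d, hd, rfl⟩ := List.mem_map.1 ha; exact hlt d hd
    rw [c2, e]
    have : idL.getD k 0 = 2 ^ k := by interval_cases k <;> rfl
    rw [this, app_col hg (Nat.pow_lt_pow_right (by norm_num) hk : 2 ^ k < 2 ^ 8)]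
    simp [cols]
    rfl

end Cfsg.Agent.Spor.CoWC
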