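import Cfsg.Agent.Lib.Spor.CoWC.Parts
import Cfsg.Agent.Lib.Spor.CoWC.Sound

/-!
What the checks at one representative give for a pair.
-/

set_option autoImplicit false
set_option maxRecDepth 100000
set_option linter.unusedSectionVars false

namespace Cfsg.Agent.Spor.CoWC

open Cfsg.Agent.Spor.CoT Cfsg.Agent.Spor.CoT.Chk Cfsg.Agent.Classical

theorem smul_code (g : Ga) (v : V) : enc (g • v) = app (cols (g : OG)) (enc v) := (isCols_cols (g : OG)).2 v

/-- the data of a representative -/
structure RepInfo (S bs R : List ℕ) : Prop where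
  ok : repOK' S bs R = true

/-- facts about a representative -/
theorem rep_facts {S bs R : List ℕ} (D : repOK' S bs R = true) :
    mulL S S = idL ∧ (∀ b ∈ bs, b < 256 ∧ app S b = b) ∧ (∀ v ∈ fixL S, v ∈ spanC bs) ∧
      (∀ r, r ∈ R ↔ r ∈ imgL S) ∧ 16 ≤ (fixL S).length ∧ (fixL S).length ≤ 64 := by
  simp only [repOK', Bool.and_eq_true, List.all_eq_true, beq_iff_eq] at D
  obtain ⟨⟨⟨⟨⟨⟨h1, h2⟩, h3⟩, h4⟩, h5⟩, h6⟩, h7⟩ := D
  exact ⟨h1, fun b hb => ⟨Nat.le_of_ble_eq_true (h2 b hb).1, Nat.eq_of_beq_eq_true (h2 b hb).2⟩,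
    fun v hv => List.contains_iff_mem.1 (h3 v hv),
    fun r => ⟨fun h => List.contains_iff_mem.1 (h4 r h), fun h => List.contains_iff_mem.1 (h5 r h)⟩,
    Nat.le_of_ble_eq_true h6, Nat.le_of_lt_succ (Nat.le_of_ble_eq_true h7)⟩

universe u

variable {G : Type u} [Group G] [Finite G] {z x : G} {Q : Subgroup G} (F : Frame z Q)
variable {S bs R : List ℕ}

theorem fix_iff (T : Twin z x) (hS : cols (T.s F : OG) = S) (v : V) : T.s F • v = v ↔ enc v ∈ fixL S := by
  rw [fixL, List.mem_filter, List.mem_range, ← hS]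
  constructor
  · intro e
    refine ⟨enc_lt v, ?_⟩
    rw [← smul_code, e, Nat.beq_refl]
  · rintro ⟨-, e⟩
    exact enc_injective ((smul_code _ _).trans (Nat.eq_of_beq_eq_true e))

theorem img_iff (T : Twin z x) (hS : cols (T.s F : OG) = S) (D : repOK' S bs R = true) (v : V) :
    enc v ∈ R ↔ ∃ w : V, T.s F • w + w = v := by
  rw [(rep_facts D).2.2.2.1, imgL, List.mem_map]
  constructor
  · rintro ⟨c, hc, e⟩
    refine ⟨vec c, enc_injective ?_⟩
    rw [enc_add, smul_code, hS, enc_vec c (List.mem_range.1 hc), e]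
  · rintro ⟨w, rfl⟩
    exact ⟨enc w, List.mem_range.2 (enc_lt w), by rw [enc_add, smul_code, hS]⟩

theorem fix_card (T : Twin z x) (hS : cols (T.s F : OG) = S) :
    Nat.card {v : V // T.s F • v = v} = (fixL S).length := by
  classical
  have hnd : (fixL S).Nodup := List.nodup_range.filter _
  rw [← List.toFinset_card_of_nodup hnd, Nat.card_eq_fintype_card, Fintype.card_subtype]
  refine Finset.card_bij (fun v _ => enc v) (fun v hv => ?_) (fun a _ b _ e => enc_injective e) fun c hc => ?_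
  · exact List.mem_toFinset.2 ((fix_iff F T hS v).1 (Finset.mem_filter.1 hv).2)
  · have hc' := List.mem_toFinset.1 hc
    have hlt : c < 256 := List.mem_range.1 (List.mem_of_mem_filter hc')
    exact ⟨vec c, Finset.mem_filter.2 ⟨Finset.mem_univ _, (fix_iff F T hS _).2 (by rw [enc_vec c hlt]; exact hc')⟩,
      enc_vec c hlt⟩

theorem exists_chi (h : Hyp0 z Q) (T : Twin z x) (hS : cols (T.s F : OG) = S) (D : repOK' S bs R = true) :
    ∃ χ ∈ allB bs.length, compatK R (kOf bs χ) = true ∧ ∀ v : V, enc v ∈ kOf bs χ ↔ v ∈ KV F x := by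
  classical
  obtain ⟨-, hbs, hspan, -, -, -⟩ := rep_facts D
  set χ := bs.map fun b => !decide (vec b ∈ KV F x) with hχ
  have hfix : ∀ b ∈ bs, T.s F • vec b = vec b := fun b hb => (fix_iff F T hS _).2 (by
    rw [enc_vec b (hbs b hb).1, fixL, List.mem_filter, List.mem_range, (hbs b hb).2, Nat.beq_refl]
    exact ⟨(hbs b hb).1, rfl⟩)
  have key : ∀ l : List ℕ, (∀ b ∈ l, b ∈ bs) → ∀ p ∈ spanK (List.zip l (l.map fun b => !decide (vec b ∈ KV F x))),
      p.1 < 256 ∧ T.s F • vec p.1 = vec p.1 ∧ (vec p.1 ∈ KV F x ↔ p.2 = false) := by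
    intro l
    induction l with
    | nil =>
      intro _ p hp
      simp only [List.map_nil, List.zip_nil_left, spanK, List.mem_singleton] at hp
      subst hp
      exact ⟨by norm_num, by rw [vec_zero0]; exact smul_zero' _, by rw [vec_zero0]; simp [kv_zero F h T]⟩
    | cons b l ih =>
      intro hl p hp
      have hb := hl b List.mem_cons_self
      simp only [List.map_cons, List.zip_cons_cons, spanK, List.mem_append, List.mem_map] at hp
      rcases hp with hp | ⟨q, hq, rfl⟩
      · exact ih (fun a ha => hl a (List.mem_cons_of_mem _ ha)) p hp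
      obtain ⟨q1, q2, q3⟩ := ih (fun a ha => hl a (List.mem_cons_of_mem _ ha)) q hq
      refine ⟨Nat.xor_lt_two_pow (n := 8) (hbs b hb).1 q1, ?_, ?_⟩
      · show T.s F • vec (Nat.xor b q.1) = vec (Nat.xor b q.1)
        rw [vec_xor, smul_add', hfix b hb, q2]
      · show vec (Nat.xor b q.1) ∈ KV F x ↔ _
        rw [vec_xor, kv_add F h T (hfix b hb) q2, q3]
        by_cases hbK : vec b ∈ KV F x <;> cases q.2 <;> simp [hbK]
  have hmem : ∀ v : V, enc v ∈ kOf bs χ ↔ v ∈ KV F x := by
    intro v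
    rw [kOf, List.mem_map]
    constructor
    · rintro ⟨p, hp, e⟩
      obtain ⟨hp1, hp2⟩ := List.mem_filter.1 hp
      have hv : v = vec p.1 := by rw [e, vec_enc]
      rw [hv]
      exact (key bs (fun _ hb => hb) p hp1).2.2.2 (by simpa using hp2)
    · intro hv
      have hs := hspan _ ((fix_iff F T hS v).1 (kv_fix F T hv))
      have e : (List.zip bs χ).map Prod.fst = bs := by
        rw [List.map_fst_zip]; simp [hχ]
      rw [← e, ← spanK_fst, List.mem_map] at hs
      obtain ⟨p, hp, e'⟩ := hs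
      refine ⟨p, List.mem_filter.2 ⟨hp, ?_⟩, e'⟩
      have hv' : vec p.1 ∈ KV F x := by rw [e', vec_enc]; exact hv
      simp [(key bs (fun _ hb => hb) p hp).2.2.1 hv']
  refine ⟨χ, by have := mem_allB χ; rwa [hχ, List.length_map] at this, ?_, hmem⟩
  simp only [compatK, List.all_eq_true, beq_iff_eq]
  intro r hr
  have hr' : r < 256 := by
    obtain ⟨c, hc, rfl⟩ := List.mem_map.1 (((rep_facts D).2.2.2.1 r).1 hr)
    refine Nat.xor_lt_two_pow (n := 8) ?_ (List.mem_range.1 hc)
    rw [← hS, app_col (isCols_cols _) (List.mem_range.1 hc)]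
    exact enc_lt _
  obtain ⟨w, hw⟩ := (img_iff F T hS D (vec r)).1 (by rw [enc_vec r hr']; exact hr)
  have := kv_img F h T w
  rw [hw] at this
  refine Bool.eq_iff_iff.2 ?_
  rw [List.contains_iff_mem, ← enc_vec r hr', qc_enc_zero, hmem, this]

theorem ev_vanish (h : Hyp0 z Q) (T : Twin z x) (hS : cols (T.s F : OG) = S) (D : repOK' S bs R = true)
    {fam outM : List ℕ} (Df : FamData fam outM) (hxz : IsConj z (x * z)) {K : List ℕ}
    (hK : ∀ v : V, enc v ∈ K ↔ v ∈ KV F x) {ns : List (List ℕ × List ℕ)}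
    (hns : ∀ n ∈ ns, pairOK fam n = true ∧ mulL n.1 S = mulL S n.1 ∧ ∀ v ∈ K, app n.1 v ∈ K)
    (hev : evOK R K (ns.map fun n => mulL n.1 n.1) = true) {v : V} (hv : v ∈ EV F x) : v = 0 := by
  by_contra hv0
  simp only [evOK, List.all_eq_true, Bool.or_eq_true, List.any_eq_true, Bool.and_eq_true, Bool.not_eq_true'] at hev
  have hR : ∀ u : V, u ∈ EV F x → u ≠ 0 → enc u ∉ R := by
    intro u hu hu0 hr
    obtain ⟨e, he, hx, rfl⟩ := hu
    obtain ⟨w, hw⟩ := (img_iff F T hS D _).1 hr
    exact T.ev_img F h he hx (fun e1 => hu0 (by rw [e1, vec_one' F h])) hw.symm hxz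
  rcases hev (enc v) ((hK v).2 (ev_kv F h T hv)) with ((e | e) | e) | e
  · exact hv0 (enc_eq_zero.1 (Nat.eq_of_beq_eq_true e))
  · rw [qc_enc_zero.2 (ev_sing F h T hv)] at e; cases e
  · exact hR v hv hv0 (List.contains_iff_mem.1 e)
  have hP : ∀ a ∈ growS (ns.map fun n => mulL n.1 n.1) 5 [0, enc v], a < 256 ∧ vec a ∈ EV F x := by
    refine growS_mem (P := fun a => a < 256 ∧ vec a ∈ EV F x) _
      (fun a b ha hb => ⟨Nat.xor_lt_two_pow (n := 8) ha.1 hb.1, by rw [vec_xor]; exact ev_add F h ha.2 hb.2⟩) ?_ _ _ ?_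
    · intro m hm a ha
      obtain ⟨n, hn, rfl⟩ := List.mem_map.1 hm
      obtain ⟨h1, h2, h3⟩ := hns n hn
      obtain ⟨g, hg, -⟩ := pair_elt Df h1
      have hc : Commute g (T.s F) := commute_of_cols (by rw [hg, hS, h2])
      have hKg : ∀ u ∈ KV F x, g • u ∈ KV F x := fun u hu => by
        rw [← hK, smul_code, hg]; exact h3 _ ((hK u).2 hu)
      have e : app (mulL n.1 n.1) a = enc ((g * g) • vec a) := by
        rw [← hg, ← cols_mul', smul_code, enc_vec a ha.1]
      rw [e, vec_enc]
      exact ⟨enc_lt _, T.ev_sq F h hc hKg ha.2⟩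
    · intro a ha
      simp only [List.mem_cons, List.not_mem_nil, or_false] at ha
      rcases ha with rfl | rfl
      · exact ⟨by norm_num, by rw [vec_zero0]; exact ev_zero F h T⟩
      · exact ⟨enc_lt _, by rw [vec_enc]; exact hv⟩
  rcases e with e | ⟨a, ha, e⟩
  · simp only [badS, List.any_eq_true, Bool.or_eq_true, Bool.not_eq_true'] at e
    obtain ⟨a, ha, e⟩ := e
    obtain ⟨ha1, ha2⟩ := hP a ha
    rcases e with e | ⟨b, hb, e⟩
    · rw [← enc_vec a ha1, qc_enc_zero.2 (ev_sing F h T ha2)] at e; cases e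
    · obtain ⟨hb1, hb2⟩ := hP b hb
      have := pol_eq_zero.1 (ev_perp F h T ha2 hb2)
      rw [enc_vec a ha1, enc_vec b hb1] at this
      rw [this] at e; cases e
  · obtain ⟨ha1, ha2⟩ := hP a ha
    refine hR _ ha2 (fun e0 => ?_) (by rw [enc_vec a ha1]; exact List.contains_iff_mem.1 e.2)
    have := e.1
    rw [← enc_vec a ha1, e0, enc_zero] at this
    cases this

/-- the columns of the image -/
noncomputable def actCols (h : Hyp0 z Q) (T : Twin z x) : Finset (List ℕ) := by
  classical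
  letI : Fintype (T.act F h) := Fintype.ofFinite _
  exact (Finset.univ : Finset ↥(T.act F h)).image fun g : ↥(T.act F h) => cols ((g.1 : Ga) : OG)

theorem mem_actCols (h : Hyp0 z Q) (T : Twin z x) {b : List ℕ} :
    b ∈ actCols F h T ↔ ∃ g ∈ T.act F h, cols (g : OG) = b := by
  classical
  simp only [actCols, Finset.mem_image, Finset.mem_univ, true_and]
  exact ⟨fun ⟨g, e⟩ => ⟨g.1, g.2, e⟩, fun ⟨g, hg, e⟩ => ⟨⟨g, hg⟩, e⟩⟩

theorem card_actCols (h : Hyp0 z Q) (T : Twin z x) : (actCols F h T).card = Nat.card (T.act F h) := by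
  classical
  letI : Fintype (T.act F h) := Fintype.ofFinite _
  rw [actCols, Finset.card_image_of_injective _ fun a b e => Subtype.ext (Subtype.ext (cols_inj' e)),
    Finset.card_univ, Nat.card_eq_fintype_card]

theorem actCols_mul (h : Hyp0 z Q) (T : Twin z x) {a b : List ℕ} (ha : a ∈ actCols F h T) (hb : b ∈ actCols F h T) :
    mulL a b ∈ actCols F h T := by
  obtain ⟨g, hg, rfl⟩ := (mem_actCols F h T).1 ha
  obtain ⟨g', hg', rfl⟩ := (mem_actCols F h T).1 hb
  exact (mem_actCols F h T).2 ⟨g * g', mul_mem hg hg', cols_mul' g g'⟩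

/-- every element of the image is enumerated -/
theorem act_enum (h : Hyp0 z Q) (T : Twin z x) (hS : cols (T.s F : OG) = S) {fam outM : List ℕ}
    (Df : FamData fam outM) {K R' : List ℕ} {dom : List Step} {units : List ℕ}
    (hd : domOK S K R' dom units = true) (hK : ∀ v ∈ K, v < 256 → vec v ∈ KV F x)
    (hR : ∀ u : V, u ∈ EV F x → enc u ∈ R') {g : Ga} (hg : g ∈ T.act F h) :
    cols (g : OG) ∈ tList fam S dom units ∧ ∀ d ∈ dom, app (cols (g : OG)) d.1 ∈ d.2.1 := by
  obtain ⟨hc, hsq⟩ := act_comm F h T hg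
  obtain ⟨h1, h2⟩ := mem_extend (g := (g : OG)) hd
    (fun a ha => by
      rw [← hS]
      exact commute_app (isCols_cols _) (isCols_cols _) (congrArg Subtype.val hc.eq : ((g : OG) * (T.s F : OG) = _)) ha)
    (fun v hv hlt => by
      refine ⟨_, hR _ (act_kv F h T hg (hK v hv hlt)), ?_⟩
      rw [enc_add, smul_code, enc_vec v hlt]
      show app (cols (g : OG)) v = v ^^^ (app (cols (g : OG)) v ^^^ v)
      rw [Nat.xor_comm (app (cols (g : OG)) v) v, ← Nat.xor_assoc, Nat.xor_self, Nat.zero_xor])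
  refine ⟨List.mem_filter.2 ⟨h1, ?_⟩, h2⟩
  simp only [Bool.and_eq_true, Bool.or_eq_true, beq_iff_eq]
  refine ⟨⟨by rw [← hS, ← cols_mul', ← cols_mul', hc.eq], ?_⟩, famOne_Ga Df g⟩
  rcases hsq with e | e
  · exact Or.inl (by rw [← cols_mul', e, cols_one'])
  · exact Or.inr (by rw [← cols_mul', e, hS])

/-- with few possible maps the image is too small -/
theorem act_bound (h : Hyp0 z Q) (T : Twin z x) {L : List (List ℕ)} (hL : ∀ g ∈ T.act F h, cols ((g : Ga) : OG) ∈ L) :
    Nat.card (T.act F h) ≤ L.length := by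
  classical
  rw [← card_actCols F h T]
  refine le_trans (Finset.card_le_card fun b hb => ?_) (List.toFinset_card_le L)
  obtain ⟨g, hg, rfl⟩ := (mem_actCols F h T).1 hb
  exact List.mem_toFinset.2 (hL g hg)

theorem ev_card_one (h : Hyp0 z Q) (T : Twin z x) (h0 : ∀ v ∈ EV F x, v = 0) : Nat.card (EV F x) = 1 :=
  Nat.card_eq_one_iff_unique.2 ⟨⟨fun a b => Subtype.ext ((h0 _ a.2).trans (h0 _ b.2).symm)⟩, ⟨⟨0, ev_zero F h T⟩⟩⟩

theorem groupS_false {n : ℕ} {table subs : List (List ℕ)} (hgr : groupS n table subs = true) {I : Finset ℕ}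
    (hI : ∀ a ∈ I, a < n) (hcard : 16 ≤ I.card) (h01 : 0 ∈ I ∧ 1 ∈ I)
    (hmul : ∀ a ∈ I, ∀ b ∈ I, (table.getD a []).getD b n ∈ I) : False := by
  classical
  simp only [groupS, subRows, Bool.and_eq_true, List.all_eq_true, List.any_eq_true, Bool.or_eq_true, List.mem_range,
    List.contains_iff_mem] at hgr
  obtain ⟨h1, h2⟩ := hgr
  have hne : (subs.toFinset.filter fun l => ∀ a ∈ l, a ∈ I).Nonempty :=
    ⟨[0, 1], Finset.mem_filter.2 ⟨List.mem_toFinset.2 h1, by
      intro a ha
      simp only [List.mem_cons, List.not_mem_nil, or_false] at ha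
      rcases ha with rfl | rfl
      exacts [h01.1, h01.2]⟩⟩
  obtain ⟨l, hl, hmax⟩ := Finset.exists_max_image _ (fun l : List ℕ => l.toFinset.card) hne
  obtain ⟨hls, hlI⟩ := Finset.mem_filter.1 hl
  obtain ⟨hlen, hall⟩ := h2 l (List.mem_toFinset.1 hls)
  obtain ⟨b, hb, hbl⟩ : ∃ b ∈ I, b ∉ l.toFinset := by
    by_contra hh
    push Not at hh
    have := Finset.card_le_card hh
    have := List.toFinset_card_le l
    have := Nat.le_of_ble_eq_true hlen
    omega
  rw [List.mem_toFinset] at hbl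
  have key : ∀ m : List ℕ, (∀ a ∈ m, a ∈ I) → (∀ a ∈ mulI n table m, a ∈ I) ∧ ∀ a ∈ m, a ∈ mulI n table m := by
    intro m hm
    have step : ∀ (new acc : List ℕ), (∀ a ∈ new, a ∈ I) → (∀ a ∈ acc, a ∈ I) →
        (∀ a ∈ new.foldl (fun acc g => bif acc.contains g then acc else acc ++ [g]) acc, a ∈ I) ∧
          ∀ a ∈ acc, a ∈ new.foldl (fun acc g => bif acc.contains g then acc else acc ++ [g]) acc := by
      intro new
      induction new with
      | nil => intro acc _ h2; exact ⟨h2, fun a ha => ha⟩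
      | cons g new ih =>
        intro acc h1 h2
        rw [List.foldl_cons]
        cases e : acc.contains g with
        | true => exact ih acc (fun a ha => h1 a (List.mem_cons_of_mem _ ha)) h2
        | false =>
          obtain ⟨i1, i2⟩ := ih (acc ++ [g]) (fun a ha => h1 a (List.mem_cons_of_mem _ ha)) fun a ha => by
            rcases List.mem_append.1 ha with ha | ha
            · exact h2 a ha
            · rw [List.mem_singleton] at ha; exact ha ▸ h1 g List.mem_cons_self
          exact ⟨i1, fun a ha => i2 a (List.mem_append_left _ ha)⟩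
    refine step _ m (fun a ha => ?_) hm
    simp only [List.mem_flatMap, List.mem_map] at ha
    obtain ⟨c, hc, d, hd, rfl⟩ := ha
    exact hmul _ (hm c hc) _ (hm d hd)
  have hlb : ∀ a ∈ l ++ [b], a ∈ I := fun a ha => by
    rcases List.mem_append.1 ha with ha | ha
    · exact hlI a ha
    · rw [List.mem_singleton] at ha; exact ha ▸ hb
  obtain ⟨k1, k2⟩ := key _ hlb
  obtain ⟨m1, m2⟩ := key _ k1
  rcases hall b (hI b hb) with (e | ⟨a, ha, e | e⟩) | e | e
  · exact hbl e
  · have := hI _ (hmul a (hlI a ha) b hb)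
    rw [Nat.eq_of_beq_eq_true e] at this; omega
  · have := hI _ (hmul b hb a (hlI a ha))
    rw [Nat.eq_of_beq_eq_true e] at this; omega
  · exact absurd (hI n (m1 n e)) (lt_irrefl n)
  · have h3 := hmax _ (Finset.mem_filter.2 ⟨List.mem_toFinset.2 e, m1⟩)
    have h4 : insert b l.toFinset ⊆ (mulI n table (mulI n table (l ++ [b]))).toFinset := fun a ha => by
      rw [List.mem_toFinset]
      rw [Finset.mem_insert, List.mem_toFinset] at ha
      refine m2 _ (k2 _ ?_)
      rcases ha with rfl | ha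
      · simp
      · exact List.mem_append_left _ ha
    have h5 := Finset.card_le_card h4
    rw [Finset.card_insert_of_notMem (by rw [List.mem_toFinset]; exact hbl)] at h5
    omega

/-- all the checks of one representative -/
structure CandsOK (fam S bs R : List ℕ) (cj : List (List ℕ × List ℕ × List ℕ)) (cs : List Cand) : Prop where
  rep : repOK' S bs R = true
  conj : cj.all (conjOK fam S) = true
  cover : coverA bs R cs = true
  a : ∀ c ∈ cs, candA fam S bs R c = true
  g : ∀ c ∈ cs, candG S R cj c = true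
  s : ∀ c ∈ cs, candS c = true
  t : ∀ c ∈ cs, 16 ≤ c.T.length → tableRows c.good (List.zip c.good c.table) = true

theorem exists_cand (h : Hyp0 z Q) (T : Twin z x) (hS : cols (T.s F : OG) = S)
    {fam : List ℕ} {cj : List (List ℕ × List ℕ × List ℕ)} {cs : List Cand} (D : CandsOK fam S bs R cj cs) :
    ∃ c ∈ cs, candA fam S bs R c = true ∧ ∀ v : V, enc v ∈ c.K ↔ v ∈ KV F x := by
  obtain ⟨χ, hχ, hcomp, hmem⟩ := exists_chi F h T hS D.rep
  have hc := D.cover
  simp only [coverA, List.all_eq_true, Bool.or_eq_true, Bool.not_eq_true', List.any_eq_true, beq_iff_eq] at hc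
  rcases hc χ hχ with e | ⟨c, hc', e⟩
  · rw [hcomp] at e; cases e
  have ha := D.a c hc'
  have ha' := ha
  simp only [candA, Bool.and_eq_true, beq_iff_eq] at ha'
  refine ⟨c, hc', ha, fun v => ?_⟩
  rw [← ha'.1.1.1.1, e]
  exact hmem v

/-- without vectors in common the pair cannot be fused with its translate, and the image is small -/
theorem no_fusion (h : Hyp0 z Q) (T : Twin z x) (hS : cols (T.s F : OG) = S) {fam outM : List ℕ}
    (Df : FamData fam outM) {cj : List (List ℕ × List ℕ × List ℕ)} {cs : List Cand}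
    (D : CandsOK fam S bs R cj cs) (hbig : 16 ≤ Nat.card (BX h T)) : ¬ IsConj z (x * z) := by
  classical
  intro hxz
  obtain ⟨c, hc, ha, hK⟩ := exists_cand F h T hS D
  simp only [candA, Bool.and_eq_true, List.all_eq_true, beq_iff_eq] at ha
  obtain ⟨⟨⟨⟨-, hns⟩, hev⟩, hdom⟩, hT⟩ := ha
  have h0 : ∀ v ∈ EV F x, v = 0 := fun v hv => ev_vanish F h T hS D.rep Df hxz hK
    (fun n hn => ⟨(hns n hn).1.1, (hns n hn).1.2, fun v hv => List.contains_iff_mem.1 ((hns n hn).2 v hv)⟩) hev hv
  rw [card_act F h T, ev_card_one F h T h0, one_mul] at hbig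
  have hmem : ∀ g ∈ T.act F h, cols ((g : Ga) : OG) ∈ c.T := fun g hg => List.contains_iff_mem.1 (hT _
    (act_enum F h T hS Df hdom (fun v hv hlt => (hK _).1 (by rw [enc_vec v hlt]; exact hv))
      (fun u hu => by simp [h0 u hu, enc_zero]) hg).1)
  have hsmall : ¬ c.T.length < 16 := fun e => by
    have := act_bound F h T hmem
    omega
  have hb : ∀ {b : Bool}, (Nat.blt c.T.length 16 || b) = true → b = true := fun {b} e => by
    cases hb : Nat.blt c.T.length 16
    · rwa [hb, Bool.false_or] at e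
    · exact absurd (Nat.le_of_ble_eq_true hb) hsmall
  have hg := hb (D.g c hc)
  have hs := hb (D.s c hc)
  simp only [Bool.and_eq_true, List.all_eq_true, Bool.or_eq_true, beq_iff_eq, List.any_eq_true] at hg
  obtain ⟨⟨⟨⟨⟨hfix, hcov⟩, hlen⟩, hg0⟩, hg1⟩, hn1⟩ := hg
  have hn : 1 < c.good.length := Nat.le_of_ble_eq_true hn1
  have hgood : ∀ b ∈ actCols F h T, b ∈ c.good := by
    intro b hb'
    obtain ⟨g, hg, rfl⟩ := (mem_actCols F h T).1 hb'
    rcases hcov _ (hmem g hg) with (e | e) | ⟨e, he, hee⟩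
    · rw [e, ← hg0, List.getD_eq_getElem _ _ (by omega)]; exact List.getElem_mem _
    · exact List.contains_iff_mem.1 e
    by_cases hgs : g = T.s F
    · rw [hgs, hS, ← hg1, List.getD_eq_getElem _ _ hn]; exact List.getElem_mem _
    exfalso
    have hcj := List.all_eq_true.1 D.conj e he
    simp only [conjOK, Bool.and_eq_true, beq_iff_eq] at hcj
    obtain ⟨k, hk, -⟩ := pair_elt Df hcj.1
    refine act_class F h T hxz (fun v hv => (img_iff F T hS D.rep v).1
      (List.contains_iff_mem.1 (hfix _ ((fix_iff F T hS v).1 hv)))) hg hgs (k := k) ?_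
    rw [mul_inv_eq_iff_eq_mul]
    exact Subtype.ext (cols_inj' (g := ((k * g : Ga) : OG)) (h := ((T.s F * k : Ga) : OG))
      (by rw [cols_mul', cols_mul', hk, hS, ← hee, hcj.2]))
  set n := c.good.length with hn'
  refine groupS_false (I := (Finset.range n).filter fun i => c.good.getD i [] ∈ actCols F h T) hs
    (fun a ha => Finset.mem_range.1 (Finset.mem_filter.1 ha).1) ?_ ?_ ?_
  · rw [← card_actCols F h T] at hbig
    refine hbig.trans (Finset.card_le_card_of_surjOn (fun i => c.good.getD i []) fun b hb' => ?_)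
    obtain ⟨i, hi, e⟩ := List.getElem_of_mem (hgood b hb')
    refine ⟨i, Finset.mem_filter.2 ⟨Finset.mem_range.2 hi, ?_⟩, ?_⟩
    · rw [List.getD_eq_getElem _ _ hi, e]; exact hb'
    · show c.good.getD i [] = b
      rw [List.getD_eq_getElem _ _ hi, e]
  · refine ⟨Finset.mem_filter.2 ⟨Finset.mem_range.2 (by omega), ?_⟩, Finset.mem_filter.2 ⟨Finset.mem_range.2 hn, ?_⟩⟩
    · rw [hg0]; exact (mem_actCols F h T).2 ⟨1, one_mem _, cols_one'⟩
    · rw [hg1]; exact (mem_actCols F h T).2 ⟨_, s_mem_act F h T, hS⟩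
  · intro a ha b hb'
    obtain ⟨ha1, ha2⟩ := Finset.mem_filter.1 ha
    obtain ⟨hb1, hb2⟩ := Finset.mem_filter.1 hb'
    rw [Finset.mem_range] at ha1 hb1
    have htab := D.t c hc (Nat.not_lt.1 hsmall)
    simp only [tableRows, List.all_eq_true, Bool.and_eq_true] at htab
    have hlen' := Nat.eq_of_beq_eq_true hlen
    have hr := htab (c.good[a], c.table[a]'(by omega)) (List.mem_iff_getElem.2
      ⟨a, by rw [List.length_zip]; omega, by rw [List.getElem_zip]⟩)
    have hrl := Nat.eq_of_beq_eq_true hr.1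
    simp only at hrl
    have he := hr.2 (c.good[b], (c.table[a]'(by omega))[b]'(by omega)) (List.mem_iff_getElem.2
      ⟨b, by rw [List.length_zip]; simp only; omega, by rw [List.getElem_zip]⟩)
    rw [List.getD_eq_getElem c.table _ (by omega), List.getD_eq_getElem (c.table[a]'(by omega)) _ (by omega)]
    rw [List.getD_eq_getElem _ _ ha1] at ha2
    rw [List.getD_eq_getElem _ _ hb1] at hb2
    simp only at he
    have hm := actCols_mul F h T ha2 hb2
    set e := (c.table[a]'(by omega))[b]'(by omega)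
    cases hlt : Nat.blt e c.good.length
    · rw [hlt, cond_false, Bool.not_eq_true'] at he
      rw [List.contains_iff_mem.2 (hgood _ hm)] at he; cases he
    · rw [hlt, cond_true, beq_iff_eq] at he
      exact Finset.mem_filter.2 ⟨Finset.mem_range.2 (Nat.le_of_ble_eq_true hlt), he ▸ hm⟩

end Cfsg.Agent.Spor.CoWC
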