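import Cfsg.Agent.Lib.Spor.CoWC.Pair

/-!
An abelian group with an orbit of length 449 on conjugates of a weakly closed involution: there is none.
-/

set_option autoImplicit false
set_option linter.unusedSectionVars false
set_option linter.style.haveILetI false

namespace Cfsg.Agent.Spor.CoWC

open Cfsg.Agent.Spor.CoT

universe u

variable {G : Type u} [Group G] [Finite G] {z x : G} {Q : Subgroup G}

/-- the part of the extraspecial subgroup commuting with the second involution -/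
def Aset (Q : Subgroup G) (x : G) : Set G := {a | a ∈ Q ∧ Commute a x}

/-- the part of the second extraspecial subgroup commuting with the first involution -/
def Bset (z : G) (Q : Subgroup G) (x : G) : Set G := {b | InQ z Q x b ∧ Commute b z}

/-- the centraliser of the first part -/
def NX (Q : Subgroup G) (x : G) : Subgroup G := Subgroup.centralizer (Aset Q x)

/-- the conjugates of the central involution in it -/
def OX (z : G) (Q : Subgroup G) (x : G) : Set G := {y | y ∈ NX Q x ∧ IsConj z y}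

/-- the properties of a pair used in the counting -/
structure Good (z : G) (Q : Subgroup G) (x : G) : Prop where
  abel : ∀ a ∈ NX Q x, ∀ b ∈ NX Q x, Commute a b
  ab : Subgroup.centralizer (Aset Q x ∪ Bset z Q x) = NX Q x
  card : Nat.card (OX z Q x) = 449
  trans : ∀ y ∈ OX z Q x, y ≠ z → ∃ k : G, Commute k z ∧ k * x * k⁻¹ = y ∧ NX Q y = NX Q x
  two : IsPGroup 2 (NX Q x)

theorem mem_centralizer_move {S S' : Set G} {g : G} (h : ∀ a, a ∈ S' ↔ g⁻¹ * a * g ∈ S) {n : G} :
    n ∈ Subgroup.centralizer S' ↔ g⁻¹ * n * g ∈ Subgroup.centralizer S := by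
  simp only [Subgroup.mem_centralizer_iff]
  constructor
  · intro hn a ha
    have := hn (g * a * g⁻¹) ((h _).2 (by rwa [show g⁻¹ * (g * a * g⁻¹) * g = a by group]))
    calc a * (g⁻¹ * n * g) = g⁻¹ * (g * a * g⁻¹ * n) * g := by group
      _ = g⁻¹ * (n * (g * a * g⁻¹)) * g := by rw [this]
      _ = g⁻¹ * n * g * a := by group
  · intro hn a ha
    have := hn _ ((h a).1 ha)
    calc a * n = g * (g⁻¹ * a * g * (g⁻¹ * n * g)) * g⁻¹ := by group
      _ = g * (g⁻¹ * n * g * (g⁻¹ * a * g)) * g⁻¹ := by rw [this]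
      _ = n * a := by group

theorem comm_move (g a b : G) : Commute (g⁻¹ * a * g) (g⁻¹ * b * g) ↔ Commute a b := by
  simpa using Commute.conj_iff (a := a) (b := b) g⁻¹

theorem aset_move (h : Hyp0 z Q) {c : G} (hc : Commute c z) (a : G) :
    a ∈ Aset Q (c * x * c⁻¹) ↔ c⁻¹ * a * c ∈ Aset Q x := by
  refine and_congr ⟨fun ha => ?_, fun ha => ?_⟩ ?_
  · have := h.norm c⁻¹ hc.inv_left a ha
    rwa [inv_inv] at this
  · have := h.norm c hc _ ha
    rwa [show c * (c⁻¹ * a * c) * c⁻¹ = a by group] at this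
  · rw [← comm_move c a, show c⁻¹ * (c * x * c⁻¹) * c = x by group]

theorem bset_move {c : G} (hc : Commute c z) (b : G) :
    b ∈ Bset z Q (c * x * c⁻¹) ↔ c⁻¹ * b * c ∈ Bset z Q x := by
  refine and_congr ⟨fun hb => ?_, fun hb => ?_⟩ ?_
  · have := hb.conj c⁻¹
    rwa [inv_inv, show c⁻¹ * (c * x * c⁻¹) * c = x by group] at this
  · have := hb.conj c
    rwa [show c * (c⁻¹ * b * c) * c⁻¹ = b by group] at this
  · rw [← comm_move c b, show c⁻¹ * z * c = z by rw [mul_assoc, ← hc.eq, inv_mul_cancel_left]]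

theorem NX_move (h : Hyp0 z Q) {c : G} (hc : Commute c z) {n : G} :
    n ∈ NX Q (c * x * c⁻¹) ↔ c⁻¹ * n * c ∈ NX Q x := mem_centralizer_move (aset_move h hc)

theorem OX_move (h : Hyp0 z Q) {c : G} (hc : Commute c z) (y : G) :
    y ∈ OX z Q (c * x * c⁻¹) ↔ c⁻¹ * y * c ∈ OX z Q x := by
  refine and_congr (NX_move h hc) ⟨fun e => ?_, fun e => ?_⟩
  · exact e.trans (isConj_iff.2 ⟨c⁻¹, by group⟩)
  · exact e.trans (isConj_iff.2 ⟨c, by group⟩)

/-- the properties are invariant -/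
theorem Good.conj (hG : Good z Q x) (h : Hyp0 z Q) {c : G} (hc : Commute c z) : Good z Q (c * x * c⁻¹) where
  abel a ha b hb := (comm_move c a b).1 (hG.abel _ ((NX_move h hc).1 ha) _ ((NX_move h hc).1 hb))
  ab := by
    ext n
    have h1 := mem_centralizer_move (g := c) (S := Aset Q x ∪ Bset z Q x)
      (S' := Aset Q (c * x * c⁻¹) ∪ Bset z Q (c * x * c⁻¹)) (n := n)
      (fun a => or_congr (aset_move h hc a) (bset_move hc a))
    rw [h1, hG.ab, NX_move h hc]
  card := by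
    rw [← hG.card]
    refine Nat.card_congr
      { toFun := fun y => ⟨c⁻¹ * y.1 * c, (OX_move h hc _).1 y.2⟩
        invFun := fun y => ⟨c * y.1 * c⁻¹, (OX_move h hc _).2 (by
          rw [show c⁻¹ * (c * y.1 * c⁻¹) * c = y.1 by group]; exact y.2)⟩
        left_inv := fun y => Subtype.ext (show c * (c⁻¹ * y.1 * c) * c⁻¹ = y.1 by group)
        right_inv := fun y => Subtype.ext (show c⁻¹ * (c * y.1 * c⁻¹) * c = y.1 by group) }
  trans y hy hne := by
    obtain ⟨k, hk, hky, hN⟩ := hG.trans _ ((OX_move h hc y).1 hy) fun e => hne (by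
      calc y = c * (c⁻¹ * y * c) * c⁻¹ := by group
        _ = z := by rw [e, hc.eq, mul_inv_cancel_right])
    refine ⟨c * k * c⁻¹, (hc.mul_left hk).mul_left hc.inv_left, ?_, ?_⟩
    · rw [show c * k * c⁻¹ * (c * x * c⁻¹) * (c * k * c⁻¹)⁻¹ = c * (k * x * k⁻¹) * c⁻¹ by group, hky]; group
    · ext n
      rw [show y = c * (c⁻¹ * y * c) * c⁻¹ by group, NX_move h hc, NX_move h hc, hN]
  two := by
    rintro ⟨n, hn⟩
    obtain ⟨k, hk⟩ := hG.two ⟨_, (NX_move h hc).1 hn⟩
    refine ⟨k, Subtype.ext ?_⟩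
    have := congrArg Subtype.val hk
    simp only [SubmonoidClass.coe_pow, OneMemClass.coe_one] at this ⊢
    rw [show c⁻¹ * n * c = c⁻¹ * n * c⁻¹⁻¹ by rw [inv_inv], conj_pow, conj_eq_one_iff] at this
    exact this

theorem self_mem_NX (x : G) : x ∈ NX Q x := Subgroup.mem_centralizer_iff.2 fun _ ha => ha.2.eq

/-- exchanging the two members -/
theorem NX_swap (h : Hyp0 z Q) {g : G} (hg : g * z * g⁻¹ = x) (G1 : Good z Q x) (G2 : Good z Q (g⁻¹ * z * g)) {n : G} :
    n ∈ NX Q x ↔ g⁻¹ * n * g ∈ NX Q (g⁻¹ * z * g) := by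
  rw [← G1.ab, ← G2.ab]
  refine mem_centralizer_move fun a => ?_
  have hx : g⁻¹ * x * g = z := by rw [← hg]; group
  have h1 : a ∈ Aset Q x ↔ g⁻¹ * a * g ∈ Bset z Q (g⁻¹ * z * g) := by
    refine and_congr ?_ ?_
    · rw [inX_iff h (g := g⁻¹) (by rw [inv_inv]), inv_inv, show g * (g⁻¹ * a * g) * g⁻¹ = a by group]
    · rw [← comm_move g a x, hx]
  have h2 : a ∈ Bset z Q x ↔ g⁻¹ * a * g ∈ Aset Q (g⁻¹ * z * g) :=
    and_congr (inX_iff h hg) (comm_move g a z).symm
  exact (or_congr h1 h2).trans or_comm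

theorem Twin.swap (T : Twin z x) {g : G} (hg : g * z * g⁻¹ = x) : Twin z (g⁻¹ * z * g) := by
  have hgy : g⁻¹ * x * g = z := by rw [← hg]; group
  refine ⟨isConj_iff.2 ⟨g⁻¹, by rw [inv_inv]⟩, ?_, fun e => T.ne ?_⟩
  · have := (Commute.conj_iff g⁻¹).2 T.comm.symm
    rwa [inv_inv, hgy] at this
  · calc x = g * z * g⁻¹ := hg.symm
      _ = g * (g⁻¹ * z * g) * g⁻¹ := by rw [e]
      _ = z := by group

/-- an element fixing one member and moving the other to a third one -/
theorem exists_shift (h : Hyp0 z Q) (hgood : ∀ x, Twin z x → Good z Q x) (T : Twin z x) {w : G}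
    (hw : w ∈ OX z Q x) (hwx : w ≠ x) : ∃ m : G, Commute m x ∧ m * z * m⁻¹ = w := by
  obtain ⟨g, hg⟩ := isConj_iff.1 T.conj
  have G2 := hgood _ (T.swap hg)
  obtain ⟨k, hkz, hky, -⟩ := G2.trans (g⁻¹ * w * g)
    ⟨(NX_swap h hg (hgood x T) G2).1 hw.1, hw.2.trans (isConj_iff.2 ⟨g⁻¹, by rw [inv_inv]⟩)⟩ fun e => hwx (by
      calc w = g * (g⁻¹ * w * g) * g⁻¹ := by group
        _ = x := by rw [e, hg])
  refine ⟨g * k * g⁻¹, mul_inv_eq_iff_eq_mul.1 ?_, ?_⟩
  · calc g * k * g⁻¹ * x * (g * k * g⁻¹)⁻¹ = g * (k * (g⁻¹ * x * g) * k⁻¹) * g⁻¹ := by group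
      _ = x := by rw [← hg, show g⁻¹ * (g * z * g⁻¹) * g = z by group, hkz.eq, mul_inv_cancel_right]
  · calc g * k * g⁻¹ * z * (g * k * g⁻¹)⁻¹ = g * (k * (g⁻¹ * z * g) * k⁻¹) * g⁻¹ := by group
      _ = w := by rw [hky]; group

theorem pow_two_mod : ∀ j < 22, ∀ k < 22, 2 ^ j % 449 = 2 ^ k % 449 → j = k := by decide +kernel

/-- the counting contradiction -/
theorem no_twin_of_good (h : Hyp0 z Q) (hgood : ∀ x, Twin z x → Good z Q x) : ¬ Twin z x := by
  classical
  intro T
  have G1 := hgood x T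
  set N := NX Q x with hN
  have hzN : z ∈ N := Subgroup.mem_centralizer_iff.2 fun a ha => (comm_z h ha.1).eq
  have hzO : z ∈ OX z Q x := ⟨hzN, IsConj.refl z⟩
  have hxO : x ∈ OX z Q x := ⟨self_mem_NX x, T.conj⟩
  obtain ⟨w, hw, hwz, hwx⟩ : ∃ w ∈ OX z Q x, w ≠ z ∧ w ≠ x := by
    by_contra hh
    push Not at hh
    have hsub : OX z Q x ⊆ {z, x} := fun w hw => by
      by_cases e : w = z
      · exact Or.inl e
      · exact Or.inr (hh w hw e)
    have h1 := Set.ncard_le_ncard hsub (Set.toFinite _)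
    have h2 := Set.ncard_pair T.ne.symm
    rw [← Nat.card_coe_set_eq, G1.card, h2] at h1
    omega
  obtain ⟨j, hjz, hjw, hNw⟩ := G1.trans w hw hwz
  obtain ⟨m, hmx, hmz⟩ := exists_shift h hgood T hw hwx
  obtain ⟨m', hmw, hmz'⟩ := exists_shift h hgood (hjw ▸ T.conj' hjz : Twin z w)
    (show x ∈ OX z Q w from ⟨hNw.symm ▸ self_mem_NX x, T.conj⟩) hwx.symm
  set s := m⁻¹ * m' * j with hs
  have hsz : s * z * s⁻¹ = x := by
    calc s * z * s⁻¹ = m⁻¹ * (m' * (j * z * j⁻¹) * m'⁻¹) * m := by rw [hs]; group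
      _ = x := by rw [hjz.eq, mul_inv_cancel_right, hmz', mul_assoc, ← hmx.eq, inv_mul_cancel_left]
  have hsx : s * x * s⁻¹ = z := by
    calc s * x * s⁻¹ = m⁻¹ * (m' * (j * x * j⁻¹) * m'⁻¹) * m := by rw [hs]; group
      _ = m⁻¹ * w * m := by rw [hjw, hmw.eq, mul_inv_cancel_right]
      _ = z := by rw [← hmz]; group
  have hsy : s⁻¹ * z * s = x := by rw [← hsx]; group
  have hsN : s ∈ Subgroup.normalizer (N : Set G) := Subgroup.mem_normalizer_iff''.2 fun n => by
    have := NX_swap h hsz G1 (by rw [hsy]; exact G1) (n := n)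
    rwa [hsy] at this
  set H := Subgroup.normalizer (N : Set G) with hH
  letI : MulAction H G := MulAction.compHom G ((MulAut.conj (G := G)).comp H.subtype)
  have hsmul : ∀ (a : H) (b : G), a • b = (a : G) * b * (a : G)⁻¹ := fun a b => rfl
  have horb : MulAction.orbit H z = OX z Q x := by
    ext y
    constructor
    · rintro ⟨a, rfl⟩
      exact ⟨(Subgroup.mem_normalizer_iff.1 a.2 z).1 hzN, isConj_iff.2 ⟨a, rfl⟩⟩
    · intro hy
      by_cases e : y = z
      · rw [e]; exact MulAction.mem_orbit_self z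
      obtain ⟨k, hk, hky, hNy⟩ := G1.trans y hy e
      have hkN : k ∈ H := Subgroup.mem_normalizer_iff''.2 fun n => by
        rw [show n ∈ N ↔ n ∈ NX Q (k * x * k⁻¹) by rw [hky, hNy]]
        exact NX_move h hk
      refine ⟨⟨k * s, mul_mem hkN hsN⟩, ?_⟩
      show (⟨k * s, _⟩ : H) • z = y
      rw [hsmul, ← hky, ← hsz]; group
  have hdvd : 449 ∣ Nat.card H := by
    rw [← G1.card, ← horb, Nat.card_congr (MulAction.orbitEquivQuotientStabilizer H z)]
    exact Subgroup.index_dvd_card _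
  haveI : Fact (Nat.Prime 449) := ⟨by norm_num⟩
  obtain ⟨a, ha⟩ := exists_prime_orderOf_dvd_card' 449 hdvd
  have hP : IsPGroup 449 (Subgroup.zpowers a) := IsPGroup.of_card (n := 1) (by rw [Nat.card_zpowers, ha, pow_one])
  letI : MulAction (Subgroup.zpowers a) N :=
    MulAction.compHom N ((Subgroup.normalizerMonoidHom N).comp (Subgroup.zpowers a).subtype)
  have hmod := hP.card_modEq_card_fixedPoints N
  let D : Subgroup N := (Subgroup.centralizer ({(a : G)} : Set G)).subgroupOf N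
  have hfix : Nat.card (MulAction.fixedPoints (Subgroup.zpowers a) N) = Nat.card D := by
    refine Nat.card_congr (Equiv.setCongr (Set.ext fun n => ?_))
    rw [MulAction.mem_fixedPoints, SetLike.mem_coe, Subgroup.mem_subgroupOf, Subgroup.mem_centralizer_singleton_iff]
    constructor
    · intro hn
      have := congrArg Subtype.val (hn ⟨a, Subgroup.mem_zpowers a⟩)
      change (a : G) * n * (a : G)⁻¹ = n at this
      exact (mul_inv_eq_iff_eq_mul.1 this).symm
    · rintro hn ⟨b, hb⟩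
      obtain ⟨i, rfl⟩ := Subgroup.mem_zpowers_iff.1 hb
      refine Subtype.ext (show ((a ^ i : H) : G) * n * ((a ^ i : H) : G)⁻¹ = n from ?_)
      have hc : Commute ((a ^ i : H) : G) n := by
        rw [SubgroupClass.coe_zpow]; exact (show Commute (a : G) n from hn.symm).zpow_left i
      rw [hc.eq, mul_inv_cancel_right]
  rw [hfix] at hmod
  obtain ⟨e1, he1⟩ := (IsPGroup.iff_card (p := 2)).1 G1.two
  obtain ⟨e2, he2⟩ := (IsPGroup.iff_card (p := 2)).1 (G1.two.to_subgroup D)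
  have hNC : N ≤ Subgroup.centralizer ({z} : Set G) := fun n hn =>
    mem_C.2 (Subgroup.mem_centralizer_iff.1 hn z ⟨z_mem h, T.comm.symm⟩).symm
  have hsmall : ∀ {e : ℕ}, 2 ^ e ∣ 512 * 174182400 → e < 22 := fun {e} he => by
    by_contra hh
    exact (show ¬ (2 ^ 22 ∣ 512 * 174182400) by norm_num) ((Nat.pow_dvd_pow 2 (Nat.not_lt.1 hh)).trans he)
  have hd1 : 2 ^ e1 ∣ 512 * 174182400 := he1 ▸ h.cardC ▸ Subgroup.card_dvd_of_le hNC
  have hd2 : 2 ^ e2 ∣ 512 * 174182400 := (he2 ▸ he1 ▸ Subgroup.card_subgroup_dvd_card D).trans hd1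
  rw [he1, he2] at hmod
  have hee := pow_two_mod e1 (hsmall hd1) e2 (hsmall hd2) hmod
  have htop : D = ⊤ := Subgroup.eq_top_of_card_eq D (by rw [he1, he2, hee])
  have haz : Commute (a : G) z := by
    have h1 : (⟨z, hzN⟩ : N) ∈ D := htop ▸ Subgroup.mem_top _
    rw [Subgroup.mem_subgroupOf, Subgroup.mem_centralizer_singleton_iff] at h1
    exact h1.symm
  have := orderOf_dvd_natCard (⟨(a : G), mem_C.2 haz⟩ : Subgroup.centralizer ({z} : Set G))
  rw [h.cardC, Subgroup.orderOf_mk, Subgroup.orderOf_coe, ha] at this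
  norm_num at this

end Cfsg.Agent.Spor.CoWC
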