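import Cfsg.Agent.Lib.Spor.CoWC.SecondA
import Cfsg.Agent.Lib.Spor.CoWC.Orbit

/-!
A representative of rank four with totally singular fixed space: the pair has the properties for the counting.
-/

set_option autoImplicit false
set_option maxRecDepth 100000
set_option linter.unusedSectionVars false
set_option linter.unusedVariables false
set_option linter.style.haveILetI false

namespace Cfsg.Agent.Spor.CoWC

open Cfsg.Agent.Spor.CoT Cfsg.Agent.Spor.CoT.Chk Cfsg.Agent.Classical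

universe u

theorem pol_nondeg {u : V} (hu : ∀ w, pol u w = 0) : u = 0 :=
  QF_pnd u fun w => by rw [← pol_eq_polar]; exact hu w

theorem app_idL {a : ℕ} (ha : a < 256) : app idL a = a := by
  rw [← cols_one, app_col (isCols_cols (1 : OG)) ha, one_smul, enc_vec a ha]

theorem mapsTo_inv {g : Ga} {P : V → Prop} (hP : ∀ v, P v → P (g • v)) {v : V} (hv : P v) : P (g⁻¹ • v) := by
  have key : ∀ n : ℕ, P (g ^ n • v) := fun n => by
    induction n with
    | zero => simpa using hv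
    | succ n ih => rw [pow_succ', mul_smul]; exact hP _ ih
  have e : g⁻¹ = g ^ (orderOf g - 1) := by
    refine inv_eq_of_mul_eq_one_right ?_
    rw [← pow_succ', Nat.sub_add_cancel (orderOf_pos g), pow_orderOf_eq_one]
  rw [e]; exact key _

/-- the checks for such a representative -/
structure CaseEOK (fam S R sA : List ℕ) (cj dj : List (List ℕ × List ℕ × List ℕ)) (d : CaseB) : Prop where
  gs : caseBT fam S d = true
  e : caseBE fam S R sA cj dj d = true
  cls : caseBC S cj dj d = true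
  rows : ∀ q, 60 * q < d.order.length → bigRows d.gs S d.roots d.order (60 * q) ((d.order.drop (60 * q)).take 60) = true
  count : (S :: cj.map Prod.fst).toFinset.card = 28
  hne : idL ≠ S
  back : cj.all (fun a => mulL (mulL a.2.2 S) a.2.1 == a.1) = true
  hA : ∃ a : Ga, cols (a : OG) = sA ∧ a * a = 1

variable {G : Type u} [Group G] [Finite G] {z x : G} {Q : Subgroup G} (F : Frame z Q)
variable {S bs R sA : List ℕ} {fam outM : List ℕ} {cj dj : List (List ℕ × List ℕ × List ℕ)} {cs : List Cand} {d : CaseB}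

theorem fix_iff_R (T : Twin z x) (h : Hyp0 z Q) (hS : cols (T.s F : OG) = S) (D : CandsOK fam S bs R cj cs)
    (E : CaseEOK fam S R sA cj dj d) (v : V) : T.s F • v = v ↔ enc v ∈ R := by
  have he := E.e
  simp only [caseBE, Bool.and_eq_true, List.all_eq_true] at he
  refine ⟨fun hv => List.contains_iff_mem.1 (he.1.1.1.1.1.1.1.1.1 _ ((fix_iff F T hS v).1 hv)), fun hv => ?_⟩
  obtain ⟨w, rfl⟩ := (img_iff F T hS D.rep v).1 hv
  rw [smul_add', ← mul_smul, T.s_sq F h, one_smul, add_comm]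

theorem card_R16 (T : Twin z x) (h : Hyp0 z Q) (hS : cols (T.s F : OG) = S) (D : CandsOK fam S bs R cj cs)
    (E : CaseEOK fam S R sA cj dj d) : Nat.card {v : V // T.s F • v = v} = 16 := by
  classical
  have he := E.e
  simp only [caseBE, Bool.and_eq_true, List.all_eq_true] at he
  rw [fix_card F T hS]
  refine le_antisymm ?_ (rep_facts D.rep).2.2.2.2.1
  have hnd : (fixL S).Nodup := List.nodup_range.filter _
  have h1 : (fixL S).toFinset ⊆ R.toFinset := fun a ha =>
    List.mem_toFinset.2 (List.contains_iff_mem.1 (he.1.1.1.1.1.1.1.1.1 a (List.mem_toFinset.1 ha)))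
  have h2 := Finset.card_le_card h1
  rw [List.toFinset_card_of_nodup hnd] at h2
  have h3 := List.toFinset_card_le R
  have h4 := Nat.eq_of_beq_eq_true he.1.1.1.1.1.1.1.2
  omega

theorem card_kv16 (T : Twin z x) (h : Hyp0 z Q) (hS : cols (T.s F : OG) = S) (D : CandsOK fam S bs R cj cs)
    (E : CaseEOK fam S R sA cj dj d) (hxz : ¬ IsConj z (x * z)) : Nat.card (KV F x) = 16 := by
  rw [← card_R16 F T h hS D E]
  exact Nat.card_congr (Equiv.setCongr (t := {v : V | T.s F • v = v})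
    (Set.ext fun v => ⟨fun hv => kv_fix F T hv, fun hv => kv_all F h T hxz hv⟩))

/-- the bilinear contradiction -/
theorem ev_small (h : Hyp0 z Q) (T : Twin z x) (hxz : ¬ IsConj z (x * z))
    (himg : ∀ v ∈ EV F x, ∃ w, T.s F • w + w = v) {r1 r2 r3 : V} (h1 : r1 ∈ EV F x) (h2 : r2 ∈ EV F x) (h3 : r3 ∈ EV F x)
    (n1 : r1 ≠ 0) (n2 : r2 ≠ 0) (n3 : r3 ≠ 0) (e2 : r1 ≠ r2) (e3 : r1 ≠ r3) (e4 : r2 ≠ r3) (e5 : r1 ≠ r2 + r3) :
    False := by
  have key : ∀ {e p : G}, e ∈ Q → InQ z Q x e → p ∈ Q → F.vec e = T.s F • F.vec p + F.vec p → F.vec e ≠ 0 →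
      x * p * x * p⁻¹ = e * z := by
    intro e p he hx hp hv hne
    obtain ⟨hu, huv⟩ := T.comm_elt F h hp
    rcases vec_eq' F h he hu (hv.trans huv.symm) with r | r
    · exfalso
      have hpx : x * e = p * x * p⁻¹ := by
        rw [← r, show x * (x * p * x * p⁻¹) = x * x * (p * x * p⁻¹) by group, T.sq h, one_mul]
      have := inX_only h (inX_mul h (T.inX_self h) hx) (hpx ▸ T.conj.trans (isConj_iff.2 ⟨p, rfl⟩))
      exact hne (by rw [show e = 1 by simpa using this, vec_one' F h])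
    · exact r
  obtain ⟨e, he, hx, hev⟩ := h1
  obtain ⟨w, hw⟩ := himg r1 ⟨e, he, hx, hev⟩
  obtain ⟨p, hp, rfl⟩ := F.vec_surj w
  have main : ∀ r ∈ EV F x, r ≠ 0 → r ≠ r1 → pol (F.vec p) r = 1 := by
    intro r hr hr0 hr1
    obtain ⟨e', he', hx', hev'⟩ := hr
    obtain ⟨w', hw'⟩ := himg r ⟨e', he', hx', hev'⟩
    obtain ⟨q, hq, rfl⟩ := F.vec_surj w'
    refine ((show ∀ b : ZMod 2, b = 0 ∨ b = 1 by decide) _).resolve_left fun h0 => ?_
    obtain ⟨hu, huv⟩ := T.comm_elt F h hq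
    have hc : Commute p (x * q * x * q⁻¹) := (F.comm_iff p hp _ hu).2 (by rw [huv, hw', h0])
    have k1 := key he hx hp (hev.trans hw.symm) (by rw [hev]; exact n1)
    have k2 := key he' hx' hq (hev'.trans hw'.symm) (by rw [hev']; exact hr0)
    have k3 := key (e := e * e') (p := p * q) (mul_mem he he') (inX_mul h hx hx') (mul_mem hp hq)
      (by rw [F.vec_mul _ he _ he', F.vec_mul _ hp _ hq, hev, hev', ← hw, ← hw', smul_add']; abel)
      (by
        rw [F.vec_mul _ he _ he', hev, hev']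
        intro e0
        exact hr1 (by rw [eq_neg_of_add_eq_zero_right e0, ZModModule.neg_eq_self]))
    have hxx := T.sq h
    have e1 : x * (p * q) * x * (p * q)⁻¹ = x * p * x * p⁻¹ * (x * q * x * q⁻¹) := by
      calc x * (p * q) * x * (p * q)⁻¹ = x * p * (x * x) * q * x * q⁻¹ * p⁻¹ := by rw [hxx]; group
        _ = x * p * x * ((x * q * x * q⁻¹) * p⁻¹) := by group
        _ = x * p * x * (p⁻¹ * (x * q * x * q⁻¹)) := by rw [hc.inv_left.eq]
        _ = _ := by group
    rw [k1, k2] at e1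
    rw [e1, show e * z * (e' * z) = e * e' * (z * z) by
      rw [mul_assoc e z, ← mul_assoc z e', ← (comm_z h he').eq]; group, z_sq h, mul_one, left_eq_mul] at k3
    exact z_ne_one h k3
  have a2 := main r2 h2 n2 e2.symm
  have a3 := main r3 h3 n3 e3.symm
  have a4 := main (r2 + r3) (ev_add F h h2 h3) (fun e => e4 (by
    rw [eq_neg_of_add_eq_zero_left e, ZModModule.neg_eq_self])) e5.symm
  rw [pol_add_right, a2, a3] at a4
  revert a4; decide

variable (h : Hyp0 z Q) (T : Twin z x) (hS : cols (T.s F : OG) = S) (Df : FamData fam outM)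
variable (D : CandsOK fam S bs R cj cs) (E : CaseEOK fam S R sA cj dj d) (hxz : ¬ IsConj z (x * z))
include h hS Df D E hxz

theorem ev_zero_E : ∀ v ∈ EV F x, v = 0 := by
  classical
  intro v hv
  by_contra hv0
  have he := E.e
  simp only [caseBE, Bool.and_eq_true, List.all_eq_true, Bool.or_eq_true] at he
  have hgs := E.gs
  simp only [caseBT, List.all_eq_true, Bool.and_eq_true, beq_iff_eq] at hgs
  have hvR : ∀ {u : V}, u ∈ EV F x → enc u ∈ R := fun hu => (fix_iff_R F T h hS D E _).1 (kv_fix F T (ev_kv F h T hu))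
  have hall : ∀ u : V, T.s F • u = u → u ∈ EV F x := by
    intro u hu
    rcases he.1.1.1.1.1.1.2 (enc v) (hvR hv) with e | e
    · exact absurd (enc_eq_zero.1 (Nat.eq_of_beq_eq_true e)) hv0
    have := (ev_grow F h T hxz hS Df hgs hv 4 (enc u)
      (List.contains_iff_mem.1 (e _ ((fix_iff_R F T h hS D E u).1 hu)))).2
    rwa [vec_enc] at this
  have hcard : 16 ≤ (EV F x).ncard := by
    rw [← Nat.card_coe_set_eq, ← card_R16 F T h hS D E]
    exact Nat.card_le_card_of_injective (fun u : {v : V // T.s F • v = v} => (⟨u.1, hall _ u.2⟩ : EV F x))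
      fun a b e => Subtype.ext (congrArg (fun u : EV F x => (u : V)) e)
  obtain ⟨r2, h2, n2⟩ : ∃ r ∈ EV F x, r ∉ ({0, v} : Finset V) := by
    by_contra! hh
    have := Set.ncard_le_ncard (s := EV F x) (t := ↑({0, v} : Finset V)) hh (Finset.finite_toSet _)
    rw [Set.ncard_coe_finset] at this
    have := Finset.card_le_two (a := (0 : V)) (b := v)
    omega
  obtain ⟨r3, h3, n3⟩ : ∃ r ∈ EV F x, r ∉ ({0, v, r2, v + r2} : Finset V) := by
    by_contra! hh
    have := Set.ncard_le_ncard (s := EV F x) (t := ↑({0, v, r2, v + r2} : Finset V)) hh (Finset.finite_toSet _)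
    rw [Set.ncard_coe_finset] at this
    have := Finset.card_le_four (a := (0 : V)) (b := v) (c := r2) (d := v + r2)
    omega
  simp only [Finset.mem_insert, Finset.mem_singleton, not_or] at n2 n3
  refine ev_small F h T hxz (fun u hu => (img_iff F T hS D.rep u).1 (hvR hu)) hv h2 h3 hv0 n2.1 n3.1
    (Ne.symm n2.2) (Ne.symm n3.2.1) (Ne.symm n3.2.2.1) fun e => n3.2.2.2 ?_
  rw [e, add_comm r2 r3, add_assoc, ZModModule.add_self, add_zero]

/-- maps fixing the image pointwise -/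
theorem stab_mem {g : Ga} (hg : ∀ v, enc v ∈ R → g • v = v) : cols (g : OG) ∈ d.T := by
  have he := E.e
  simp only [caseBE, Bool.and_eq_true, List.all_eq_true] at he
  obtain ⟨hm, -⟩ := mem_extend (g := (g : OG)) he.1.1.1.1.1.2
    (fun a ha => by
      rw [app_idL ha, app_idL]
      rw [app_col (isCols_cols _) ha]; exact enc_lt _)
    (fun v hv hlt => ⟨0, by simp, by
      rw [show Nat.xor v 0 = v from Nat.xor_zero v, app_col (isCols_cols _) hlt, show (g : OG) • vec v = g • vec v from rfl,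
        hg _ (by rw [enc_vec v hlt]; exact hv), enc_vec v hlt]⟩)
  exact List.contains_iff_mem.1 (he.1.1.1.1.2 _ (List.mem_filter.2 ⟨hm, famOne_Ga Df g⟩))

theorem act_fix {g : Ga} (hg : g ∈ T.act F h) {v : V} (hv : enc v ∈ R) : g • v = v := by
  have := ev_zero_E F h T hS Df D E hxz _
    (act_kv F h T hg (kv_all F h T hxz ((fix_iff_R F T h hS D E v).2 hv)))
  rw [eq_neg_of_add_eq_zero_left this, ZModModule.neg_eq_self]

/-- the image is the allowed list -/
theorem act_eq (h32 : Nat.card (BX h T) = 32) {b : List ℕ} : b ∈ actCols F h T ↔ b ∈ d.W := by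
  classical
  have he := E.e
  simp only [caseBE, Bool.and_eq_true, List.all_eq_true] at he
  have hc : Nat.card (T.act F h) = 32 := by
    have := card_act F h T
    rw [ev_card_one F h T (ev_zero_E F h T hS Df D E hxz), one_mul] at this
    omega
  have habs := big_absent F h T hxz hS E.hne Df E.gs E.rows hc.le
  have hsub : actCols F h T ⊆ d.W.toFinset := by
    intro b hb
    obtain ⟨g, hg, rfl⟩ := (mem_actCols F h T).1 hb
    have := stab_mem F h T hS Df D E hxz fun v hv => act_fix F h T hS Df D E hxz hg hv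
    rw [CaseB.T, List.mem_append, List.mem_map] at this
    rcases this with e | ⟨a, ha, e⟩
    · exact List.mem_toFinset.2 e
    · exact absurd (e ▸ hb) (habs a ha)
  rw [Finset.eq_of_subset_of_card_le hsub (by
    rw [card_actCols, hc]
    exact (List.toFinset_card_le _).trans (Nat.le_of_lt_succ (Nat.le_of_ble_eq_true he.1.1.2))), List.mem_toFinset]

theorem class_cases {g : Ga} (hg : ∀ v, enc v ∈ R → g • v = v) :
    g = 1 ∨ cols (g : OG) ∈ S :: cj.map Prod.fst ∨ ∃ k : Ga, cols ((k * g * k⁻¹ : Ga) : OG) = sA := by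
  have he := E.e
  simp only [caseBE, Bool.and_eq_true, List.all_eq_true] at he
  have hc := E.cls
  simp only [caseBC, Bool.and_eq_true, List.all_eq_true, Bool.or_eq_true, beq_iff_eq, List.any_eq_true] at hc
  rcases hc.1.1.1 _ (stab_mem F h T hS Df D E hxz hg) with ((e | e) | ⟨a, ha, e⟩) | ⟨a, ha, e⟩
  · exact Or.inl (Subtype.ext (cols_inj' (e.trans cols_one.symm)))
  · exact Or.inr (Or.inl (by rw [e]; exact List.mem_cons_self))
  · exact Or.inr (Or.inl (List.mem_cons_of_mem _ (List.mem_map.2 ⟨a, ha, e⟩)))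
  · have hd := he.2 a ha
    simp only [conjOK, Bool.and_eq_true, beq_iff_eq] at hd
    obtain ⟨k, hk, hki⟩ := pair_elt Df hd.1
    obtain ⟨a', ha', -⟩ := E.hA
    refine Or.inr (Or.inr ⟨k, ?_⟩)
    have h1 : k * g = a' * k := Subtype.ext (cols_inj' (g := ((k * g : Ga) : OG)) (h := ((a' * k : Ga) : OG))
      (by rw [cols_mul', cols_mul', hk, ha', ← e, hd.2]))
    rw [h1, mul_inv_cancel_right, ha']

theorem stab_sq {g : Ga} (hg : ∀ v, enc v ∈ R → g • v = v) : g * g = 1 := by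
  rcases class_cases F h T hS Df D E hxz hg with e | e | ⟨k, hk⟩
  · rw [e, mul_one]
  · rcases List.mem_cons.1 e with e | e
    · rw [show g = T.s F from Subtype.ext (cols_inj' (e.trans hS.symm)), T.s_sq F h]
    · obtain ⟨a, ha, e⟩ := List.mem_map.1 e
      have hd := List.all_eq_true.1 D.conj a ha
      simp only [conjOK, Bool.and_eq_true, beq_iff_eq] at hd
      obtain ⟨k, hk, -⟩ := pair_elt Df hd.1
      have h1 : k * g = T.s F * k := Subtype.ext (cols_inj' (g := ((k * g : Ga) : OG)) (h := ((T.s F * k : Ga) : OG))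
        (by rw [cols_mul', cols_mul', hk, hS, ← e, hd.2]))
      have h2 := T.s_sq F h
      rwa [eq_mul_inv_of_mul_eq h1.symm, conj_mul, conj_eq_one_iff] at h2
  · obtain ⟨a', ha', ha2⟩ := E.hA
    rw [← show k * g * k⁻¹ = a' from Subtype.ext (cols_inj' (hk.trans ha'.symm)), conj_mul, conj_eq_one_iff] at ha2
    exact ha2

theorem aset_iff {a : G} : a ∈ Aset Q x ↔ a ∈ Q ∧ enc (F.vec a) ∈ R := by
  refine and_congr_right fun ha => ?_
  rw [← kv_iff F h T ha, ← fix_iff_R F T h hS D E]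
  exact ⟨fun e => kv_fix F T e, fun e => kv_all F h T hxz e⟩

/-- lifts preserving the image normalise the centraliser -/
theorem norm_of_stab {l : G} (hl : Commute l z) (hR : ∀ v, enc v ∈ R → enc (F.π (cC hl) • v) ∈ R) {n : G} :
    n ∈ NX Q x ↔ l⁻¹ * n * l ∈ NX Q x := by
  refine mem_centralizer_move fun a => ?_
  rw [aset_iff F h T hS Df D E hxz, aset_iff F h T hS Df D E hxz]
  have hli : Commute l⁻¹ z := hl.inv_left
  have e : cC hli = (cC hl)⁻¹ := rfl
  constructor
  · rintro ⟨ha, hv⟩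
    have h1 := h.norm l⁻¹ hli a ha
    have h2 := conj_eq F hli ha
    rw [inv_inv] at h1 h2
    exact ⟨h1, by rw [h2, e, map_inv]; exact mapsTo_inv (P := fun v => enc v ∈ R) hR hv⟩
  · rintro ⟨ha, hv⟩
    have h1 := h.norm l hl _ ha
    have h2 := conj_eq F hl ha
    rw [show l * (l⁻¹ * a * l) * l⁻¹ = a by group] at h1 h2
    exact ⟨h1, by rw [h2]; exact hR _ hv⟩

theorem norm_Q {p : G} (hp : p ∈ Q) {n : G} : n ∈ NX Q x ↔ p⁻¹ * n * p ∈ NX Q x :=
  norm_of_stab F h T hS Df D E hxz (comm_z h hp) fun v hv => by rw [(F.π_ker _).2 hp, one_smul]; exact hv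

theorem inN_comm {n : G} (hn : n ∈ NX Q x) : Commute n z :=
  (Subgroup.mem_centralizer_iff.1 hn z ⟨z_mem h, T.comm.symm⟩).symm

theorem inN_stab {n : G} (hn : n ∈ NX Q x) {v : V} (hv : enc v ∈ R) :
    F.π (cC (inN_comm F h T hS Df D E hxz hn)) • v = v := by
  obtain ⟨a, ha, rfl⟩ := F.vec_surj v
  have hc : a * n = n * a := Subgroup.mem_centralizer_iff.1 hn a ((aset_iff F h T hS Df D E hxz).2 ⟨ha, hv⟩)
  rw [← conj_eq F _ ha, ← hc, mul_inv_cancel_right]

theorem inN_Q {n : G} (hn : n ∈ NX Q x) (hq : n ∈ Q) : enc (F.vec n) ∈ R := by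
  rw [← fix_iff_R F T h hS D E]
  have hperp : ∀ w, pol (F.vec n) (T.s F • w + w) = 0 := fun w => by
    have hfix : T.s F • (T.s F • w + w) = T.s F • w + w := by
      rw [smul_add', ← mul_smul, T.s_sq F h, one_smul, add_comm]
    obtain ⟨u, hu, huv⟩ := F.vec_surj (T.s F • w + w)
    rw [← huv, ← F.comm_iff n hq u hu]
    exact (Subgroup.mem_centralizer_iff.1 hn u ((aset_iff F h T hS Df D E hxz).2
      ⟨hu, by rw [huv]; exact (fix_iff_R F T h hS D E _).1 hfix⟩)).symm
  have h0 : T.s F • F.vec n + F.vec n = 0 := pol_nondeg fun w => by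
    rw [pol_add_left, ← smul_pol (T.s F), ← mul_smul, T.s_sq F h, one_smul, ← pol_add_right]
    exact hperp w
  rw [eq_neg_of_add_eq_zero_left h0, ZModModule.neg_eq_self]

/-- elements of the extraspecial subgroup in it are central in it -/
theorem inN_Q_central {q n : G} (hq : q ∈ Q) (hqN : q ∈ NX Q x) (hn : n ∈ NX Q x) : Commute q n :=
  Subgroup.mem_centralizer_iff.1 hn q ((aset_iff F h T hS Df D E hxz).2 ⟨hq, inN_Q F h T hS Df D E hxz hqN hq⟩)

theorem bx_mem {b : Subgroup.centralizer ({z} : Set G)} (hb : b ∈ BX h T) : (b : G) ∈ NX Q x := by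
  refine Subgroup.mem_centralizer_iff.2 fun a ha => ?_
  have hm := h.norm (b : G) (mem_C.1 b.2) a ha.1
  have hQ : (b : G) * a * (b : G)⁻¹ * a⁻¹ ∈ Q := mul_mem hm (inv_mem ha.1)
  have hX : InQ z Q x ((b : G) * a * (b : G)⁻¹ * a⁻¹) := by
    rw [show (b : G) * a * (b : G)⁻¹ * a⁻¹ = (b : G) * (a * (b : G)⁻¹ * a⁻¹) by group]
    exact inX_mul h hb (inX_conj h (inX_inv hb) ha.2)
  have h1 := ev_inj F h T hQ hX (ev_zero_E F h T hS Df D E hxz _ ⟨_, hQ, hX, rfl⟩)
  exact (mul_inv_eq_iff_eq_mul.1 (mul_inv_eq_one.1 h1)).symm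

theorem bx_comm {b b' : Subgroup.centralizer ({z} : Set G)} (hb : b ∈ BX h T) (hb' : b' ∈ BX h T) :
    Commute (b : G) b' := by
  set g := F.π b with hg
  set g' := F.π b' with hg'
  have hfix : ∀ {c : Ga}, c ∈ T.act F h → c * c = 1 := fun {c} hc =>
    stab_sq F h T hS Df D E hxz fun v hv => act_fix F h T hS Df D E hxz hc hv
  have hgm : g ∈ T.act F h := ⟨b, hb, rfl⟩
  have hgm' : g' ∈ T.act F h := ⟨b', hb', rfl⟩
  have hc : g * g' = g' * g := by
    calc g * g' = g * (g * g' * (g * g')) * g' := by rw [hfix (mul_mem hgm hgm'), mul_one]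
      _ = g * g * (g' * g) * (g' * g') := by group
      _ = g' * g := by rw [hfix hgm, hfix hgm', one_mul, mul_one]
  have h1 : F.π (b * b' * b⁻¹ * b'⁻¹) = 1 := by
    rw [map_mul, map_mul, map_mul, map_inv, map_inv, ← hg, ← hg', hc]; group
  have hQ : (b : G) * b' * (b : G)⁻¹ * (b' : G)⁻¹ ∈ Q := (F.π_ker _).1 h1
  have hX : InQ z Q x ((b : G) * b' * (b : G)⁻¹ * (b' : G)⁻¹) :=
    inX_mul h (inX_mul h (inX_mul h hb hb') (inX_inv hb)) (inX_inv hb')
  have h2 := ev_inj F h T hQ hX (ev_zero_E F h T hS Df D E hxz _ ⟨_, hQ, hX, rfl⟩)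
  exact mul_inv_eq_iff_eq_mul.1 (mul_inv_eq_one.1 h2)

variable (h32 : Nat.card (BX h T) = 32)
include h32

theorem W_comm {m n : G} (hm : m ∈ NX Q x) (hn : n ∈ NX Q x)
    (hmW : cols (F.π (cC (inN_comm F h T hS Df D E hxz hm)) : OG) ∈ d.W)
    (hnW : cols (F.π (cC (inN_comm F h T hS Df D E hxz hn)) : OG) ∈ d.W) : Commute m n := by
  have key : ∀ {m : G} (hm : m ∈ NX Q x), cols (F.π (cC (inN_comm F h T hS Df D E hxz hm)) : OG) ∈ d.W →
      ∃ b, b ∈ BX h T ∧ (b : G)⁻¹ * m ∈ Q ∧ (b : G)⁻¹ * m ∈ NX Q x := by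
    intro m hm hW
    obtain ⟨g, hg, hgc⟩ := (mem_actCols F h T).1 ((act_eq F h T hS Df D E hxz h32).2 hW)
    obtain ⟨b, hb, rfl⟩ := hg
    refine ⟨b, hb, (F.π_ker (b⁻¹ * cC (inN_comm F h T hS Df D E hxz hm))).1 ?_,
      mul_mem (inv_mem (bx_mem F h T hS Df D E hxz hb)) hm⟩
    rw [map_mul, map_inv, Subtype.ext (cols_inj' hgc), inv_mul_cancel]
  obtain ⟨b, hb, hq, hqN⟩ := key hm hmW
  obtain ⟨b', hb', hq', hqN'⟩ := key hn hnW
  have c1 : Commute (b : G) n := by
    have := (bx_comm F h T hS Df D E hxz hb hb').mul_right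
      (inN_Q_central F h T hS Df D E hxz hq' hqN' (bx_mem F h T hS Df D E hxz hb)).symm
    rwa [mul_inv_cancel_left] at this
  have := c1.mul_left (inN_Q_central F h T hS Df D E hxz hq hqN hn)
  rwa [mul_inv_cancel_left] at this

omit h32 in
theorem class_move {g : Ga} (hg : cols (g : OG) ∈ S :: cj.map Prod.fst) :
    ∃ l, ∃ hl : Commute l z, F.π (cC hl) * g * (F.π (cC hl))⁻¹ = T.s F ∧
      ∀ n, n ∈ NX Q x ↔ l⁻¹ * n * l ∈ NX Q x := by
  rcases List.mem_cons.1 hg with e | e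
  · refine ⟨1, Commute.one_left z, ?_, fun n => by simp⟩
    rw [show cC (Commute.one_left z) = 1 from rfl, map_one, one_mul, inv_one, mul_one]
    exact Subtype.ext (cols_inj' (e.trans hS.symm))
  · obtain ⟨a, ha, e⟩ := List.mem_map.1 e
    have hd := List.all_eq_true.1 D.conj a ha
    simp only [conjOK, Bool.and_eq_true, beq_iff_eq] at hd
    obtain ⟨k, hk, -⟩ := pair_elt Df hd.1
    obtain ⟨⟨l, hl⟩, rfl⟩ := F.π_surj k
    have hl' : Commute l z := mem_C.1 hl
    have h1 : F.π (cC hl') * g = T.s F * F.π (cC hl') :=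
      Subtype.ext (cols_inj' (g := ((F.π (cC hl') * g : Ga) : OG)) (h := ((T.s F * F.π (cC hl') : Ga) : OG))
        (by rw [cols_mul', cols_mul', show cols (F.π (cC hl') : OG) = a.2.1 from hk, hS, ← e, hd.2]))
    refine ⟨l, hl', by rw [h1, mul_inv_cancel_right], fun n => norm_of_stab F h T hS Df D E hxz hl' fun v hv => ?_⟩
    have he := E.e
    simp only [caseBE, Bool.and_eq_true, List.all_eq_true] at he
    rw [smul_code, show cols (F.π (cC hl') : OG) = a.2.1 from hk]
    exact List.contains_iff_mem.1 (he.1.2 a ha _ hv)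

omit h32 in
theorem π_conj {a b : G} (ha : Commute a z) (hb : Commute b z) (hab : Commute (a * b * a⁻¹) z) :
    F.π (cC hab) = F.π (cC ha) * F.π (cC hb) * (F.π (cC ha))⁻¹ := by
  rw [← map_inv, ← map_mul, ← map_mul]; rfl

omit h32 in
theorem fibre_form {y : G} (hy : y ∈ NX Q x) (hys : F.π (cC (inN_comm F h T hS Df D E hxz hy)) = T.s F) :
    x⁻¹ * y ∈ Q ∧ x⁻¹ * y ∈ NX Q x :=
  ⟨(F.π_ker ((cC T.comm)⁻¹ * cC (inN_comm F h T hS Df D E hxz hy))).1 (by
    rw [map_mul, map_inv, hys]; exact inv_mul_cancel _), mul_mem (inv_mem (self_mem_NX x)) hy⟩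

/-- the second involution commutes with all lifts of conjugates of its image -/
theorem class_comm {y : G} (hy : y ∈ NX Q x)
    (hyc : cols (F.π (cC (inN_comm F h T hS Df D E hxz hy)) : OG) ∈ S :: cj.map Prod.fst) : Commute x y := by
  have hSW : ∀ {n : G} (hn : n ∈ NX Q x), F.π (cC (inN_comm F h T hS Df D E hxz hn)) = T.s F →
      cols (F.π (cC (inN_comm F h T hS Df D E hxz hn)) : OG) ∈ d.W := fun hn e => by
    rw [e, ← act_eq F h T hS Df D E hxz h32]
    exact (mem_actCols F h T).2 ⟨_, s_mem_act F h T, rfl⟩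
  have hxW := hSW (self_mem_NX x) rfl
  rcases List.mem_cons.1 hyc with e | e
  · exact W_comm F h T hS Df D E hxz h32 (self_mem_NX x) hy hxW (by
      rw [e, ← act_eq F h T hS Df D E hxz h32]; exact (mem_actCols F h T).2 ⟨_, s_mem_act F h T, hS⟩)
  obtain ⟨a, ha, e⟩ := List.mem_map.1 e
  have hc := E.cls
  simp only [caseBC, Bool.and_eq_true, List.all_eq_true, Bool.or_eq_true, beq_iff_eq, List.any_eq_true] at hc
  rcases hc.2 a ha with r | ⟨f, hf, r1, r2⟩
  · exact W_comm F h T hS Df D E hxz h32 (self_mem_NX x) hy hxW (by rw [← e]; exact List.contains_iff_mem.1 r)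
  have hd := List.all_eq_true.1 D.conj f hf
  simp only [conjOK, Bool.and_eq_true, beq_iff_eq] at hd
  obtain ⟨k, hk, hki⟩ := pair_elt Df hd.1
  obtain ⟨⟨l, hl⟩, rfl⟩ := F.π_surj k
  have hlz : Commute l z := mem_C.1 hl
  have he := E.e
  simp only [caseBE, Bool.and_eq_true, List.all_eq_true] at he
  have hk' : cols (F.π (cC hlz) : OG) = f.2.1 := hk
  have hki' : cols (((F.π (cC hlz))⁻¹ : Ga) : OG) = f.2.2 := hki
  have hn : ∀ n, n ∈ NX Q x ↔ l⁻¹ * n * l ∈ NX Q x := fun n =>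
    norm_of_stab F h T hS Df D E hxz hlz fun v hv => by
      rw [smul_code, hk']; exact List.contains_iff_mem.1 (he.1.2 f hf _ hv)
  have hmv : ∀ {n : G}, n ∈ NX Q x → l * n * l⁻¹ ∈ NX Q x := fun {n} h1 =>
    (hn _).2 (by rwa [show l⁻¹ * (l * n * l⁻¹) * l = n by group])
  refine (Commute.conj_iff l).1 (W_comm F h T hS Df D E hxz h32 (hmv (self_mem_NX x)) (hmv hy) ?_ ?_)
  · rw [π_conj F h T hS Df D E hxz hlz T.comm, cols_mul', cols_mul', hk', hki', show cols (F.π (cC T.comm) : OG) = S from hS]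
    exact List.contains_iff_mem.1 r1
  · rw [π_conj F h T hS Df D E hxz hlz (inN_comm F h T hS Df D E hxz hy), cols_mul', cols_mul', hk', hki', ← e]
    exact List.contains_iff_mem.1 r2

omit h32 in
theorem class_lift {b : List ℕ} (hb : b ∈ cj.map Prod.fst) :
    ∃ y, ∃ hy : y ∈ NX Q x, cols (F.π (cC (inN_comm F h T hS Df D E hxz hy)) : OG) = b := by
  obtain ⟨a, ha, rfl⟩ := List.mem_map.1 hb
  have hd := List.all_eq_true.1 D.conj a ha
  simp only [conjOK, Bool.and_eq_true, beq_iff_eq] at hd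
  obtain ⟨k, hk, hki⟩ := pair_elt Df hd.1
  obtain ⟨⟨l, hl⟩, rfl⟩ := F.π_surj k
  have hlz : Commute l z := mem_C.1 hl
  have he := E.e
  simp only [caseBE, Bool.and_eq_true, List.all_eq_true] at he
  have hk' : cols (F.π (cC hlz) : OG) = a.2.1 := hk
  have hki' : cols (((F.π (cC hlz))⁻¹ : Ga) : OG) = a.2.2 := hki
  have hy : l⁻¹ * x * l ∈ NX Q x :=
    (norm_of_stab F h T hS Df D E hxz hlz fun v hv => by
      rw [smul_code, hk']; exact List.contains_iff_mem.1 (he.1.2 a ha _ hv)).1 (self_mem_NX x)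
  refine ⟨_, hy, ?_⟩
  rw [show cC (inN_comm F h T hS Df D E hxz hy) = (cC hlz)⁻¹ * cC T.comm * cC hlz from rfl, map_mul, map_mul, map_inv,
    cols_mul', cols_mul', hk', hki', show cols (F.π (cC T.comm) : OG) = S from hS]
  have hb := List.all_eq_true.1 E.back a ha
  exact beq_iff_eq.1 hb

omit h32 in
theorem inN_one {y : G} (hy : y ∈ NX Q x) (e : F.π (cC (inN_comm F h T hS Df D E hxz hy)) = 1) : y ∈ Q :=
  (F.π_ker _).1 e

/-- the second involution is central -/
theorem x_central {n : G} (hn : n ∈ NX Q x) : Commute x n := by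
  set g := F.π (cC (inN_comm F h T hS Df D E hxz hn)) with hg
  have hstab : ∀ v, enc v ∈ R → g • v = v := fun v hv => inN_stab F h T hS Df D E hxz hn hv
  have hc := E.cls
  simp only [caseBC, Bool.and_eq_true, List.all_eq_true, Bool.or_eq_true, beq_iff_eq, List.any_eq_true] at hc
  rcases hc.1.1.2 _ (stab_mem F h T hS Df D E hxz hstab) with ((e | e) | ⟨a, ha, e⟩) | ⟨a, ha, b, hb, e⟩
  · exact (inN_Q_central F h T hS Df D E hxz (inN_one F h T hS Df D E hxz hn
      (Subtype.ext (cols_inj' (e.trans cols_one.symm)))) hn (self_mem_NX x)).symm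
  · exact class_comm F h T hS Df D E hxz h32 hn (by rw [e]; exact List.mem_cons_self)
  · exact class_comm F h T hS Df D E hxz h32 hn (List.mem_cons_of_mem _ (List.mem_map.2 ⟨a, ha, e⟩))
  obtain ⟨y, hy, hyc⟩ := class_lift F h T hS Df D E hxz (List.mem_map.2 ⟨a, ha, rfl⟩)
  obtain ⟨u, hu, huc⟩ := class_lift F h T hS Df D E hxz (List.mem_map.2 ⟨b, hb, rfl⟩)
  have c1 := class_comm F h T hS Df D E hxz h32 hy (by rw [hyc]; exact List.mem_cons_of_mem _ (List.mem_map.2 ⟨a, ha, rfl⟩))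
  have c2 := class_comm F h T hS Df D E hxz h32 hu (by rw [huc]; exact List.mem_cons_of_mem _ (List.mem_map.2 ⟨b, hb, rfl⟩))
  have hgyu : F.π (cC (inN_comm F h T hS Df D E hxz hy)) * F.π (cC (inN_comm F h T hS Df D E hxz hu)) = g := by
    refine Subtype.ext (cols_inj' ?_)
    rw [cols_mul', hyc, huc, e]
  have hq : (y * u)⁻¹ * n ∈ Q := (F.π_ker ((cC (inN_comm F h T hS Df D E hxz hy) * cC (inN_comm F h T hS Df D E hxz hu))⁻¹ *
    cC (inN_comm F h T hS Df D E hxz hn))).1 (by rw [map_mul, map_inv, map_mul, hgyu]; exact inv_mul_cancel _)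
  have := (c1.mul_right c2).mul_right (inN_Q_central F h T hS Df D E hxz hq
    (mul_mem (inv_mem (mul_mem hy hu)) hn) (self_mem_NX x)).symm
  rwa [mul_inv_cancel_left] at this

theorem class_central {y n : G} (hy : y ∈ NX Q x) (hn : n ∈ NX Q x)
    (hyc : cols (F.π (cC (inN_comm F h T hS Df D E hxz hy)) : OG) ∈ S :: cj.map Prod.fst) : Commute y n := by
  obtain ⟨l, hl, hls, hln⟩ := class_move F h T hS Df D E hxz hyc
  have hmv : ∀ {n : G}, n ∈ NX Q x → l * n * l⁻¹ ∈ NX Q x := fun {n} h1 =>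
    (hln _).2 (by rwa [show l⁻¹ * (l * n * l⁻¹) * l = n by group])
  refine (Commute.conj_iff l).1 ?_
  obtain ⟨hq, hqN⟩ := fibre_form F h T hS Df D E hxz (hmv hy)
    (by rw [π_conj F h T hS Df D E hxz hl (inN_comm F h T hS Df D E hxz hy)]; exact hls)
  have := (x_central F h T hS Df D E hxz h32 (hmv hn)).mul_left (inN_Q_central F h T hS Df D E hxz hq hqN (hmv hn))
  rwa [mul_inv_cancel_left] at this

theorem abelian {m n : G} (hm : m ∈ NX Q x) (hn : n ∈ NX Q x) : Commute m n := by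
  set g := F.π (cC (inN_comm F h T hS Df D E hxz hm)) with hg
  have hstab : ∀ v, enc v ∈ R → g • v = v := fun v hv => inN_stab F h T hS Df D E hxz hm hv
  have hc := E.cls
  simp only [caseBC, Bool.and_eq_true, List.all_eq_true, Bool.or_eq_true, beq_iff_eq, List.any_eq_true] at hc
  rcases hc.1.1.2 _ (stab_mem F h T hS Df D E hxz hstab) with ((e | e) | ⟨a, ha, e⟩) | ⟨a, ha, b, hb, e⟩
  · exact inN_Q_central F h T hS Df D E hxz (inN_one F h T hS Df D E hxz hm
      (Subtype.ext (cols_inj' (e.trans cols_one.symm)))) hm hn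
  · exact class_central F h T hS Df D E hxz h32 hm hn (by rw [e]; exact List.mem_cons_self)
  · exact class_central F h T hS Df D E hxz h32 hm hn (List.mem_cons_of_mem _ (List.mem_map.2 ⟨a, ha, e⟩))
  obtain ⟨y, hy, hyc⟩ := class_lift F h T hS Df D E hxz (List.mem_map.2 ⟨a, ha, rfl⟩)
  obtain ⟨u, hu, huc⟩ := class_lift F h T hS Df D E hxz (List.mem_map.2 ⟨b, hb, rfl⟩)
  have c1 := class_central F h T hS Df D E hxz h32 hy hn (by rw [hyc]; exact List.mem_cons_of_mem _ (List.mem_map.2 ⟨a, ha, rfl⟩))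
  have c2 := class_central F h T hS Df D E hxz h32 hu hn (by rw [huc]; exact List.mem_cons_of_mem _ (List.mem_map.2 ⟨b, hb, rfl⟩))
  have hgyu : F.π (cC (inN_comm F h T hS Df D E hxz hy)) * F.π (cC (inN_comm F h T hS Df D E hxz hu)) = g := by
    refine Subtype.ext (cols_inj' ?_)
    rw [cols_mul', hyc, huc, e]
  have hq : (y * u)⁻¹ * m ∈ Q := (F.π_ker ((cC (inN_comm F h T hS Df D E hxz hy) * cC (inN_comm F h T hS Df D E hxz hu))⁻¹ *
    cC (inN_comm F h T hS Df D E hxz hm))).1 (by rw [map_mul, map_inv, map_mul, hgyu]; exact inv_mul_cancel _)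
  have := (c1.mul_left c2).mul_left (inN_Q_central F h T hS Df D E hxz hq
    (mul_mem (inv_mem (mul_mem hy hu)) hm) hn)
  rwa [mul_inv_cancel_left] at this

variable (hnoA : ∀ y, ∀ Ty : Twin z y, cols (Ty.s F : OG) ≠ sA)
include hnoA

theorem orbit_cases {y : G} (hy : y ∈ OX z Q x) (hne : y ≠ z) :
    cols (F.π (cC (inN_comm F h T hS Df D E hxz hy.1)) : OG) ∈ S :: cj.map Prod.fst := by
  have hyz := inN_comm F h T hS Df D E hxz hy.1
  rcases class_cases F h T hS Df D E hxz (g := F.π (cC hyz)) (fun v hv => inN_stab F h T hS Df D E hxz hy.1 hv) with e | e | ⟨k, hk⟩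
  · obtain ⟨g, rfl⟩ := isConj_iff.1 hy.2
    exact absurd (h.wc g ((F.π_ker _).1 e)) hne
  · exact e
  · exfalso
    obtain ⟨⟨c, hc⟩, rfl⟩ := F.π_surj k
    have hcz : Commute c z := mem_C.1 hc
    refine hnoA _ ((⟨hy.2, hyz, hne⟩ : Twin z y).conj' hcz) ?_
    rw [← hk, Twin.s, π_conj F h T hS Df D E hxz hcz hyz]
    rfl

theorem fibre_conj {y : G} (hy : y ∈ OX z Q x) (hys : F.π (cC (inN_comm F h T hS Df D E hxz hy.1)) = T.s F) :
    ∃ p ∈ Q, y = p * x * p⁻¹ := by
  obtain ⟨hq, hqN⟩ := fibre_form F h T hS Df D E hxz hy.1 hys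
  obtain ⟨w, hw⟩ := (img_iff F T hS D.rep _).1 (inN_Q F h T hS Df D E hxz hqN hq)
  obtain ⟨p, hp, rfl⟩ := F.vec_surj w
  rcases T.img_cases F h hp hq hw.symm with e | e <;> rw [mul_inv_cancel_left] at e
  · exact ⟨p, hp, e⟩
  · exact absurd (hy.2.trans (isConj_iff.2 ⟨p⁻¹, by rw [e]; group⟩)) hxz

theorem trans_E {y : G} (hy : y ∈ OX z Q x) (hne : y ≠ z) :
    ∃ k : G, Commute k z ∧ k * x * k⁻¹ = y ∧ NX Q y = NX Q x := by
  obtain ⟨l, hl, hls, hln⟩ := class_move F h T hS Df D E hxz (orbit_cases F h T hS Df D E hxz h32 hnoA hy hne)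
  have hy' : l * y * l⁻¹ ∈ OX z Q x :=
    ⟨(hln _).2 (by rw [show l⁻¹ * (l * y * l⁻¹) * l = y by group]; exact hy.1), hy.2.trans (isConj_iff.2 ⟨l, rfl⟩)⟩
  obtain ⟨p, hp, hpy⟩ := fibre_conj F h T hS Df D E hxz h32 hnoA hy'
    (by rw [π_conj F h T hS Df D E hxz hl (inN_comm F h T hS Df D E hxz hy.1)]; exact hls)
  have hk : Commute (l⁻¹ * p) z := hl.inv_left.mul_left (comm_z h hp)
  have hkx : l⁻¹ * p * x * (l⁻¹ * p)⁻¹ = y := by
    rw [show l⁻¹ * p * x * (l⁻¹ * p)⁻¹ = l⁻¹ * (p * x * p⁻¹) * l by group, ← hpy]; group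
  refine ⟨_, hk, hkx, ?_⟩
  ext n
  rw [← hkx, NX_move h hk, show (l⁻¹ * p)⁻¹ * n * (l⁻¹ * p) = p⁻¹ * (l * n * l⁻¹) * p by group,
    ← norm_Q F h T hS Df D E hxz hp, hln, show l⁻¹ * (l * n * l⁻¹) * l = n by group]

theorem card_OX : Nat.card (OX z Q x) = 449 := by
  classical
  letI : Fintype G := Fintype.ofFinite G
  have he := E.e
  simp only [caseBE, Bool.and_eq_true, List.all_eq_true] at he
  have hRc : R.toFinset.card = 16 := by
    refine le_antisymm ((List.toFinset_card_le R).trans (Nat.eq_of_beq_eq_true he.1.1.1.1.1.1.1.2).le) ?_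
    rw [← Nat.card_eq_finsetCard, ← card_R16 F T h hS D E]
    exact Nat.card_le_card_of_injective (fun v : {v : V // T.s F • v = v} =>
        (⟨enc v.1, List.mem_toFinset.2 ((fix_iff_R F T h hS D E _).1 v.2)⟩ : R.toFinset))
      fun a b e => Subtype.ext (enc_injective (congrArg (fun r : R.toFinset => (r : ℕ)) e))
  let O : Finset G := Finset.univ.filter fun y => y ∈ OX z Q x ∧ y ≠ z
  let f : G → List ℕ := fun y => if hy : Commute y z then cols (F.π (cC hy) : OG) else []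
  have hf : ∀ {y : G} (hy : y ∈ NX Q x), f y = cols (F.π (cC (inN_comm F h T hS Df D E hxz hy)) : OG) :=
    fun hy => dif_pos (inN_comm F h T hS Df D E hxz hy)
  set K := (S :: cj.map Prod.fst).toFinset with hK
  have hmaps : (O : Set G).MapsTo f K := fun y hy => by
    obtain ⟨hy1, hy2⟩ := (Finset.mem_filter.1 hy).2
    rw [Finset.mem_coe, hK, List.mem_toFinset, hf hy1.1]
    exact orbit_cases F h T hS Df D E hxz h32 hnoA hy1 hy2
  have hzN : z ∈ NX Q x := Subgroup.mem_centralizer_iff.2 fun a ha => (comm_z h ha.1).eq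
  have hfib : ∀ b ∈ K, (O.filter fun y => f y = b).card = 16 := by
    intro b hb
    rw [hK, List.mem_toFinset] at hb
    obtain ⟨g, hgb⟩ : ∃ g : Ga, cols (g : OG) = b := by
      rcases List.mem_cons.1 hb with e | e
      · exact ⟨T.s F, hS.trans e.symm⟩
      · obtain ⟨y, hy, e⟩ := class_lift F h T hS Df D E hxz e
        exact ⟨_, e⟩
    obtain ⟨l, hl, hls, hln⟩ := class_move F h T hS Df D E hxz (hgb.symm ▸ hb : cols (g : OG) ∈ S :: cj.map Prod.fst)
    have hyg : ∀ {y : G}, y ∈ O.filter (fun y => f y = b) →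
        ∃ hy : y ∈ OX z Q x, l * y * l⁻¹ ∈ OX z Q x ∧
          ∀ hy' : l * y * l⁻¹ ∈ NX Q x, F.π (cC (inN_comm F h T hS Df D E hxz hy')) = T.s F := by
      intro y hy
      obtain ⟨hy0, hyb⟩ := Finset.mem_filter.1 hy
      obtain ⟨hy1, -⟩ := (Finset.mem_filter.1 hy0).2
      refine ⟨hy1, ⟨(hln _).2 (by rw [show l⁻¹ * (l * y * l⁻¹) * l = y by group]; exact hy1.1),
        hy1.2.trans (isConj_iff.2 ⟨l, rfl⟩)⟩, fun hy' => ?_⟩
      rw [π_conj F h T hS Df D E hxz hl (inN_comm F h T hS Df D E hxz hy1.1),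
        show F.π (cC (inN_comm F h T hS Df D E hxz hy1.1)) = g from
          Subtype.ext (cols_inj' (by rw [← hf hy1.1, hyb, hgb]))]
      exact hls
    rw [← hRc]
    refine Finset.card_bij (fun y _ => enc (F.vec (x⁻¹ * (l * y * l⁻¹)))) (fun y hy => ?_) (fun y hy u hu e => ?_)
      fun r hr => ?_
    · obtain ⟨hy1, hy2, hy3⟩ := hyg hy
      obtain ⟨hq, hqN⟩ := fibre_form F h T hS Df D E hxz hy2.1 (hy3 hy2.1)
      exact List.mem_toFinset.2 (inN_Q F h T hS Df D E hxz hqN hq)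
    · obtain ⟨hy1, hy2, hy3⟩ := hyg hy
      obtain ⟨hu1, hu2, hu3⟩ := hyg hu
      obtain ⟨hq, -⟩ := fibre_form F h T hS Df D E hxz hy2.1 (hy3 hy2.1)
      obtain ⟨hq', -⟩ := fibre_form F h T hS Df D E hxz hu2.1 (hu3 hu2.1)
      rcases vec_eq' F h hq hq' (enc_injective e) with r | r
      · simpa using (mul_right_inj x⁻¹).1 r.symm
      · exfalso
        replace r : l * u * l⁻¹ = l * y * l⁻¹ * z := mul_left_cancel (r.trans (mul_assoc _ _ _))
        obtain ⟨p, hp, hpy⟩ := fibre_conj F h T hS Df D E hxz h32 hnoA hy2 (hy3 hy2.1)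
        have h1 := hu2.2
        rw [r, hpy] at h1
        refine hxz (h1.trans (isConj_iff.2 ⟨p⁻¹, ?_⟩))
        rw [show p⁻¹ * (p * x * p⁻¹ * z) * p⁻¹⁻¹ = x * (p⁻¹ * z * p) by group,
          show p⁻¹ * z * p = z by rw [mul_assoc, ← (comm_z h hp).eq, inv_mul_cancel_left]]
    · rw [List.mem_toFinset] at hr
      have hr' : r < 256 := by
        obtain ⟨c, hc, rfl⟩ := List.mem_map.1 (((rep_facts D.rep).2.2.2.1 r).1 hr)
        refine Nat.xor_lt_two_pow (n := 8) ?_ (List.mem_range.1 hc)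
        rw [← hS, app_col (isCols_cols _) (List.mem_range.1 hc)]
        exact enc_lt _
      obtain ⟨w, hw⟩ := (img_iff F T hS D.rep (vec r)).1 (by rw [enc_vec r hr']; exact hr)
      obtain ⟨p, hp, rfl⟩ := F.vec_surj w
      set y := l⁻¹ * (p * x * p⁻¹) * l with hy
      have hpN : p * x * p⁻¹ ∈ NX Q x :=
        (norm_Q F h T hS Df D E hxz hp).2 (by rw [show p⁻¹ * (p * x * p⁻¹) * p = x by group]; exact self_mem_NX x)
      have hyN : y ∈ NX Q x := (hln _).1 hpN
      have hyo : y ∈ OX z Q x := ⟨hyN, (T.conj.trans (isConj_iff.2 ⟨p, rfl⟩)).trans (isConj_iff.2 ⟨l⁻¹, by rw [hy]; group⟩)⟩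
      have hπ : F.π (cC (inN_comm F h T hS Df D E hxz hyN)) = g := by
        rw [show cC (inN_comm F h T hS Df D E hxz hyN) =
          (cC hl)⁻¹ * (cC (comm_z h hp) * cC T.comm * (cC (comm_z h hp))⁻¹) * cC hl from rfl]
        simp only [map_mul, map_inv, (F.π_ker (cC (comm_z h hp))).2 hp, one_mul, inv_one, mul_one]
        rw [show F.π (cC T.comm) = T.s F from rfl, ← hls]; group
      refine ⟨y, Finset.mem_filter.2 ⟨Finset.mem_filter.2 ⟨Finset.mem_univ _, hyo, fun e => ?_⟩, ?_⟩, ?_⟩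
      · have h1 : F.π (cC (inN_comm F h T hS Df D E hxz hyN)) = 1 := (F.π_ker _).2 (show y ∈ Q from e.symm ▸ z_mem h)
        rw [hπ] at h1
        rw [h1, mul_one, mul_inv_cancel] at hls
        exact T.s_ne F h hls.symm
      · rw [hf hyN, hπ, hgb]
      · obtain ⟨hu, huv⟩ := T.comm_elt F h hp
        rw [show x⁻¹ * (l * y * l⁻¹) = x⁻¹ * p * x * p⁻¹ by rw [hy]; group, inv_eq_of_mul_eq_one_right (T.sq h), huv, hw,
          enc_vec r hr']
  have hO : O.card = 28 * 16 := by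
    rw [Finset.card_eq_sum_card_fiberwise hmaps, Finset.sum_congr rfl hfib, Finset.sum_const, smul_eq_mul, hK, E.count]
  have hins : (OX z Q x).toFinset = insert z O := by
    ext y
    rw [Set.mem_toFinset, Finset.mem_insert, Finset.mem_filter]
    refine ⟨fun hy => or_iff_not_imp_left.2 fun e => ⟨Finset.mem_univ _, hy, e⟩, ?_⟩
    rintro (rfl | ⟨-, hy, -⟩)
    exacts [⟨hzN, IsConj.refl _⟩, hy]
  rw [Nat.card_eq_card_toFinset, hins, Finset.card_insert_of_notMem (by simp [O]), hO]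

/-- the properties hold -/
theorem good_E : Good z Q x where
  abel a ha b hb := abelian F h T hS Df D E hxz h32 ha hb
  ab := by
    refine le_antisymm (Subgroup.centralizer_le Set.subset_union_left) fun n hn =>
      Subgroup.mem_centralizer_iff.2 ?_
    rintro a (ha | ⟨hb, hbz⟩)
    · exact Subgroup.mem_centralizer_iff.1 hn a ha
    · exact (abelian F h T hS Df D E hxz h32 (bx_mem F h T hS Df D E hxz (b := ⟨a, mem_C.2 hbz⟩) hb) hn).eq
  card := card_OX F h T hS Df D E hxz h32 hnoA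
  trans _ hy hne := trans_E F h T hS Df D E hxz h32 hnoA hy hne
  two := by
    have he := E.e
    simp only [caseBE, Bool.and_eq_true, List.all_eq_true] at he
    rintro ⟨n, hn⟩
    refine ⟨2, Subtype.ext ?_⟩
    have hnz := inN_comm F h T hS Df D E hxz hn
    have h1 : F.π (cC hnz * cC hnz) = 1 := by
      rw [map_mul]; exact stab_sq F h T hS Df D E hxz fun v hv => inN_stab F h T hS Df D E hxz hn hv
    have hq : n * n ∈ Q := (F.π_ker _).1 h1
    have h2 : qm (F.vec (n * n)) = 0 :=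
      qm_eq_zero.2 (Nat.eq_of_beq_eq_true (he.1.1.1.1.1.1.1.1.2 _ (inN_Q F h T hS Df D E hxz (mul_mem hn hn) hq)))
    have h3 := (F.sq_iff _ hq).2 h2
    show n ^ (2 ^ 2) = 1
    rw [show (2 : ℕ) ^ 2 = 2 * 2 by rfl, pow_mul, pow_two, pow_two, h3]

end Cfsg.Agent.Spor.CoWC
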