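import Cfsg.Agent.Lib.Spor.CoWC.Data

/-!
The verdicts of some small checks.
-/

set_option autoImplicit false
set_option maxRecDepth 100000

namespace Cfsg.Agent.Spor.CoWC

open Cfsg.Agent.Spor.CoT Cfsg.Agent.Spor.CoT.Chk WDat

theorem extra_E : (repES :: repEK.map Prod.fst).toFinset.card = 28 ∧
    repEK.all (fun a => mulL (mulL a.2.2 repES) a.2.1 == a.1) = true ∧ idL ≠ repES := by decide +kernel

theorem extra_F : (repFS :: repFK.map Prod.fst).toFinset.card = 28 ∧
    repFK.all (fun a => mulL (mulL a.2.2 repFS) a.2.1 == a.1) = true ∧ idL ≠ repFS := by decide +kernel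

theorem extra_A : idL ≠ repAS := by decide +kernel

theorem nonsing_C : repCR.any (fun r => !Nat.beq (qc r) 0) = true := by decide +kernel

theorem nonsing_N : repNR.any (fun r => !Nat.beq (qc r) 0) = true := by decide +kernel

end Cfsg.Agent.Spor.CoWC
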