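import Cfsg.Agent.Lib.Spor.CoWC.Verdicts
import Cfsg.Agent.Lib.Spor.CoWC.VerdictExtra
import Cfsg.Agent.Lib.Spor.CoWC.RepEF
import Cfsg.Agent.Lib.Spor.CoTypeBig
import Cfsg.Agent.Lib.Solv.Cores
import Cfsg.Agent.S0215

/-!
A weakly closed central involution has no commuting conjugate; the contradiction.
-/

set_option autoImplicit false
set_option maxRecDepth 100000
set_option linter.unusedSectionVars false
set_option linter.style.haveILetI false

namespace Cfsg.Agent.Spor.CoWC

open Cfsg.Agent.Spor.CoT Cfsg.Agent.Spor.CoT.Chk Cfsg.Agent.Classical WDat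

universe u

variable {G : Type u} [Group G] [Finite G] {z x : G} {Q : Subgroup G} (F : Frame z Q)

theorem conj_s (T : Twin z x) {c : G} (hc : Commute c z) :
    (T.conj' hc).s F = F.π (cC hc) * T.s F * (F.π (cC hc))⁻¹ := by
  rw [Twin.s, Twin.s, ← map_inv, ← map_mul, ← map_mul]; rfl

/-- every pair is conjugate to one of five -/
theorem exists_rep (h : Hyp0 z Q) (T : Twin z x) : ∃ c : G, ∃ hc : Commute c z,
    cols ((T.conj' hc).s F : OG) ∈ [repAS, repCS, repES, repFS, repNS] := by
  have key : ∀ {k r : Ga}, k * T.s F * k⁻¹ = r → cols (r : OG) ∈ [repAS, repCS, repES, repFS, repNS] →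
      ∃ c : G, ∃ hc : Commute c z, cols ((T.conj' hc).s F : OG) ∈ [repAS, repCS, repES, repFS, repNS] := by
    intro k r hk hr
    obtain ⟨⟨c, hc⟩, rfl⟩ := F.π_surj k
    refine ⟨c, mem_C.1 hc, ?_⟩
    rw [conj_s F T (mem_C.1 hc)]
    exact hk.symm ▸ hr
  obtain ⟨eA, eC, eE, eF, eN⟩ := rep_cols
  by_cases hs : Small (T.s F)
  · rcases small_class hs with e | e | e
    · exact absurd e (T.s_ne F h)
    · obtain ⟨k, hk⟩ := isConj_iff.1 e
      refine key hk ?_
      rw [show cols (sA : OG) = repAS by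
        rw [eA, sA, ← (R_spec inP_facts.2.1).2.2.eq_cols, show enc e1 = 2 from enc_vec 2 (by norm_num)]]
      simp
    · obtain ⟨k, hk⟩ := isConj_iff.1 e
      refine key hk ?_
      rw [show cols (sC : OG) = repCS by
        rw [eC, sC, ← (R_spec inP_facts.2.2.2.2.2.2.2.1).2.2.eq_cols, show enc n0 = 136 from enc_vec 136 (by norm_num)]]
      simp
  · obtain ⟨k, a, ha, hk⟩ := big_form (T.s_sq F h) hs
    refine key hk ?_
    have hcols : IsCols ((Sg * R a : Ga) : OG) (mulL Dat.sgc (radL (enc a))) :=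
      Sg_cols.mul (R_spec (big_facts ha).1).2.2
    rw [← hcols.eq_cols, eE, eF, eN]
    rcases ha with rfl | rfl | rfl
    · rw [show enc e3 = 8 from enc_vec 8 (by norm_num)]; simp
    · rw [show enc f3 = 128 from enc_vec 128 (by norm_num)]; simp
    · rw [show enc n0 = 136 from enc_vec 136 (by norm_num)]; simp

theorem card_fix_conj (T : Twin z x) {c : G} (hc : Commute c z) :
    Nat.card {v : V // (T.conj' hc).s F • v = v} = Nat.card {v : V // T.s F • v = v} := by
  refine (Nat.card_congr (α := {v : V // T.s F • v = v}) (β := {v : V // (T.conj' hc).s F • v = v})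
    { toFun := fun v => ⟨F.π (cC hc) • v.1, ?_⟩
      invFun := fun v => ⟨(F.π (cC hc))⁻¹ • v.1, ?_⟩
      left_inv := fun v => Subtype.ext (inv_smul_smul _ _)
      right_inv := fun v => Subtype.ext (smul_inv_smul _ _) }).symm
  · obtain ⟨v, hv⟩ := v
    rw [conj_s F T hc, mul_smul, mul_smul, inv_smul_smul]
    exact congrArg _ hv
  · obtain ⟨v, hv⟩ := v
    rw [conj_s F T hc, mul_smul, mul_smul] at hv
    exact smul_left_cancel (F.π (cC hc)) (by rw [smul_inv_smul]; exact hv)

theorem fix_bounds (h : Hyp0 z Q) (T : Twin z x) :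
    16 ≤ Nat.card {v : V // T.s F • v = v} ∧ Nat.card {v : V // T.s F • v = v} ≤ 64 := by
  obtain ⟨c, hc, hr⟩ := exists_rep F h T
  rw [← card_fix_conj F T hc]
  have key : ∀ {S bs R : List ℕ}, cols ((T.conj' hc).s F : OG) = S → repOK' S bs R = true →
      16 ≤ Nat.card {v : V // (T.conj' hc).s F • v = v} ∧ Nat.card {v : V // (T.conj' hc).s F • v = v} ≤ 64 := by
    intro S bs R e D
    rw [fix_card F _ e]
    exact ⟨(rep_facts D).2.2.2.2.1, (rep_facts D).2.2.2.2.2⟩
  simp only [List.mem_cons, List.not_mem_nil, or_false] at hr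
  rcases hr with e | e | e | e | e
  exacts [key e rep_ok_repA, key e rep_ok_repC, key e rep_ok_repE, key e rep_ok_repF, key e rep_ok_repN]

include F in
theorem bx_bounds (h : Hyp0 z Q) (T : Twin z x) : 16 ≤ Nat.card (BX h T) ∧ Nat.card (BX h T) ≤ 128 := by
  obtain ⟨y, Ty, e⟩ := card_BX_eq F h T
  obtain ⟨h1, h2⟩ := fix_bounds F h Ty
  have h3 := fix_le_kv F h Ty
  have h4 : Nat.card (KV F y) ≤ Nat.card {v : V // Ty.s F • v = v} :=
    Nat.card_le_card_of_injective (fun v : KV F y => (⟨v.1, kv_fix F Ty v.2⟩ : {v : V // Ty.s F • v = v}))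
      fun a b e => Subtype.ext (congrArg (fun v : {v : V // Ty.s F • v = v} => (v : V)) e)
  omega

theorem conj_iff_fusion {c : G} (hc : Commute c z) :
    IsConj z (c * x * c⁻¹ * z) ↔ IsConj z (x * z) := by
  have e : c * (x * z) * c⁻¹ = c * x * c⁻¹ * z := by
    calc c * (x * z) * c⁻¹ = c * x * c⁻¹ * (c * z * c⁻¹) := by group
      _ = c * x * c⁻¹ * z := by rw [hc.eq, mul_inv_cancel_right]
  have h1 : IsConj (x * z) (c * x * c⁻¹ * z) := isConj_iff.2 ⟨c, e⟩
  exact ⟨fun r => r.trans h1.symm, fun r => r.trans h1⟩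

include F in
/-- the translate is not a conjugate -/
theorem not_fused (h : Hyp0 z Q) (T : Twin z x) : ¬ IsConj z (x * z) := by
  obtain ⟨c, hc, hr⟩ := exists_rep F h T
  rw [← conj_iff_fusion hc]
  have hb := (bx_bounds F h (T.conj' hc)).1
  simp only [List.mem_cons, List.not_mem_nil, or_false] at hr
  rcases hr with e | e | e | e | e
  exacts [no_fusion F h _ e famData cands_A hb, no_fusion F h _ e famData cands_C hb,
    no_fusion F h _ e famData cands_E hb, no_fusion F h _ e famData cands_F hb, no_fusion F h _ e famData cands_N hb]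

theorem not_nonsing (h : Hyp0 z Q) (T : Twin z x) {S bs R : List ℕ} (hS : cols (T.s F : OG) = S)
    (D : repOK' S bs R = true) (hn : R.any (fun r => !Nat.beq (qc r) 0) = true) : False := by
  simp only [List.any_eq_true, Bool.not_eq_true'] at hn
  obtain ⟨r, hr, hq⟩ := hn
  obtain ⟨c, hc, e⟩ := List.mem_map.1 (((rep_facts D).2.2.2.1 r).1 hr)
  have hr' : r < 256 := by
    rw [← e]
    refine Nat.xor_lt_two_pow (n := 8) ?_ (List.mem_range.1 hc)
    rw [← hS, app_col (isCols_cols _) (List.mem_range.1 hc)]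
    exact enc_lt _
  obtain ⟨w, hw⟩ := (img_iff F T hS D (vec r)).1 (by rw [enc_vec r hr']; exact hr)
  have hfix : T.s F • (T.s F • w + w) = T.s F • w + w := by
    rw [smul_add', ← mul_smul, T.s_sq F h, one_smul, add_comm]
  have h0 := (kv_img F h T w).1 (kv_all F h T (not_fused F h T) hfix)
  rw [hw, ← qc_enc_zero, enc_vec r hr', hq] at h0
  cases h0

theorem not_A (h : Hyp0 z Q) (T : Twin z x) : cols (T.s F : OG) ≠ repAS := fun e =>
  no_repA F h T e extra_A famData cands_A (not_fused F h T) second_gs_A second_A card_A irr_A big_A _ _ _ _ rfl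
    (fun w0 h0 w1 h1 w2 h2 => by
      simp only [List.mem_cons, List.not_mem_nil, or_false] at h0 h1 h2
      rcases h0 with rfl | rfl | rfl | rfl <;> rcases h1 with rfl | rfl | rfl | rfl <;>
        rcases h2 with rfl | rfl | rfl | rfl
      exacts [second_A_0_0_0, second_A_0_0_1, second_A_0_0_2, second_A_0_0_3, second_A_0_1_0, second_A_0_1_1, second_A_0_1_2, second_A_0_1_3, second_A_0_2_0, second_A_0_2_1, second_A_0_2_2, second_A_0_2_3, second_A_0_3_0, second_A_0_3_1, second_A_0_3_2, second_A_0_3_3, second_A_1_0_0, second_A_1_0_1, second_A_1_0_2, second_A_1_0_3, second_A_1_1_0, second_A_1_1_1, second_A_1_1_2, second_A_1_1_3, second_A_1_2_0, second_A_1_2_1, second_A_1_2_2, second_A_1_2_3, second_A_1_3_0, second_A_1_3_1, second_A_1_3_2, second_A_1_3_3, second_A_2_0_0, second_A_2_0_1, second_A_2_0_2, second_A_2_0_3, second_A_2_1_0, second_A_2_1_1, second_A_2_1_2, second_A_2_1_3, second_A_2_2_0, second_A_2_2_1, second_A_2_2_2, second_A_2_2_3, second_A_2_3_0, second_A_2_3_1, second_A_2_3_2,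 second_A_2_3_3, second_A_3_0_0, second_A_3_0_1, second_A_3_0_2, second_A_3_0_3, second_A_3_1_0, second_A_3_1_1, second_A_3_1_2, second_A_3_1_3, second_A_3_2_0, second_A_3_2_1, second_A_3_2_2, second_A_3_2_3, second_A_3_3_0, second_A_3_3_1, second_A_3_3_2, second_A_3_3_3])
    (bx_bounds F h T).1 (bx_bounds F h T).2

theorem caseE : CaseEOK fam repES repER repAS repEK repED repED2 where
  gs := second_gs_repE
  e := second_repE
  cls := second_cls_repE
  rows := big_E
  count := extra_E.1
  back := extra_E.2.1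
  hne := extra_E.2.2
  hA := ⟨R e1, by rw [rep_cols.1, ← (R_spec inP_facts.2.1).2.2.eq_cols, show enc e1 = 2 from enc_vec 2 (by norm_num)],
    R_sq inP_facts.2.1⟩

theorem caseF : CaseEOK fam repFS repFR repAS repFK repFD repFD2 where
  gs := second_gs_repF
  e := second_repF
  cls := second_cls_repF
  rows := big_F
  count := extra_F.1
  back := extra_F.2.1
  hne := extra_F.2.2
  hA := caseE.hA

/-- only two representatives remain -/
theorem exists_EF (h : Hyp0 z Q) (T : Twin z x) : ∃ c : G, ∃ hc : Commute c z,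
    cols ((T.conj' hc).s F : OG) = repES ∨ cols ((T.conj' hc).s F : OG) = repFS := by
  obtain ⟨c, hc, hr⟩ := exists_rep F h T
  simp only [List.mem_cons, List.not_mem_nil, or_false] at hr
  refine ⟨c, hc, ?_⟩
  rcases hr with e | e | e | e | e
  · exact absurd e (not_A F h _)
  · exact (not_nonsing F h _ e rep_ok_repC nonsing_C).elim
  · exact Or.inl e
  · exact Or.inr e
  · exact (not_nonsing F h _ e rep_ok_repN nonsing_N).elim

theorem card_kv (h : Hyp0 z Q) (T : Twin z x) : Nat.card (KV F x) = 16 := by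
  have e0 : Nat.card (KV F x) = Nat.card {v : V // T.s F • v = v} :=
    Nat.card_congr (Equiv.setCongr (t := {v : V | T.s F • v = v})
      (Set.ext fun v => ⟨fun hv => kv_fix F T hv, fun hv => kv_all F h T (not_fused F h T) hv⟩))
  obtain ⟨c, hc, e | e⟩ := exists_EF F h T
  · rw [e0, ← card_fix_conj F T hc]; exact card_R16 F _ h e cands_E caseE
  · rw [e0, ← card_fix_conj F T hc]; exact card_R16 F _ h e cands_F caseF

include F in
theorem good (h : Hyp0 z Q) (T : Twin z x) : Good z Q x := by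
  have h32 : ∀ {y : G} (Ty : Twin z y), Nat.card (BX h Ty) = 32 := fun {y} Ty => by
    obtain ⟨u, Tu, e⟩ := card_BX_eq F h Ty
    rw [e, card_kv F h Tu]
  obtain ⟨c, hc, hr⟩ := exists_EF F h T
  have hG : Good z Q (c * x * c⁻¹) := by
    rcases hr with e | e
    · exact good_E F h (T.conj' hc) e famData cands_E caseE (not_fused F h (T.conj' hc)) (h32 _) fun y Ty => not_A F h Ty
    · exact good_E F h (T.conj' hc) e famData cands_F caseF (not_fused F h (T.conj' hc)) (h32 _) fun y Ty => not_A F h Ty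
  have := hG.conj h hc.inv_left
  rwa [show c⁻¹ * (c * x * c⁻¹) * c⁻¹⁻¹ = x by group] at this

theorem no_twin (h : Hyp0 z Q) : ¬ Twin z x := by
  obtain ⟨F⟩ := exists_frame h
  exact no_twin_of_good h fun y Ty => good F h Ty

/-- the involution is isolated, so it is central modulo the core -/
theorem contradiction (h : Hyp0 z Q) (hO : Cfsg.oddCore G = ⊥) (hZ : Subgroup.center G = ⊥) : False := by
  haveI : Fact (Nat.Prime 2) := ⟨Nat.prime_two⟩
  obtain ⟨P, hP⟩ := (IsPGroup.of_card (n := 1) (by rw [Nat.card_zpowers, h.ord, pow_one]) :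
    IsPGroup 2 (Subgroup.zpowers z)).exists_le_sylow
  have hzP : z ∈ P := hP (Subgroup.mem_zpowers z)
  have hiso : ∀ g : G, Commute (g * z * g⁻¹) z → g * z * g⁻¹ = z := fun g hc => by
    by_contra hne
    exact no_twin h ⟨isConj_iff.2 ⟨g, rfl⟩, hc, hne⟩
  have hcen : ∀ s ∈ P, Commute s z := by
    haveI := P.isPGroup'.isNilpotent
    set D : Subgroup P := (Subgroup.centralizer ({z} : Set G)).subgroupOf P with hD
    have hnorm : ∀ s : P, s ∈ Subgroup.normalizer (D : Set P) → s ∈ D := by
      intro s hs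
      have h1 := (Subgroup.mem_normalizer_iff.1 hs ⟨z, hzP⟩).1 (mem_C.2 (Commute.refl z))
      have h2 := hiso _ (mem_C.1 h1)
      exact mem_C.2 (mul_inv_eq_iff_eq_mul.1 h2)
    have htop : D = ⊤ := by
      by_contra hne
      exact absurd (Group.normalizerCondition_of_isNilpotent D (lt_top_iff_ne_top.2 hne))
        (not_lt_of_ge hnorm)
    intro s hs
    exact mem_C.1 (show (⟨s, hs⟩ : P) ∈ D from htop ▸ Subgroup.mem_top _)
  obtain ⟨N, hN, hodd, hcomm⟩ := Cfsg.Agent.S0215.result P z h.ord hzP fun g hg => hiso g (hcen _ hg)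
  have hNbot : N = ⊥ := by
    haveI := hN
    exact le_bot_iff.1 (hO ▸ Cfsg.Agent.Solv.normal_le_pPrimeCore (Nat.coprime_two_right.2 hodd))
  refine z_ne_one h ?_
  have : z ∈ Subgroup.center G := Subgroup.mem_center_iff.2 fun g => by
    have e := hcomm g
    rw [hNbot, Subgroup.mem_bot, mul_inv_eq_one, mul_inv_eq_iff_eq_mul] at e
    exact e.symm
  rwa [hZ, Subgroup.mem_bot] at this

end Cfsg.Agent.Spor.CoWC
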