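import Cfsg.Agent.Lib.Spor.CoWC.Frame

/-!
A second conjugate of a weakly closed central involution in its centraliser: the groups attached to the pair.
-/

set_option autoImplicit false
set_option maxRecDepth 100000
set_option linter.unusedSectionVars false

namespace Cfsg.Agent.Spor.CoWC

open Cfsg.Agent.Spor.CoT

universe u

variable {G : Type u} [Group G] [Finite G] {z x : G} {Q : Subgroup G}

theorem inX_iff (h : Hyp0 z Q) {g a b : G} (hg : g * z * g⁻¹ = a) : InQ z Q a b ↔ g⁻¹ * b * g ∈ Q := by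
  refine ⟨fun ⟨k, hk, hb⟩ => ?_, fun hb => ⟨g, hg, hb⟩⟩
  have hc : Commute (g⁻¹ * k) z := by
    refine mul_inv_eq_iff_eq_mul.1 ?_
    rw [show g⁻¹ * k * z * (g⁻¹ * k)⁻¹ = g⁻¹ * (k * z * k⁻¹) * g by group, hk, ← hg]; group
  have := h.norm _ hc _ hb
  rwa [show g⁻¹ * k * (k⁻¹ * b * k) * (g⁻¹ * k)⁻¹ = g⁻¹ * b * g by group] at this

/-- the second involution -/
structure Twin (z x : G) : Prop where
  conj : IsConj z x
  comm : Commute x z
  ne : x ≠ z

theorem Twin.sq (T : Twin z x) (h : Hyp0 z Q) : x * x = 1 := by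
  obtain ⟨g, rfl⟩ := isConj_iff.1 T.conj
  rw [conj_mul, z_sq h]; group

theorem Twin.ne_one (T : Twin z x) (h : Hyp0 z Q) : x ≠ 1 := by
  obtain ⟨g, rfl⟩ := isConj_iff.1 T.conj
  exact fun e => z_ne_one h (conj_eq_one_iff.1 e)

theorem Twin.not_mem (T : Twin z x) (h : Hyp0 z Q) : x ∉ Q := fun hx => by
  obtain ⟨g, rfl⟩ := isConj_iff.1 T.conj
  exact T.ne (h.wc g hx)

theorem Twin.conj' (T : Twin z x) {c : G} (hc : Commute c z) : Twin z (c * x * c⁻¹) := by
  refine ⟨T.conj.trans (isConj_iff.2 ⟨c, rfl⟩), ?_, fun e => T.ne ?_⟩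
  · have := (Commute.conj_iff c).2 T.comm
    rwa [show c * z * c⁻¹ = z by rw [hc.eq, mul_inv_cancel_right]] at this
  · calc x = c⁻¹ * (c * x * c⁻¹) * c := by group
      _ = c⁻¹ * (z * c) := by rw [e, mul_assoc]
      _ = z := by rw [← hc.eq, inv_mul_cancel_left]

theorem inX_mul (h : Hyp0 z Q) {a b c : G} (hb : InQ z Q a b) (hc : InQ z Q a c) : InQ z Q a (b * c) := by
  obtain ⟨g, hg, hb⟩ := hb
  refine ⟨g, hg, ?_⟩
  have hc' := (inX_iff h hg).1 hc
  rw [show g⁻¹ * (b * c) * g = g⁻¹ * b * g * (g⁻¹ * c * g) by group]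
  exact mul_mem hb hc'

theorem inX_inv {a b : G} (hb : InQ z Q a b) : InQ z Q a b⁻¹ := by
  obtain ⟨g, hg, hb⟩ := hb
  exact ⟨g, hg, by rw [show g⁻¹ * b⁻¹ * g = (g⁻¹ * b * g)⁻¹ by group]; exact inv_mem hb⟩

theorem Twin.inX_one (T : Twin z x) : InQ z Q x 1 := by
  obtain ⟨g, hg⟩ := isConj_iff.1 T.conj
  exact ⟨g, hg, by simp⟩

theorem Twin.inX_self (T : Twin z x) (h : Hyp0 z Q) : InQ z Q x x := by
  obtain ⟨g, hg⟩ := isConj_iff.1 T.conj
  exact ⟨g, hg, by rw [← hg, show g⁻¹ * (g * z * g⁻¹) * g = z by group]; exact z_mem h⟩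

theorem inX_comm (h : Hyp0 z Q) {a b : G} (hb : InQ z Q a b) : Commute b a := by
  obtain ⟨g, hg, hb⟩ := hb
  have := (Commute.conj_iff g).2 (comm_z h hb)
  rwa [hg, show g * (g⁻¹ * b * g) * g⁻¹ = b by group] at this

theorem inX_sq (F : Frame z Q) {a b : G} (hb : InQ z Q a b) : b * b = 1 ∨ b * b = a := by
  obtain ⟨g, hg, hb⟩ := hb
  rcases F.sq_or _ hb with e | e <;>
    rw [show g⁻¹ * b * g * (g⁻¹ * b * g) = g⁻¹ * (b * b) * g by group] at e
  · exact Or.inl (by rw [show b * b = g * (g⁻¹ * (b * b) * g) * g⁻¹ by group, e]; group)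
  · exact Or.inr (by rw [show b * b = g * (g⁻¹ * (b * b) * g) * g⁻¹ by group, e, hg])

theorem inX_only (h : Hyp0 z Q) {a b : G} (hb : InQ z Q a b) (hz : IsConj z b) : b = a := by
  obtain ⟨g, hg, hb⟩ := hb
  obtain ⟨k, rfl⟩ := isConj_iff.1 hz
  have e := h.wc (g⁻¹ * k) (by rwa [show g⁻¹ * k * z * (g⁻¹ * k)⁻¹ = g⁻¹ * (k * z * k⁻¹) * g by group])
  calc k * z * k⁻¹ = g * (g⁻¹ * k * z * (g⁻¹ * k)⁻¹) * g⁻¹ := by group
    _ = a := by rw [e, hg]

theorem inX_conj (h : Hyp0 z Q) {a b c : G} (hb : InQ z Q a b) (hc : Commute c a) : InQ z Q a (c * b * c⁻¹) := by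
  have := hb.conj c
  rwa [show c * a * c⁻¹ = a by rw [hc.eq, mul_inv_cancel_right]] at this

theorem Twin.z_not (T : Twin z x) (h : Hyp0 z Q) : ¬ InQ z Q x z := fun hz =>
  T.ne (inX_only h hz (IsConj.refl z)).symm

theorem Twin.sq_one (T : Twin z x) (h : Hyp0 z Q) (F : Frame z Q) {e : G} (he : e ∈ Q) (hx : InQ z Q x e) :
    e * e = 1 := by
  refine (F.sq_or e he).resolve_right fun e1 => T.z_not h ?_
  have := inX_mul h hx hx
  rwa [e1] at this

variable (F : Frame z Q)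

/-- the image in the orthogonal group -/
noncomputable def Twin.s (T : Twin z x) : Ga := F.π (cC T.comm)

theorem Twin.s_sq (T : Twin z x) (h : Hyp0 z Q) : T.s F * T.s F = 1 := by
  rw [Twin.s, ← map_mul, show cC T.comm * cC T.comm = 1 from Subtype.ext (T.sq h), map_one]

theorem Twin.s_ne (T : Twin z x) (h : Hyp0 z Q) : T.s F ≠ 1 := fun e => T.not_mem h ((F.π_ker _).1 e)

/-- the vectors of the common part -/
def EV (x : G) : Set V := {v | ∃ e ∈ Q, InQ z Q x e ∧ F.vec e = v}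

/-- fixed vectors whose lifts commute -/
def KV (x : G) : Set V := {v | ∀ a ∈ Q, F.vec a = v → Commute a x}

theorem conj_eq {a c : G} (hc : Commute c z) (ha : a ∈ Q) : F.vec (c * a * c⁻¹) = F.π (cC hc) • F.vec a :=
  F.vec_conj (cC hc) a ha

theorem mul_z_comm {a y : G} (hy : Commute y z) : Commute (a * z) y ↔ Commute a y := by
  refine ⟨fun e => ?_, fun e => e.mul_left hy.symm⟩
  have := e.mul_left hy.symm.inv_left
  rwa [mul_inv_cancel_right] at this

theorem kv_iff (h : Hyp0 z Q) (T : Twin z x) {a : G} (ha : a ∈ Q) : F.vec a ∈ KV F x ↔ Commute a x := by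
  refine ⟨fun e => e a ha rfl, fun e b hb hv => ?_⟩
  rcases vec_eq' F h ha hb hv.symm with rfl | rfl
  exacts [e, (mul_z_comm T.comm).2 e]

theorem kv_fix (T : Twin z x) {v : V} (hv : v ∈ KV F x) : T.s F • v = v := by
  obtain ⟨a, ha, rfl⟩ := F.vec_surj v
  rw [Twin.s, ← conj_eq F T.comm ha, ← (hv a ha rfl).eq, mul_inv_cancel_right]

theorem ev_kv (h : Hyp0 z Q) (T : Twin z x) {v : V} (hv : v ∈ EV F x) : v ∈ KV F x := by
  obtain ⟨e, he, hx, rfl⟩ := hv
  exact (kv_iff F h T he).2 (inX_comm h hx)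

theorem ev_zero (h : Hyp0 z Q) (T : Twin z x) : (0 : V) ∈ EV F x := ⟨1, one_mem Q, T.inX_one, vec_one' F h⟩

theorem ev_add (h : Hyp0 z Q) {v w : V} (hv : v ∈ EV F x) (hw : w ∈ EV F x) : v + w ∈ EV F x := by
  obtain ⟨e, he, hx, rfl⟩ := hv
  obtain ⟨e', he', hx', rfl⟩ := hw
  exact ⟨e * e', mul_mem he he', inX_mul h hx hx', F.vec_mul _ he _ he'⟩

theorem ev_sing (h : Hyp0 z Q) (T : Twin z x) {v : V} (hv : v ∈ EV F x) : qm v = 0 := by
  obtain ⟨e, he, hx, rfl⟩ := hv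
  exact (F.sq_iff e he).1 (T.sq_one h F he hx)

theorem ev_perp (h : Hyp0 z Q) (T : Twin z x) {v w : V} (hv : v ∈ EV F x) (hw : w ∈ EV F x) : pol v w = 0 := by
  rw [pol, ev_sing F h T (ev_add F h hv hw), ev_sing F h T hv, ev_sing F h T hw, add_zero, add_zero]

theorem ev_inj (h : Hyp0 z Q) (T : Twin z x) {e : G} (he : e ∈ Q) (hx : InQ z Q x e) (h0 : F.vec e = 0) : e = 1 := by
  rcases (F.vec_zero e he).1 h0 with r | rfl
  exacts [r, absurd hx (T.z_not h)]

theorem ev_move {l : G} (hl : Commute l z) (hlx : Commute l x) (h : Hyp0 z Q) {v : V} (hv : v ∈ EV F x) :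
    F.π (cC hl) • v ∈ EV F x := by
  obtain ⟨e, he, hx, rfl⟩ := hv
  exact ⟨_, h.norm l hl e he, inX_conj h hx hlx, conj_eq F hl he⟩

/-- the commutator with an element of the extraspecial subgroup -/
theorem Twin.comm_elt (T : Twin z x) (h : Hyp0 z Q) {p : G} (hp : p ∈ Q) :
    x * p * x * p⁻¹ ∈ Q ∧ F.vec (x * p * x * p⁻¹) = T.s F • F.vec p + F.vec p := by
  have hx : x⁻¹ = x := inv_eq_of_mul_eq_one_right (T.sq h)
  have h1 : x * p * x * p⁻¹ = x * p * x⁻¹ * p⁻¹ := by rw [hx]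
  rw [h1]
  have hm := h.norm x T.comm p hp
  exact ⟨mul_mem hm (inv_mem hp), by rw [F.vec_mul _ hm _ (inv_mem hp), vec_inv' F h hp, conj_eq F T.comm hp]; rfl⟩

theorem Twin.img_cases (T : Twin z x) (h : Hyp0 z Q) {p a : G} (hp : p ∈ Q) (ha : a ∈ Q)
    (hv : F.vec a = T.s F • F.vec p + F.vec p) : x * a = p * x * p⁻¹ ∨ x * a = p * (x * z) * p⁻¹ := by
  obtain ⟨hu, huv⟩ := T.comm_elt F h hp
  have key : x * (x * p * x * p⁻¹) = p * x * p⁻¹ := by
    rw [show x * (x * p * x * p⁻¹) = x * x * (p * x * p⁻¹) by group, T.sq h, one_mul]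
  rcases vec_eq' F h hu ha (huv.trans hv.symm) with e | e
  · exact Or.inl (by rw [e, key])
  · refine Or.inr ?_
    rw [e, ← mul_assoc x, key, mul_assoc (p * x) p⁻¹ z, ((comm_z h hp).inv_left).eq]
    group

theorem Twin.ev_img (T : Twin z x) (h : Hyp0 z Q) {e : G} (he : e ∈ Q) (hx : InQ z Q x e) (he1 : e ≠ 1) {w : V}
    (hw : F.vec e = T.s F • w + w) : ¬ IsConj z (x * z) := by
  obtain ⟨p, hp, rfl⟩ := F.vec_surj w
  intro hxz
  have hne : x * e ≠ x := fun r => he1 (by simpa using r)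
  rcases T.img_cases F h hp he hw with r | r <;>
    refine hne (inX_only h (inX_mul h (T.inX_self h) hx) ?_)
  · exact r ▸ T.conj.trans (isConj_iff.2 ⟨p, rfl⟩)
  · exact r ▸ hxz.trans (isConj_iff.2 ⟨p, rfl⟩)

theorem Twin.lift (T : Twin z x) (h : Hyp0 z Q) {m : Ga} (hm : Commute m (T.s F))
    (hK : ∀ v ∈ KV F x, m • v ∈ KV F x) :
    ∃ l : G, ∃ hl : Commute l z, F.π (cC hl) = m ∧ (Commute l x ∨ l * x * l⁻¹ = x * z) := by
  obtain ⟨⟨l, hl⟩, rfl⟩ := F.π_surj m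
  have hlz : Commute l z := mem_C.1 hl
  set m := F.π ⟨l, hl⟩ with hmd
  have hm' : F.π (cC hlz) = m := rfl
  set c := l * x * l⁻¹ with hc
  have hcz : Commute c z := (T.conj' hlz).comm
  have hπc : F.π (cC hcz) = T.s F := by
    have : cC hcz = cC hlz * cC T.comm * (cC hlz)⁻¹ := Subtype.ext rfl
    rw [this, map_mul, map_mul, map_inv, hm', show F.π (cC T.comm) = T.s F from rfl, hm.eq, mul_inv_cancel_right]
  have hxi : x⁻¹ = x := inv_eq_of_mul_eq_one_right (T.sq h)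
  have hqQ : x * c ∈ Q := (F.π_ker (cC (T.comm.mul_left hcz))).1 (by
    rw [show cC (T.comm.mul_left hcz) = cC T.comm * cC hcz from rfl, map_mul, hπc]; exact T.s_sq F h)
  have hK' : ∀ v, m • v ∈ KV F x → v ∈ KV F x := by
    intro v hv
    obtain ⟨w, hw⟩ : ∃ w : KV F x, (⟨m • w.1, hK _ w.2⟩ : KV F x) = ⟨m • v, hv⟩ :=
      (Finite.injective_iff_surjective (f := fun w : KV F x => (⟨m • w.1, hK _ w.2⟩ : KV F x))).1
        (fun a b e => Subtype.ext (MulAction.injective m (congrArg Subtype.val e))) ⟨m • v, hv⟩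
    have := MulAction.injective m (congrArg Subtype.val hw)
    exact this ▸ w.2
  have hperp : ∀ v, T.s F • v = v → pol v (F.vec (x * c)) = 0 := by
    intro v hv
    obtain ⟨a, ha, rfl⟩ := F.vec_surj v
    rw [← F.comm_iff a ha _ hqQ]
    have iffc : Commute a c ↔ Commute a x := by
      have ha' : l⁻¹ * a * l ∈ Q := by simpa using h.norm l⁻¹ hlz.inv_left a ha
      have e1 : F.vec a = m • F.vec (l⁻¹ * a * l) := by
        rw [← hm', ← conj_eq F hlz ha']; group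
      rw [← kv_iff F h T ha, show Commute a c ↔ Commute (l⁻¹ * a * l) x by
        rw [← Commute.conj_iff l⁻¹, inv_inv, hc, show l⁻¹ * (l * x * l⁻¹) * l = x by group], ← kv_iff F h T ha', e1]
      exact ⟨hK _, hK' _⟩
    have hsq : ∀ {y : G} (hy : Commute y z), F.π (cC hy) = T.s F → Commute a y ∨ a * y * a⁻¹ = y * z := by
      intro y hy hys
      rcases vec_eq' F h ha (h.norm y hy a ha) (by rw [conj_eq F hy ha, hys, hv]) with e | e
      · exact Or.inl (mul_inv_eq_iff_eq_mul.1 e : y * a = a * y).symm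
      · right
        have e' : y * a = a * z * y := mul_inv_eq_iff_eq_mul.1 e
        calc a * y * a⁻¹ = a * z * y * z⁻¹ * a⁻¹ := by rw [mul_assoc a z, ← hy.eq]; group
          _ = y * a * z⁻¹ * a⁻¹ := by rw [← e']
          _ = y * z⁻¹ := by
            rw [mul_assoc y a, ((comm_z h ha).inv_right).eq]; group
          _ = y * z := by rw [inv_eq_of_mul_eq_one_right (z_sq h)]
    by_cases hax : Commute a x
    · exact hax.mul_right (iffc.2 hax)
    · have e1 := (hsq T.comm rfl).resolve_left hax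
      have e2 := (hsq hcz hπc).resolve_left fun r => hax (iffc.1 r)
      refine mul_inv_eq_iff_eq_mul.1 ?_
      calc a * (x * c) * a⁻¹ = a * x * a⁻¹ * (a * c * a⁻¹) := by group
        _ = x * z * (c * z) := by rw [e1, e2]
        _ = x * c * (z * z) := by rw [mul_assoc x z, ← mul_assoc z c, ← hcz.eq]; group
        _ = x * c := by rw [z_sq h, mul_one]
  obtain ⟨w, hw⟩ := mem_img (s := (T.s F : OG)) (by rw [← Subgroup.coe_mul, T.s_sq F h]; rfl) hperp
  obtain ⟨p, hp, rfl⟩ := F.vec_surj w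
  have hπ : ∀ (hlp : Commute (p⁻¹ * l) z), F.π (cC hlp) = m := fun hlp => by
    rw [show cC hlp = cC (comm_z h (inv_mem hp)) * cC hlz from rfl, map_mul, (F.π_ker _).2 (inv_mem hp), one_mul]; rfl
  refine ⟨p⁻¹ * l, (comm_z h (inv_mem hp)).mul_left hlz, hπ _, ?_⟩
  rcases T.img_cases F h hp hqQ hw.symm with e | e <;> rw [← mul_assoc, T.sq h, one_mul] at e
  · refine Or.inl (mul_inv_eq_iff_eq_mul.1 ?_)
    rw [show p⁻¹ * l * x * (p⁻¹ * l)⁻¹ = p⁻¹ * c * p by rw [hc]; group, e]; group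
  · right
    rw [show p⁻¹ * l * x * (p⁻¹ * l)⁻¹ = p⁻¹ * c * p by rw [hc]; group, e]; group

/-- squares of the symmetries act on the common part -/
theorem Twin.ev_sq (T : Twin z x) (h : Hyp0 z Q) {m : Ga} (hm : Commute m (T.s F))
    (hK : ∀ v ∈ KV F x, m • v ∈ KV F x) {v : V} (hv : v ∈ EV F x) : (m * m) • v ∈ EV F x := by
  obtain ⟨l, hl, rfl, hlx⟩ := T.lift F h hm hK
  have hll : Commute (l * l) x := by
    rcases hlx with e | e
    · exact e.mul_left e
    · refine mul_inv_eq_iff_eq_mul.1 ?_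
      rw [show l * l * x * (l * l)⁻¹ = l * (l * x * l⁻¹) * l⁻¹ by group, e,
        show l * (x * z) * l⁻¹ = l * x * l⁻¹ * (l * z * l⁻¹) by group, e,
        show l * z * l⁻¹ = z by rw [hl.eq, mul_inv_cancel_right], mul_assoc, z_sq h, mul_one]
  have := ev_move F (hl.mul_left hl) hll h hv
  rwa [show cC (hl.mul_left hl) = cC hl * cC hl from rfl, map_mul] at this

theorem Twin.ev_sym (T : Twin z x) (h : Hyp0 z Q) (hxz : ¬ IsConj z (x * z)) {m : Ga} (hm : Commute m (T.s F))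
    (hK : ∀ v ∈ KV F x, m • v ∈ KV F x) :
    ∃ l : G, ∃ hl : Commute l z, F.π (cC hl) = m ∧ Commute l x := by
  obtain ⟨l, hl, rfl, hlx | e⟩ := T.lift F h hm hK
  · exact ⟨l, hl, rfl, hlx⟩
  · exact absurd (T.conj.trans (isConj_iff.2 ⟨l, e⟩)) hxz

end Cfsg.Agent.Spor.CoWC
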