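import Cfsg.Agent.Lib.Spor.CoWC.Pair

/-!
The two parts of a pair of commuting conjugates: sizes and the action on coordinates.
-/

set_option autoImplicit false
set_option maxRecDepth 100000
set_option linter.unusedSectionVars false

namespace Cfsg.Agent.Spor.CoWC

open Cfsg.Agent.Spor.CoT

universe u

variable {G : Type u} [Group G] [Finite G] {z x : G} {Q : Subgroup G} (F : Frame z Q)

theorem comm_dich (h : Hyp0 z Q) {y a : G} (hy : Commute y z) (ha : a ∈ Q)
    (hv : F.π (cC hy) • F.vec a = F.vec a) : Commute a y ∨ a * y * a⁻¹ = y * z := by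
  rcases vec_eq' F h ha (h.norm y hy a ha) (by rw [conj_eq F hy ha, hv]) with e | e
  · exact Or.inl (mul_inv_eq_iff_eq_mul.1 e : y * a = a * y).symm
  · right
    have e' : y * a = a * z * y := mul_inv_eq_iff_eq_mul.1 e
    calc a * y * a⁻¹ = a * z * y * z⁻¹ * a⁻¹ := by rw [mul_assoc a z, ← hy.eq]; group
      _ = y * a * z⁻¹ * a⁻¹ := by rw [← e']
      _ = y * z⁻¹ := by rw [mul_assoc y a, ((comm_z h ha).inv_right).eq]; group
      _ = y * z := by rw [inv_eq_of_mul_eq_one_right (z_sq h)]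

theorem kv_add (h : Hyp0 z Q) (T : Twin z x) {v w : V} (hv : T.s F • v = v) (hw : T.s F • w = w) :
    v + w ∈ KV F x ↔ (v ∈ KV F x ↔ w ∈ KV F x) := by
  obtain ⟨a, ha, rfl⟩ := F.vec_surj v
  obtain ⟨b, hb, rfl⟩ := F.vec_surj w
  rw [← F.vec_mul a ha b hb, kv_iff F h T (mul_mem ha hb), kv_iff F h T ha, kv_iff F h T hb]
  constructor
  · intro hab
    constructor
    · intro hax
      have := hax.inv_left.mul_left hab
      rwa [inv_mul_cancel_left] at this
    · intro hbx
      have := hab.mul_left hbx.inv_left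
      rwa [mul_inv_cancel_right] at this
  · intro hiff
    by_cases hax : Commute a x
    · exact hax.mul_left (hiff.1 hax)
    · have e1 := (comm_dich F h T.comm ha hv).resolve_left hax
      have e2 := (comm_dich F h T.comm hb hw).resolve_left fun r => hax (hiff.2 r)
      refine mul_inv_eq_iff_eq_mul.1 ?_
      calc a * b * x * (a * b)⁻¹ = a * (b * x * b⁻¹) * a⁻¹ := by group
        _ = a * x * a⁻¹ * (a * z * a⁻¹) := by rw [e2]; group
        _ = x * (z * z) := by rw [e1, (comm_z h ha).eq, mul_inv_cancel_right, mul_assoc]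
        _ = x := by rw [z_sq h, mul_one]

theorem kv_zero (h : Hyp0 z Q) (T : Twin z x) : (0 : V) ∈ KV F x := ev_kv F h T (ev_zero F h T)

theorem kv_img (h : Hyp0 z Q) (T : Twin z x) (w : V) :
    T.s F • w + w ∈ KV F x ↔ qm (T.s F • w + w) = 0 := by
  obtain ⟨p, hp, rfl⟩ := F.vec_surj w
  obtain ⟨hu, huv⟩ := T.comm_elt F h hp
  rw [← huv, kv_iff F h T hu, ← F.sq_iff _ hu]
  have hxx := T.sq h
  have hxi : x⁻¹ = x := inv_eq_of_mul_eq_one_right hxx
  have key : x * (x * p * x * p⁻¹) * x⁻¹ = (x * p * x * p⁻¹)⁻¹ := by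
    rw [show x * (x * p * x * p⁻¹) * x⁻¹ = x * x * (p * x * p⁻¹ * x⁻¹) by group, hxx, one_mul]
    simp only [mul_inv_rev, inv_inv, hxi]; group
  constructor
  · intro hc
    rw [← hc.eq, mul_inv_cancel_right] at key
    conv_lhs => arg 2; rw [key]
    exact mul_inv_cancel _
  · intro hsq
    rw [inv_eq_of_mul_eq_one_right hsq] at key
    exact (mul_inv_eq_iff_eq_mul.1 key).symm

theorem kv_all (h : Hyp0 z Q) (T : Twin z x) (hxz : ¬ IsConj z (x * z)) {v : V} (hv : T.s F • v = v) :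
    v ∈ KV F x := by
  obtain ⟨a, ha, rfl⟩ := F.vec_surj v
  rw [kv_iff F h T ha]
  rcases comm_dich F h T.comm ha hv with e | e
  · exact e
  · exact absurd (T.conj.trans (isConj_iff.2 ⟨a, e⟩)) hxz

theorem fix_le_kv (h : Hyp0 z Q) (T : Twin z x) :
    Nat.card {v : V // T.s F • v = v} ≤ 2 * Nat.card (KV F x) := by
  classical
  by_cases hall : ∀ v, T.s F • v = v → v ∈ KV F x
  · have : Nat.card {v : V // T.s F • v = v} ≤ Nat.card (KV F x) :=
      Nat.card_le_card_of_injective (fun v : {v : V // T.s F • v = v} => (⟨v.1, hall _ v.2⟩ : KV F x))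
      fun a b e => Subtype.ext (congrArg (fun w : KV F x => (w : V)) e)
    omega
  push Not at hall
  obtain ⟨w, hw, hwK⟩ := hall
  have key : ∀ v, T.s F • v = v → v ∉ KV F x → v + w ∈ KV F x := fun v hv hvK =>
    (kv_add F h T hv hw).2 ⟨fun e => absurd e hvK, fun e => absurd e hwK⟩
  have := Nat.card_le_card_of_injective
    (fun v : {v : V // T.s F • v = v} => (if hv : v.1 ∈ KV F x then Sum.inl ⟨v.1, hv⟩ else Sum.inr ⟨v.1 + w, key _ v.2 hv⟩ :
      KV F x ⊕ KV F x)) (fun a b e => by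
      dsimp only at e
      split_ifs at e
      · simp only [Sum.inl.injEq, Subtype.mk.injEq] at e; exact Subtype.ext e
      · simp only [Sum.inr.injEq, Subtype.mk.injEq] at e; exact Subtype.ext (add_right_cancel e))
  rw [Nat.card_sum] at this
  omega

theorem card_centQ (h : Hyp0 z Q) (T : Twin z x) :
    Nat.card {q : G // q ∈ Q ∧ Commute q x} = 2 * Nat.card (KV F x) := by
  classical
  choose f hfQ hfv using F.vec_surj
  let g : KV F x × Bool → {q : G // q ∈ Q ∧ Commute q x} := fun p =>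
    ⟨bif p.2 then f p.1 * z else f p.1, by
      have hc : Commute (f p.1) x := p.1.2 _ (hfQ _) (hfv _)
      cases p.2
      · exact ⟨hfQ _, hc⟩
      · exact ⟨mul_mem (hfQ _) (z_mem h), (mul_z_comm T.comm).2 hc⟩⟩
  have hz : ∀ v, F.vec (f v * z) = v := fun v => by rw [F.vec_mul _ (hfQ v) _ (z_mem h), hfv, vec_z' F h, add_zero]
  have hg : Function.Bijective g := by
    constructor
    · rintro ⟨⟨v, hv⟩, b⟩ ⟨⟨w, hw⟩, c⟩ e
      have e' := congrArg Subtype.val e
      have ev := congrArg F.vec e'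
      cases b <;> cases c <;> simp only [g, cond_true, cond_false, hfv, hz] at ev <;> subst ev
      · rfl
      · exact absurd (left_eq_mul.1 e') (z_ne_one h)
      · exact absurd (left_eq_mul.1 e'.symm) (z_ne_one h)
      · rfl
    · rintro ⟨q, hq, hqx⟩
      have hk : F.vec q ∈ KV F x := (kv_iff F h T hq).2 hqx
      rcases vec_eq' F h (hfQ (F.vec q)) hq (hfv _) with e | e
      · exact ⟨(⟨_, hk⟩, false), Subtype.ext e.symm⟩
      · exact ⟨(⟨_, hk⟩, true), Subtype.ext e.symm⟩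
  rw [← Nat.card_congr (Equiv.ofBijective g hg), Nat.card_prod, Nat.card_eq_fintype_card (α := Bool), Fintype.card_bool,
    mul_comm]

/-- the part of the centraliser inside the second extraspecial subgroup -/
noncomputable def BX (h : Hyp0 z Q) (T : Twin z x) : Subgroup (Subgroup.centralizer ({z} : Set G)) where
  carrier := {c | InQ z Q x (c : G)}
  one_mem' := T.inX_one
  mul_mem' ha hb := inX_mul h ha hb
  inv_mem' ha := inX_inv ha

theorem mem_BX (h : Hyp0 z Q) (T : Twin z x) {c : Subgroup.centralizer ({z} : Set G)} :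
    c ∈ BX h T ↔ InQ z Q x (c : G) := Iff.rfl

/-- its image -/
noncomputable def Twin.act (h : Hyp0 z Q) (T : Twin z x) : Subgroup Ga := (BX h T).map F.π

theorem card_BX_eq (h : Hyp0 z Q) (T : Twin z x) :
    ∃ y, Twin z y ∧ Nat.card (BX h T) = 2 * Nat.card (KV F y) := by
  obtain ⟨g, hg⟩ := isConj_iff.1 T.conj
  have hgy : g⁻¹ * x * g = z := by rw [← hg]; group
  set y := g⁻¹ * z * g with hy
  have hyz : Commute y z := by
    have := (Commute.conj_iff g⁻¹).2 T.comm.symm
    rwa [inv_inv, hgy] at this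
  have hT : Twin z y := by
    refine ⟨isConj_iff.2 ⟨g⁻¹, by rw [inv_inv]⟩, hyz, fun e => T.ne ?_⟩
    calc x = g * z * g⁻¹ := hg.symm
      _ = g * y * g⁻¹ := by rw [e]
      _ = z := by rw [hy]; group
  refine ⟨y, hT, ?_⟩
  rw [← card_centQ F h hT]
  refine Nat.card_congr
    { toFun := fun b => ⟨g⁻¹ * (b.1 : G) * g, (inX_iff h hg).1 b.2, by
        have := (Commute.conj_iff g⁻¹).2 (mem_C.1 b.1.2)
        rwa [inv_inv] at this⟩
      invFun := fun q => ⟨⟨g * q.1 * g⁻¹, mem_C.2 (by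
        have := (Commute.conj_iff g).2 q.2.2
        rwa [show g * y * g⁻¹ = z by rw [hy]; group] at this)⟩, (inX_iff h hg).2 (by
        rw [show g⁻¹ * (g * q.1 * g⁻¹) * g = q.1 by group]; exact q.2.1)⟩
      left_inv := fun b => Subtype.ext (Subtype.ext (show g * (g⁻¹ * (b.1 : G) * g) * g⁻¹ = b.1 by group))
      right_inv := fun q => Subtype.ext (show g⁻¹ * (g * q.1 * g⁻¹) * g = q.1 by group) }

theorem card_act (h : Hyp0 z Q) (T : Twin z x) :
    Nat.card (BX h T) = Nat.card (EV F x) * Nat.card (T.act F h) := by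
  set f := F.π.comp (BX h T).subtype with hf
  have hr : f.range = T.act F h := by
    rw [hf, MonoidHom.range_comp, Subgroup.range_subtype]; rfl
  have hk : Nat.card f.ker = Nat.card (EV F x) := by
    have hmem : ∀ b : BX h T, b ∈ f.ker → ((b.1 : G)) ∈ Q := fun b hb => (F.π_ker b.1).1 hb
    let m : f.ker → EV F x := fun b => ⟨F.vec (b.1.1 : G), _, hmem _ b.2, b.1.2, rfl⟩
    refine Nat.card_eq_of_bijective m ⟨fun a b e => ?_, fun v => ?_⟩
    · have e' : F.vec (a.1.1 : G) = F.vec (b.1.1 : G) := congrArg Subtype.val e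
      have h0 : F.vec ((a.1.1 : G)⁻¹ * (b.1.1 : G)) = 0 := by
        rw [F.vec_mul _ (inv_mem (hmem _ a.2)) _ (hmem _ b.2), vec_inv' F h (hmem _ a.2), e', ZModModule.add_self]
      have := ev_inj F h T (mul_mem (inv_mem (hmem _ a.2)) (hmem _ b.2)) (inX_mul h (inX_inv a.1.2) b.1.2) h0
      exact Subtype.ext (Subtype.ext (Subtype.ext (inv_mul_eq_one.1 this)))
    · obtain ⟨v, e, he, hx, rfl⟩ := v
      exact ⟨⟨⟨⟨e, mem_C.2 (comm_z h he)⟩, hx⟩, (F.π_ker _).2 he⟩, rfl⟩
  have h1 := Subgroup.card_eq_card_quotient_mul_card_subgroup f.ker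
  rw [Nat.card_congr (QuotientGroup.quotientKerEquivRange f).toEquiv, hr, hk, mul_comm] at h1
  exact h1

theorem s_mem_act (h : Hyp0 z Q) (T : Twin z x) : T.s F ∈ T.act F h :=
  ⟨cC T.comm, T.inX_self h, rfl⟩

theorem act_comm (h : Hyp0 z Q) (T : Twin z x) {g : Ga} (hg : g ∈ T.act F h) :
    Commute g (T.s F) ∧ (g * g = 1 ∨ g * g = T.s F) := by
  obtain ⟨b, hb, rfl⟩ := hg
  refine ⟨?_, ?_⟩
  · have : b * cC T.comm = cC T.comm * b := Subtype.ext (inX_comm h hb).eq
    show F.π b * T.s F = T.s F * F.π b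
    rw [Twin.s, ← map_mul, this, map_mul]
  · rcases inX_sq F hb with e | e
    · exact Or.inl (by rw [← map_mul, show b * b = 1 from Subtype.ext e, map_one])
    · exact Or.inr (by rw [← map_mul, show b * b = cC T.comm from Subtype.ext e]; rfl)

theorem act_kv (h : Hyp0 z Q) (T : Twin z x) {g : Ga} (hg : g ∈ T.act F h) {v : V} (hv : v ∈ KV F x) :
    g • v + v ∈ EV F x := by
  obtain ⟨b, hb, rfl⟩ := hg
  obtain ⟨a, ha, rfl⟩ := F.vec_surj v
  have hax : Commute a x := hv a ha rfl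
  have hm := h.norm (b : G) (mem_C.1 b.2) a ha
  refine ⟨(b : G) * a * (b : G)⁻¹ * a⁻¹, mul_mem hm (inv_mem ha), ?_, ?_⟩
  · rw [show (b : G) * a * (b : G)⁻¹ * a⁻¹ = (b : G) * (a * (b : G)⁻¹ * a⁻¹) by group]
    exact inX_mul h hb (inX_conj h (inX_inv hb) hax)
  · rw [F.vec_mul _ hm _ (inv_mem ha), vec_inv' F h ha, F.vec_conj b a ha]

theorem act_move {l : G} (hl : Commute l z) (hlx : Commute l x) (h : Hyp0 z Q) (T : Twin z x) {g : Ga}
    (hg : g ∈ T.act F h) : F.π (cC hl) * g * (F.π (cC hl))⁻¹ ∈ T.act F h := by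
  obtain ⟨b, hb, rfl⟩ := hg
  exact ⟨cC hl * b * (cC hl)⁻¹, inX_conj h hb hlx, by rw [map_mul, map_mul, map_inv]⟩

/-- every involution over the image is a lift conjugate to the second involution or its translate -/
theorem act_class (h : Hyp0 z Q) (T : Twin z x) (hxz : IsConj z (x * z))
    (hfix : ∀ v : V, T.s F • v = v → ∃ w : V, T.s F • w + w = v) {g k : Ga} (hg : g ∈ T.act F h) (hne : g ≠ T.s F) :
    k * g * k⁻¹ ≠ T.s F := by
  intro hk
  obtain ⟨b, hb, rfl⟩ := hg
  obtain ⟨c, rfl⟩ := F.π_surj k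
  have hcs : F.π (c * b * c⁻¹) = T.s F := by rw [map_mul, map_mul, map_inv, hk]
  have hss : F.π (b * b) = 1 := by
    have := T.s_sq F h
    rw [← hk, conj_mul, conj_eq_one_iff] at this
    rw [map_mul, this]
  have hbb : (b : G) * b = 1 := (inX_sq F hb).resolve_right fun e => T.not_mem h (e ▸ (F.π_ker _).1 hss)
  refine hne ?_
  have hbx : (b : G) = x := by
    refine inX_only h hb ?_
    set d : G := (c : G) * b * (c : G)⁻¹ with hd
    have hdd : d * d = 1 := by rw [hd, conj_mul, hbb]; group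
    have hxi : x⁻¹ = x := inv_eq_of_mul_eq_one_right (T.sq h)
    have hq : x * d ∈ Q := (F.π_ker (cC T.comm * (c * b * c⁻¹))).1 (by rw [map_mul, hcs]; exact T.s_sq F h)
    have hv : T.s F • F.vec (x * d) = F.vec (x * d) := by
      rw [Twin.s, ← conj_eq F T.comm hq]
      have : x * (x * d) * x⁻¹ = (x * d)⁻¹ := by
        rw [← mul_assoc, T.sq h, one_mul, mul_inv_rev, inv_eq_of_mul_eq_one_right hdd]
      rw [this, vec_inv' F h hq]
    obtain ⟨w, hw⟩ := hfix _ hv
    obtain ⟨p, hp, rfl⟩ := F.vec_surj w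
    have hzd : IsConj z d := by
      rcases T.img_cases F h hp hq hw.symm with e | e <;> rw [← mul_assoc, T.sq h, one_mul] at e
      · exact e ▸ T.conj.trans (isConj_iff.2 ⟨p, rfl⟩)
      · exact e ▸ hxz.trans (isConj_iff.2 ⟨p, rfl⟩)
    exact hzd.trans (isConj_iff.2 ⟨(c : G)⁻¹, by rw [hd]; group⟩)
  show F.π b = T.s F
  exact congrArg F.π (Subtype.ext hbx : b = cC T.comm)

end Cfsg.Agent.Spor.CoWC
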