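import Cfsg.Agent.Lib.Spor.CoWC.Elim

/-!
The second case: the image is invariant under the whole centraliser, and the transvection product is impossible.
-/

set_option autoImplicit false
set_option maxRecDepth 100000
set_option linter.unusedSectionVars false

namespace Cfsg.Agent.Spor.CoWC

open Cfsg.Agent.Spor.CoT Cfsg.Agent.Spor.CoT.Chk Cfsg.Agent.Classical

universe u

variable {G : Type u} [Group G] [Finite G] {z x : G} {Q : Subgroup G} (F : Frame z Q)
variable {S bs R : List ℕ}

/-- symmetries lift to the centraliser of the pair -/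
theorem lift_sym (h : Hyp0 z Q) (T : Twin z x) (hxz : ¬ IsConj z (x * z)) {g : Ga} (hg : Commute g (T.s F)) :
    ∃ l : G, ∃ hl : Commute l z, F.π (cC hl) = g ∧ Commute l x := by
  refine T.ev_sym F h hxz hg fun v hv => kv_all F h T hxz ?_
  rw [← mul_smul, ← hg.eq, mul_smul, kv_fix F T hv]

theorem ev_pair_move (h : Hyp0 z Q) (T : Twin z x) (hxz : ¬ IsConj z (x * z)) (hS : cols (T.s F : OG) = S)
    {fam outM : List ℕ} (Df : FamData fam outM) {n : List ℕ × List ℕ} (hn : pairOK fam n = true)
    (hc : mulL n.1 S = mulL S n.1) {a : ℕ} (ha : a < 256) (hv : vec a ∈ EV F x) :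
    app n.1 a < 256 ∧ vec (app n.1 a) ∈ EV F x := by
  obtain ⟨g, hg, -⟩ := pair_elt Df hn
  obtain ⟨l, hl, rfl, hlx⟩ := lift_sym F h T hxz (g := g) (commute_of_cols (by rw [hg, hS, hc]))
  have e : app n.1 a = enc (F.π (cC hl) • vec a) := by rw [← hg, smul_code, enc_vec a ha]
  rw [e, vec_enc]
  exact ⟨enc_lt _, ev_move F hl hlx h hv⟩

theorem ev_grow (h : Hyp0 z Q) (T : Twin z x) (hxz : ¬ IsConj z (x * z)) (hS : cols (T.s F : OG) = S)
    {fam outM : List ℕ} (Df : FamData fam outM) {gs : List (List ℕ × List ℕ)}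
    (hgs : ∀ n ∈ gs, pairOK fam n = true ∧ mulL n.1 S = mulL S n.1) {v : V} (hv : v ∈ EV F x) (k : ℕ) :
    ∀ a ∈ growS (gs.map Prod.fst) k [0, enc v], a < 256 ∧ vec a ∈ EV F x := by
  refine growS_mem (P := fun a => a < 256 ∧ vec a ∈ EV F x) _
    (fun a b ha hb => ⟨Nat.xor_lt_two_pow (n := 8) ha.1 hb.1, by rw [vec_xor]; exact ev_add F h ha.2 hb.2⟩) ?_ _ _ ?_
  · intro m hm a ha
    obtain ⟨n, hn, rfl⟩ := List.mem_map.1 hm
    exact ev_pair_move F h T hxz hS Df (hgs n hn).1 (hgs n hn).2 ha.1 ha.2
  · intro a ha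
    simp only [List.mem_cons, List.not_mem_nil, or_false] at ha
    rcases ha with rfl | rfl
    · exact ⟨by norm_num, by rw [vec_zero0]; exact ev_zero F h T⟩
    · exact ⟨enc_lt _, by rw [vec_enc]; exact hv⟩

theorem badS_false (h : Hyp0 z Q) (T : Twin z x) {L : List ℕ} (hL : ∀ a ∈ L, a < 256 ∧ vec a ∈ EV F x) :
    badS L = false := by
  rw [Bool.eq_false_iff]
  intro e
  simp only [badS, List.any_eq_true, Bool.or_eq_true, Bool.not_eq_true'] at e
  obtain ⟨a, ha, e⟩ := e
  obtain ⟨ha1, ha2⟩ := hL a ha
  rcases e with e | ⟨b, hb, e⟩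
  · rw [← enc_vec a ha1, qc_enc_zero.2 (ev_sing F h T ha2)] at e; cases e
  · obtain ⟨hb1, hb2⟩ := hL b hb
    have := pol_eq_zero.1 (ev_perp F h T ha2 hb2)
    rw [enc_vec a ha1, enc_vec b hb1] at this
    rw [this] at e; cases e

theorem derivOK_sound {P : List ℕ → Prop} {gs : List (List ℕ × List ℕ)} (hmul : ∀ a b, P a → P b → P (mulL a b))
    (hc : ∀ g ∈ gs, ∀ a, P a → P (mulL (mulL g.1 a) g.2)) :
    ∀ (d : List ((ℕ × ℕ × Bool) × List ℕ)) (l : List (List ℕ)), derivOK gs l d = true → l.Nodup → (∀ a ∈ l, P a) →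
      ∃ L : List (List ℕ), L.Nodup ∧ 32 < L.length ∧ ∀ a ∈ L, P a
  | [], l, hd, h1, h2 => ⟨l, h1, by simp [derivOK] at hd; omega, h2⟩
  | ((i, j, c), g) :: rest, l, hd, h1, h2 => by
    simp only [derivOK, Bool.and_eq_true, Bool.not_eq_true'] at hd
    obtain ⟨⟨⟨hi, hg⟩, hj⟩, hrest⟩ := hd
    have hi' : i < l.length := Nat.le_of_ble_eq_true hi
    have hP : P g := by
      cases c
      · simp only [cond_false, Bool.and_eq_true, beq_iff_eq] at hj
        rw [← hj.2, List.getD_eq_getElem _ _ hi', List.getD_eq_getElem _ _ (Nat.le_of_ble_eq_true hj.1)]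
        exact hmul _ _ (h2 _ (List.getElem_mem _)) (h2 _ (List.getElem_mem _))
      · simp only [cond_true, Bool.and_eq_true, beq_iff_eq] at hj
        rw [← hj.2, List.getD_eq_getElem _ _ hi', List.getD_eq_getElem _ _ (Nat.le_of_ble_eq_true hj.1)]
        exact hc _ (List.getElem_mem _) _ (h2 _ (List.getElem_mem _))
    refine derivOK_sound hmul hc rest (l ++ [g]) hrest (List.nodup_append.2 ⟨h1, List.nodup_singleton g,
      fun a ha b hb => ?_⟩) fun a ha => ?_
    · rw [List.mem_singleton] at hb; subst hb
      rintro rfl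
      rw [List.contains_iff_mem.2 ha] at hg; cases hg
    · rcases List.mem_append.1 ha with ha | ha
      · exact h2 a ha
      · rw [List.mem_singleton] at ha; exact ha ▸ hP

/-- elements with a large normal closure are absent -/
theorem big_absent (h : Hyp0 z Q) (T : Twin z x) (hxz : ¬ IsConj z (x * z)) (hS : cols (T.s F : OG) = S)
    (hne : idL ≠ S) {fam outM : List ℕ} (Df : FamData fam outM) {d : CaseB} (hgs : caseBT fam S d = true)
    (hrows : ∀ q, 60 * q < d.order.length → bigRows d.gs S d.roots d.order (60 * q) ((d.order.drop (60 * q)).take 60) = true)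
    (hsmall : Nat.card (T.act F h) ≤ 32) :
    ∀ e ∈ d.order, e.1 ∉ actCols F h T := by
  classical
  simp only [caseBT, List.all_eq_true, Bool.and_eq_true, beq_iff_eq] at hgs
  have hconj : ∀ g ∈ d.gs, ∀ a, a ∈ actCols F h T → mulL (mulL g.1 a) g.2 ∈ actCols F h T := by
    intro n hn a ha
    obtain ⟨g, hg, hgi⟩ := pair_elt Df (hgs n hn).1
    obtain ⟨l, hl, rfl, hlx⟩ := lift_sym F h T hxz (g := g) (commute_of_cols (by rw [hg, hS, (hgs n hn).2]))
    obtain ⟨b, hb, rfl⟩ := (mem_actCols F h T).1 ha
    refine (mem_actCols F h T).2 ⟨_, act_move F hl hlx h T hb, ?_⟩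
    rw [cols_mul', cols_mul', hg, hgi]
  suffices key : ∀ p, ∀ hp : p < d.order.length, (d.order[p]).1 ∉ actCols F h T by
    intro e he
    obtain ⟨p, hp, rfl⟩ := List.getElem_of_mem he
    exact key p hp
  intro p
  induction p using Nat.strong_induction_on with
  | _ p ih =>
    intro hp hmem
    have hd := Nat.div_add_mod p 60
    have hlt := Nat.mod_lt p (show 60 > 0 by norm_num)
    have hr := hrows (p / 60) (by omega)
    simp only [bigRows, List.all_eq_true] at hr
    have hlen : p % 60 < ((d.order.drop (60 * (p / 60))).take 60).length := by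
      rw [List.length_take, List.length_drop]; omega
    have hget : ((d.order.drop (60 * (p / 60))).take 60)[p % 60] = d.order[p] := by
      rw [List.getElem_take, List.getElem_drop]; simp only [hd]
    have he := hr (p % 60, d.order[p]) (List.mem_iff_getElem.2 ⟨p % 60, by
      rw [List.length_zip, List.length_range]; omega, by rw [List.getElem_zip, List.getElem_range, hget]⟩)
    simp only at he
    cases hb : Nat.blt (d.order[p]).2.1 d.gs.length
    · rw [hb, cond_false] at he
      simp only [List.any_eq_true, Bool.and_eq_true, Bool.not_eq_true', beq_eq_false_iff_ne, beq_iff_eq] at he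
      obtain ⟨r, -, ⟨⟨-, hne1⟩, hne2⟩, hder⟩ := he
      obtain ⟨L, hL1, hL2, hL3⟩ := derivOK_sound (P := fun a => a ∈ actCols F h T)
        (fun a b ha hb => actCols_mul F h T ha hb) hconj r.2 [idL, S, (d.order[p]).1] hder
        (by simp [hne, Ne.symm hne1, Ne.symm hne2]) (by
          intro a ha
          simp only [List.mem_cons, List.not_mem_nil, or_false] at ha
          rcases ha with rfl | rfl | rfl
          exacts [(mem_actCols F h T).2 ⟨1, one_mem _, cols_one'⟩, (mem_actCols F h T).2 ⟨_, s_mem_act F h T, hS⟩, hmem])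
      have hle : L.toFinset ⊆ actCols F h T := fun a ha => hL3 a (List.mem_toFinset.1 ha)
      have := Finset.card_le_card hle
      rw [List.toFinset_card_of_nodup hL1, card_actCols] at this
      omega
    · rw [hb, cond_true] at he
      simp only [Bool.and_eq_true, beq_iff_eq] at he
      obtain ⟨h1, h2⟩ := he
      have hlt' : (d.order[p]).2.2 < p := by
        have := Nat.le_of_ble_eq_true h1
        change _ < 60 * (p / 60) + p % 60 at this
        omega
      have hj : (d.order[p]).2.1 < d.gs.length := Nat.le_of_ble_eq_true hb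
      rw [List.getD_eq_getElem d.gs _ hj, List.getD_eq_getElem d.order _ (by omega)] at h2
      exact ih _ hlt' (by omega) (h2 ▸ hconj _ (List.getElem_mem hj) _ hmem)

/-- the transvection product -/
theorem no_repA (h : Hyp0 z Q) (T : Twin z x) (hS : cols (T.s F : OG) = S) (hne : idL ≠ S)
    {fam outM : List ℕ} (Df : FamData fam outM) {cj : List (List ℕ × List ℕ × List ℕ)} {cs : List Cand}
    (D : CandsOK fam S bs R cj cs) (hxz : ¬ IsConj z (x * z)) {d : CaseB} (hgs : caseBT fam S d = true)
    (hA : caseBA fam S R d = true) (hR4 : 4 ≤ R.toFinset.card)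
    (hirr : R.all (fun v => Nat.beq v 0 || R.all fun w => (growS (d.gs.map Prod.fst) 4 [0, v]).contains w) = true)
    (hrows : ∀ q, 60 * q < d.order.length → bigRows d.gs S d.roots d.order (60 * q) ((d.order.drop (60 * q)).take 60) = true)
    (d0 d1 d2 : Step) (rest : List Step) (hdom : d.dom = d0 :: d1 :: d2 :: rest)
    (hparts : ∀ w0 ∈ d0.2.1, ∀ w1 ∈ d1.2.1, ∀ w2 ∈ d2.2.1, caseBA2 fam S d w0 w1 w2 = true)
    (hlo : 16 ≤ Nat.card (BX h T)) (hhi : Nat.card (BX h T) ≤ 128) : False := by
  classical
  simp only [caseBA, Bool.and_eq_true, List.all_eq_true, beq_iff_eq, Bool.or_eq_true, Bool.not_eq_true'] at hA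
  obtain ⟨⟨⟨hA1, hA2⟩, hW⟩, hdomok⟩ := hA
  have hgs' := hgs
  simp only [caseBT, List.all_eq_true, Bool.and_eq_true, beq_iff_eq] at hgs'
  have hbound := card_act F h T
  -- the common part lies in the image
  have hEVR : ∀ v, v ∈ EV F x → enc v ∈ R := by
    intro v hv
    rcases hA1 _ ((fix_iff F T hS v).1 (kv_fix F T (ev_kv F h T hv))) with ((e | e) | e) | e
    · obtain ⟨-, -, -, hR', -⟩ := rep_facts D.rep
      refine (img_iff F T hS D.rep v).2 ⟨0, ?_⟩
      rw [smul_zero', enc_eq_zero.1 (Nat.eq_of_beq_eq_true e), add_zero]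
    · rw [qc_enc_zero.2 (ev_sing F h T hv)] at e; cases e
    · exact List.contains_iff_mem.1 e
    · rw [badS_false F h T (ev_grow F h T hxz hS Df hgs' hv 6)] at e; cases e
  by_cases h0 : ∀ v ∈ EV F x, v = 0
  · obtain ⟨c, hc, ha, hK⟩ := exists_cand F h T hS D
    simp only [candA, Bool.and_eq_true, List.all_eq_true, beq_iff_eq] at ha
    obtain ⟨⟨-, hdomc⟩, hT⟩ := ha
    rw [ev_card_one F h T h0, one_mul] at hbound
    have hg := D.g c hc
    simp only [candG, Bool.or_eq_true, Bool.and_eq_true, List.all_eq_true] at hg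
    rcases hg with hg | ⟨⟨⟨⟨⟨hfix, -⟩, -⟩, -⟩, -⟩, -⟩
    · have := act_bound F h T fun g hg => List.contains_iff_mem.1 (hT _ (act_enum F h T hS Df hdomc
        (fun v hv hlt => (hK _).1 (by rw [enc_vec v hlt]; exact hv)) (fun u hu => by simp [h0 u hu, enc_zero]) hg).1)
      have := Nat.le_of_ble_eq_true hg
      omega
    · have hsub : (fixL S).toFinset ⊆ R.toFinset := fun a ha =>
        List.mem_toFinset.2 (List.contains_iff_mem.1 (hfix a (List.mem_toFinset.1 ha)))
      have h1 := Finset.card_le_card hsub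
      rw [List.toFinset_card_of_nodup (show (fixL S).Nodup from List.nodup_range.filter _)] at h1
      have h2 := List.toFinset_card_le R
      have h3 := (rep_facts D.rep).2.2.2.2.1
      have h4 := Nat.le_of_ble_eq_true hA2
      omega
  push Not at h0
  obtain ⟨v, hv, hv0⟩ := h0
  have hall : ∀ r ∈ R, r < 256 ∧ vec r ∈ EV F x := by
    simp only [List.all_eq_true, Bool.or_eq_true] at hirr
    rcases hirr _ (hEVR v hv) with e | e
    · exact absurd (enc_eq_zero.1 (Nat.eq_of_beq_eq_true e)) hv0
    · exact fun r hr => ev_grow F h T hxz hS Df hgs' hv 4 r (List.contains_iff_mem.1 (e r hr))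
  have hEV4 : 4 ≤ Nat.card (EV F x) := by
    refine hR4.trans ?_
    rw [← Nat.card_eq_finsetCard]
    exact Nat.card_le_card_of_injective (fun r => (⟨vec r.1, (hall _ (List.mem_toFinset.1 r.2)).2⟩ : EV F x))
      fun a b e => Subtype.ext (by
        have := congrArg (fun w : EV F x => enc (w : V)) e
        simpa [enc_vec _ (hall _ (List.mem_toFinset.1 a.2)).1, enc_vec _ (hall _ (List.mem_toFinset.1 b.2)).1] using this)
  have hEV4' : Nat.card (EV F x) ≤ 4 := by
    have h1 : Nat.card (EV F x) ≤ R.toFinset.card := by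
      rw [← Nat.card_eq_finsetCard]
      exact Nat.card_le_card_of_injective (fun w => (⟨enc w.1, List.mem_toFinset.2 (hEVR _ w.2)⟩ : R.toFinset))
        fun a b e => Subtype.ext (enc_injective (congrArg Subtype.val e))
    have := List.toFinset_card_le R
    have := Nat.le_of_ble_eq_true hA2
    omega
  have hEVeq : Nat.card (EV F x) = 4 := le_antisymm hEV4' hEV4
  rw [hEVeq] at hbound
  have habs := big_absent F h T hxz hS hne Df hgs hrows (by omega)
  have hW2 : ∀ g ∈ T.act F h, cols ((g : Ga) : OG) ∈ [idL, S] := by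
    intro g hg
    obtain ⟨-, hcand⟩ := act_enum F h T hS Df hdomok
      (fun v hv hlt => kv_all F h T hxz ((fix_iff F T hS _).2 (by rw [enc_vec v hlt]; exact hv)))
      (fun u hu => hEVR u hu) hg
    set w0 := app (cols (g : OG)) d0.1
    set w1 := app (cols (g : OG)) d1.1
    set w2 := app (cols (g : OG)) d2.1
    have hp := hparts w0 (hcand d0 (by rw [hdom]; simp)) w1 (hcand d1 (by rw [hdom]; simp)) w2 (hcand d2 (by rw [hdom]; simp))
    simp only [caseBA2, List.all_eq_true] at hp
    obtain ⟨hc, hsq⟩ := act_comm F h T hg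
    have hg' := isCols_cols (g : OG)
    obtain ⟨hq, hpp, h00, hadd⟩ := code_map hg'
    have hdk := hdomok
    simp only [domOK, Bool.and_eq_true, unitsOK, beq_iff_eq] at hdk
    obtain ⟨⟨hst, hu⟩, -⟩ := hdk
    have hst' : stepsOK S (fixThree d.dom w0 w1 w2) [] = true := by
      rw [hdom] at hst ⊢
      exact hst
    have hmem := extend_mem hq hpp h00 hadd (fun a ha => by
      rw [← hS]
      exact commute_app hg' (isCols_cols _) (congrArg Subtype.val hc.eq : ((g : OG) * (T.s F : OG) = _)) ha)
      (fixThree d.dom w0 w1 w2) [] hst' (by simp) (fun e he => by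
        rw [hdom] at he
        simp only [fixThree, List.mem_cons] at he
        rcases he with rfl | rfl | rfl | he
        · simp [w0]
        · simp [w1]
        · simp [w2]
        · exact hcand e (by rw [hdom]; simp [he]))
    rw [List.nil_append, List.map_nil] at hmem
    obtain ⟨hm1, -⟩ := mem_extend (g := (g : OG)) hdomok (fun a ha => by
      rw [← hS]
      exact commute_app hg' (isCols_cols _) (congrArg Subtype.val hc.eq : ((g : OG) * (T.s F : OG) = _)) ha)
      (fun v hv hlt => by
        refine ⟨_, hEVR _ (act_kv F h T hg (kv_all F h T hxz ((fix_iff F T hS _).2 (by rw [enc_vec v hlt]; exact hv)))), ?_⟩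
        rw [enc_add, smul_code, enc_vec v hlt]
        show app (cols (g : OG)) v = v ^^^ (app (cols (g : OG)) v ^^^ v)
        rw [Nat.xor_comm (app (cols (g : OG)) v) v, ← Nat.xor_assoc, Nat.xor_self, Nat.zero_xor])
    have hfst : (fixThree d.dom w0 w1 w2).map Prod.fst = d.dom.map Prod.fst := by rw [hdom]; rfl
    rw [hfst] at hmem
    have hcols : colsOf d.units ((d.dom.map Prod.fst).map (app (cols (g : OG)))) = cols (g : OG) := by
      refine List.ext_getElem ?_ fun k h1 h2 => ?_
      · have := congrArg List.length hu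
        simp only [List.length_map] at this
        simp only [colsOf, List.length_map, this, cols, idL, List.length_range]
        rfl
      · have hk : k < 8 := by simpa [cols] using h2
        have hk' : k < d.units.length := by simpa [colsOf] using h1
        have e := congrArg (fun l => List.getD l k 0) hu
        simp only [List.getD_eq_getElem _ _ (show k < (d.units.map (combC (d.dom.map Prod.fst))).length by
          simpa using hk'), List.getElem_map] at e
        have hlt : ∀ a ∈ d.dom.map Prod.fst, a < 256 := by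
          have key : ∀ (l : List Step) (vs : List ℕ), stepsOK S l vs = true → ∀ d ∈ l, d.1 < 256 := by
            intro l
            induction l with
            | nil => intro _ _ d hd; simp at hd
            | cons a l ih =>
              intro vs h d hd
              simp only [stepsOK, Bool.and_eq_true] at h
              rcases List.mem_cons.1 hd with rfl | hd
              · exact Nat.le_of_ble_eq_true h.1.1
              · exact ih _ h.2 d hd
          intro a ha
          obtain ⟨e, he, rfl⟩ := List.mem_map.1 ha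
          exact key _ [] hst e he
        obtain ⟨-, c2⟩ := combC_map h00 hadd (d.dom.map Prod.fst) d.units[k] hlt
        simp only [colsOf, List.getElem_map]
        rw [c2, e]
        have : idL.getD k 0 = 2 ^ k := by interval_cases k <;> rfl
        rw [this, app_col hg' (Nat.pow_lt_pow_right (by norm_num) hk : 2 ^ k < 2 ^ 8)]
        simp [cols]
        rfl
    have hT : cols (g : OG) ∈ tList fam S (fixThree d.dom w0 w1 w2) d.units := by
      refine List.mem_filter.2 ⟨List.mem_map.2 ⟨_, hmem, hcols⟩, ?_⟩
      simp only [Bool.and_eq_true, Bool.or_eq_true, beq_iff_eq]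
      refine ⟨⟨by rw [← hS, ← cols_mul', ← cols_mul', hc.eq], ?_⟩, famOne_Ga Df g⟩
      rcases hsq with e | e
      · exact Or.inl (by rw [← cols_mul', e, cols_one'])
      · exact Or.inr (by rw [← cols_mul', e, hS])
    rcases List.mem_append.1 (List.contains_iff_mem.1 (hp _ hT)) with e | e
    · rcases hW _ e with r | r <;> rw [r] <;> simp
    · obtain ⟨e', he', hee⟩ := List.mem_map.1 e
      exact absurd ((mem_actCols F h T).2 ⟨g, hg, hee.symm⟩) (hee ▸ habs e' he')
  have := act_bound F h T hW2
  simp only [List.length_cons, List.length_nil] at this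
  omega

end Cfsg.Agent.Spor.CoWC
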