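import Cfsg.Agent.Lib.Spor.CoWC.Frame
import Cfsg.Agent.Lib.Spor.CoTypeBridge
import Cfsg.Agent.Lib.Classical.OrthPSimple
import Cfsg.Agent.Lib.Classical.OrthOrders
import Cfsg.Agent.Lib.Fusion.PConstrained

/-!
From the printed hypothesis with a constrained centraliser to the internal one.
-/

set_option autoImplicit false
set_option linter.unusedSectionVars false
set_option linter.style.haveILetI false

namespace Cfsg.Agent.Spor.CoWC

open Cfsg.Agent.Classical Cfsg.Agent.Spor.CoT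

universe u

theorem simple_omega : IsSimpleGroup ↥(Cfsg.Omega (ZMod 2) (Cfsg.quadFormPlus 4 (ZMod 2))) := by
  have hP : Nat.card (Cfsg.POmega (ZMod 2) (Cfsg.quadFormPlus 4 (ZMod 2))) = 174182400 := by
    have h := OOmega.card_POmega_plus (F := ZMod 2) (m := 4) (by norm_num)
    norm_num [Finset.prod_range_succ, ZMod.card] at h
    exact h
  haveI : IsSimpleGroup (Cfsg.POmega (ZMod 2) (Cfsg.quadFormPlus 4 (ZMod 2))) := by
    rw [← OOmega.coe_plus 4]
    exact OOmega.simple_standard OOmega.pnd_empty (by norm_num)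
  haveI : Finite ↥(Cfsg.Omega (ZMod 2) (Cfsg.quadFormPlus 4 (ZMod 2))) :=
    Nat.finite_of_card_ne_zero (by rw [card_omega]; norm_num)
  have hbij : Function.Bijective
      (QuotientGroup.mk' (Subgroup.center ↥(Cfsg.Omega (ZMod 2) (Cfsg.quadFormPlus 4 (ZMod 2))))) :=
    (Nat.bijective_iff_surjective_and_card _).2 ⟨QuotientGroup.mk'_surjective _, by rw [card_omega]; exact hP.symm⟩
  exact (MulEquiv.ofBijective _ hbij).isSimpleGroup

variable {G : Type u} [Group G] [Finite G]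

/-- the extraspecial subgroup is the generalised Fitting subgroup -/
theorem fitting_eq (t : G) (hcon : Cfsg.IsPConstrained 2 (Subgroup.centralizer ({t} : Set G)))
    (hcard : Nat.card (Cfsg.pCore 2 (Subgroup.centralizer ({t} : Set G))) = 2 ^ 9)
    (e : (Subgroup.centralizer ({t} : Set G)) ⧸ Cfsg.pCore 2 (Subgroup.centralizer ({t} : Set G)) ≃*
      Cfsg.Omega (ZMod 2) (Cfsg.quadFormPlus 4 (ZMod 2))) :
    Subgroup.centralizer ((Cfsg.pCore 2 (Subgroup.centralizer ({t} : Set G)) : Subgroup _) :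
        Set (Subgroup.centralizer ({t} : Set G))) ≤ Cfsg.pCore 2 (Subgroup.centralizer ({t} : Set G)) ∧
      Cfsg.pPrimeCore 2 (Subgroup.centralizer ({t} : Set G)) = ⊥ := by
  set C := Subgroup.centralizer ({t} : Set G)
  haveI : Fact (Nat.Prime 2) := ⟨Nat.prime_two⟩
  haveI := simple_omega
  have hcore : Cfsg.pPrimeCore 2 C = ⊥ := by
    haveI := Cfsg.Agent.Solv.pPrimeCore_normal 2 (G := C)
    have hcop : (Nat.card (Cfsg.pPrimeCore 2 C)).Coprime 2 := Cfsg.Agent.Solv.pPrimeCore_coprime 2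
    set f := e.toMonoidHom.comp (QuotientGroup.mk' (Cfsg.pCore 2 C)) with hf
    have hsurj : Function.Surjective f := e.surjective.comp (QuotientGroup.mk'_surjective _)
    haveI : ((Cfsg.pPrimeCore 2 C).map f).Normal := Subgroup.Normal.map inferInstance f hsurj
    have hdvd : Nat.card ((Cfsg.pPrimeCore 2 C).map f) ∣ Nat.card (Cfsg.pPrimeCore 2 C) := Subgroup.card_map_dvd _ f
    rcases IsSimpleGroup.eq_bot_or_eq_top_of_normal ((Cfsg.pPrimeCore 2 C).map f) inferInstance with r | r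
    · refine Subgroup.card_eq_one.1 (Nat.eq_one_of_dvd_coprimes (show (Nat.card (Cfsg.pPrimeCore 2 C)).Coprime (2 ^ 9)
        from Nat.Coprime.pow_right 9 hcop) dvd_rfl ?_)
      rw [← hcard]
      refine Subgroup.card_dvd_of_le ((Subgroup.map_eq_bot_iff _).1 r |>.trans fun c hc => ?_)
      rw [MonoidHom.mem_ker, hf, MonoidHom.comp_apply, MulEquiv.coe_toMonoidHom, MulEquiv.map_eq_one_iff,
        QuotientGroup.mk'_apply, QuotientGroup.eq_one_iff] at hc
      exact hc
    · exfalso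
      rw [r, Subgroup.card_top, card_omega] at hdvd
      have h2 : 2 ∣ Nat.card (Cfsg.pPrimeCore 2 C) := (show 2 ∣ 174182400 by norm_num).trans hdvd
      have := Nat.eq_one_of_dvd_coprimes hcop h2 dvd_rfl
      omega
  exact ⟨(Cfsg.Agent.Fusion.isPConstrained_iff_of_core_eq_bot hcore).1 hcon, hcore⟩

/-- the internal hypothesis when the involution is weakly closed in the extraspecial subgroup -/
theorem hyp0_of_statement (t : G) (ht : orderOf t = 2) (Q : Subgroup (Subgroup.centralizer ({t} : Set G))) [Q.Normal]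
    (hQ : Cfsg.IsExtraspecial 2 Q) (hcard : Nat.card Q = 2 ^ 9)
    (hcent : Subgroup.centralizer (Q : Set (Subgroup.centralizer ({t} : Set G))) ≤ Q)
    (e : (Subgroup.centralizer ({t} : Set G)) ⧸ Q ≃* Cfsg.Omega (ZMod 2) (Cfsg.quadFormPlus 4 (ZMod 2)))
    (hwc : ¬ ∃ g : G, (∃ hq : g * t * g⁻¹ ∈ Subgroup.centralizer ({t} : Set G),
      (⟨g * t * g⁻¹, hq⟩ : Subgroup.centralizer ({t} : Set G)) ∈ Q) ∧ g * t * g⁻¹ ≠ t) :
    Hyp0 t (Q.map (Subgroup.centralizer ({t} : Set G)).subtype) := by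
  have hinj := (Subgroup.centralizer ({t} : Set G)).subtype_injective
  have htC : t ∈ Subgroup.centralizer ({t} : Set G) := Subgroup.mem_centralizer_singleton_iff.2 rfl
  have htQ : (⟨t, htC⟩ : Subgroup.centralizer ({t} : Set G)) ∈ Q :=
    hcent (Subgroup.mem_centralizer_iff.2 fun q _ => Subtype.ext (Subgroup.mem_centralizer_singleton_iff.1 q.2))
  refine ⟨ht, Subgroup.map_subtype_le Q, ?_,
    Cfsg.Agent.Lie.HallJankoPairs.extraspecial_congr (Subgroup.equivMapOfInjective _ _ hinj) hQ, ?_, ?_, ?_, ?_⟩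
  · rintro c hc _ ⟨q, hq, rfl⟩
    exact ⟨_, ‹Q.Normal›.conj_mem q hq ⟨c, mem_C.2 hc⟩, rfl⟩
  · rw [Subgroup.card_map_of_injective hinj, hcard]; norm_num
  · intro a ha
    have haC : a ∈ Subgroup.centralizer ({t} : Set G) :=
      mem_C.2 (Subgroup.mem_centralizer_iff.1 ha t ⟨⟨t, htC⟩, htQ, rfl⟩).symm
    exact ⟨⟨a, haC⟩, hcent (Subgroup.mem_centralizer_iff.2 fun q hq => Subtype.ext
      (Subgroup.mem_centralizer_iff.1 ha q ⟨q, hq, rfl⟩)), rfl⟩
  · rw [Subgroup.card_eq_card_quotient_mul_card_subgroup Q, Nat.card_congr e.toEquiv, card_omega, hcard]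
    norm_num
  · intro g hg
    by_contra hne
    obtain ⟨q, hq, hqe⟩ := hg
    exact hwc ⟨g, ⟨hqe ▸ q.2, by
      rwa [show (⟨g * t * g⁻¹, hqe ▸ q.2⟩ : Subgroup.centralizer ({t} : Set G)) = q from Subtype.ext hqe.symm]⟩, hne⟩

end Cfsg.Agent.Spor.CoWC
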