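import Cfsg.Agent.Lib.Spor.CoWC.Data

/-!
The verdicts of the checks.
-/

set_option autoImplicit false
set_option maxRecDepth 100000
set_option Elab.async false

namespace Cfsg.Agent.Spor.CoWC

open Cfsg.Agent.Spor.CoT Cfsg.Agent.Spor.CoT.Chk WDat

theorem candA_repA_0 : candA fam repAS repAB repAR repAC0 = true := by decide +kernel

theorem candG_repA_0 : candG repAS repAR repAK repAC0 = true := by decide +kernel

theorem candS_repA_0 : candS repAC0 = true := by decide +kernel

theorem candA_repA_1 : candA fam repAS repAB repAR repAC1 = true := by decide +kernel

theorem candG_repA_1 : candG repAS repAR repAK repAC1 = true := by decide +kernel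

theorem candS_repA_1 : candS repAC1 = true := by decide +kernel

theorem candA_repA_2 : candA fam repAS repAB repAR repAC2 = true := by decide +kernel

theorem candG_repA_2 : candG repAS repAR repAK repAC2 = true := by decide +kernel

theorem candS_repA_2 : candS repAC2 = true := by decide +kernel

theorem candA_repA_3 : candA fam repAS repAB repAR repAC3 = true := by decide +kernel

theorem candG_repA_3 : candG repAS repAR repAK repAC3 = true := by decide +kernel

theorem candS_repA_3 : candS repAC3 = true := by decide +kernel

theorem candA_repA_4 : candA fam repAS repAB repAR repAC4 = true := by decide +kernel

theorem candG_repA_4 : candG repAS repAR repAK repAC4 = true := by decide +kernel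

theorem candS_repA_4 : candS repAC4 = true := by decide +kernel

theorem candA_repA_5 : candA fam repAS repAB repAR repAC5 = true := by decide +kernel

theorem candG_repA_5 : candG repAS repAR repAK repAC5 = true := by decide +kernel

theorem candS_repA_5 : candS repAC5 = true := by decide +kernel

theorem candA_repA_6 : candA fam repAS repAB repAR repAC6 = true := by decide +kernel

theorem candG_repA_6 : candG repAS repAR repAK repAC6 = true := by decide +kernel

theorem candS_repA_6 : candS repAC6 = true := by decide +kernel

theorem candA_repA_7 : candA fam repAS repAB repAR repAC7 = true := by decide +kernel

theorem candG_repA_7 : candG repAS repAR repAK repAC7 = true := by decide +kernel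

theorem candS_repA_7 : candS repAC7 = true := by decide +kernel

theorem candA_repA_8 : candA fam repAS repAB repAR repAC8 = true := by decide +kernel

theorem candG_repA_8 : candG repAS repAR repAK repAC8 = true := by decide +kernel

theorem candS_repA_8 : candS repAC8 = true := by decide +kernel

theorem candA_repA_9 : candA fam repAS repAB repAR repAC9 = true := by decide +kernel

theorem candG_repA_9 : candG repAS repAR repAK repAC9 = true := by decide +kernel

theorem candS_repA_9 : candS repAC9 = true := by decide +kernel

theorem candA_repA_10 : candA fam repAS repAB repAR repAC10 = true := by decide +kernel

theorem candG_repA_10 : candG repAS repAR repAK repAC10 = true := by decide +kernel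

theorem candS_repA_10 : candS repAC10 = true := by decide +kernel

theorem candA_repA_11 : candA fam repAS repAB repAR repAC11 = true := by decide +kernel

theorem candG_repA_11 : candG repAS repAR repAK repAC11 = true := by decide +kernel

theorem candS_repA_11 : candS repAC11 = true := by decide +kernel

theorem candA_repA_12 : candA fam repAS repAB repAR repAC12 = true := by decide +kernel

theorem candG_repA_12 : candG repAS repAR repAK repAC12 = true := by decide +kernel

theorem candS_repA_12 : candS repAC12 = true := by decide +kernel

theorem candA_repA_13 : candA fam repAS repAB repAR repAC13 = true := by decide +kernel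

theorem candG_repA_13 : candG repAS repAR repAK repAC13 = true := by decide +kernel

theorem candS_repA_13 : candS repAC13 = true := by decide +kernel

theorem candA_repA_14 : candA fam repAS repAB repAR repAC14 = true := by decide +kernel

theorem candG_repA_14 : candG repAS repAR repAK repAC14 = true := by decide +kernel

theorem candS_repA_14 : candS repAC14 = true := by decide +kernel

theorem candA_repA_15 : candA fam repAS repAB repAR repAC15 = true := by decide +kernel

theorem candG_repA_15 : candG repAS repAR repAK repAC15 = true := by decide +kernel

theorem candS_repA_15 : candS repAC15 = true := by decide +kernel

end Cfsg.Agent.Spor.CoWC
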