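import Cfsg.Agent.Lib.Spor.CoWC.Data

/-!
The verdicts of the checks.
-/

set_option autoImplicit false
set_option maxRecDepth 100000
set_option Elab.async false

namespace Cfsg.Agent.Spor.CoWC

open Cfsg.Agent.Spor.CoT Cfsg.Agent.Spor.CoT.Chk WDat

theorem candA_repE_0 : candA fam repES repEB repER repEC0 = true := by decide +kernel

theorem candG_repE_0 : candG repES repER repEK repEC0 = true := by decide +kernel

theorem candS_repE_0 : candS repEC0 = true := by decide +kernel

theorem candT_repE_0_0 : tableRows repEC0.good (((List.zip repEC0.good repEC0.table).drop 0).take 14) = true := by decide +kernel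

theorem candT_repE_0_1 : tableRows repEC0.good (((List.zip repEC0.good repEC0.table).drop 14).take 14) = true := by decide +kernel

theorem candT_repE_0_2 : tableRows repEC0.good (((List.zip repEC0.good repEC0.table).drop 28).take 14) = true := by decide +kernel

theorem candA_repF_0 : candA fam repFS repFB repFR repFC0 = true := by decide +kernel

theorem candG_repF_0 : candG repFS repFR repFK repFC0 = true := by decide +kernel

theorem candS_repF_0 : candS repFC0 = true := by decide +kernel

theorem candT_repF_0_0 : tableRows repFC0.good (((List.zip repFC0.good repFC0.table).drop 0).take 14) = true := by decide +kernel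

theorem candT_repF_0_1 : tableRows repFC0.good (((List.zip repFC0.good repFC0.table).drop 14).take 14) = true := by decide +kernel

theorem candT_repF_0_2 : tableRows repFC0.good (((List.zip repFC0.good repFC0.table).drop 28).take 14) = true := by decide +kernel

theorem candA_repN_0 : candA fam repNS repNB repNR repNC0 = true := by decide +kernel

theorem candG_repN_0 : candG repNS repNR repNK repNC0 = true := by decide +kernel

theorem candS_repN_0_c : repNC0.subs.contains [0, 1] = true := by decide +kernel

theorem candT_repN_0_0 : tableRows repNC0.good (((List.zip repNC0.good repNC0.table).drop 0).take 14) = true := by decide +kernel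

theorem candT_repN_0_1 : tableRows repNC0.good (((List.zip repNC0.good repNC0.table).drop 14).take 14) = true := by decide +kernel

theorem candT_repN_0_2 : tableRows repNC0.good (((List.zip repNC0.good repNC0.table).drop 28).take 14) = true := by decide +kernel

theorem candT_repN_0_3 : tableRows repNC0.good (((List.zip repNC0.good repNC0.table).drop 42).take 14) = true := by decide +kernel

end Cfsg.Agent.Spor.CoWC
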