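import Cfsg.Agent.Lib.Spor.CoWC.Data

/-!
The verdicts of the checks.
-/

set_option autoImplicit false
set_option maxRecDepth 100000
set_option Elab.async false

namespace Cfsg.Agent.Spor.CoWC

open Cfsg.Agent.Spor.CoT Cfsg.Agent.Spor.CoT.Chk WDat

theorem candA_repC_0 : candA fam repCS repCB repCR repCC0 = true := by decide +kernel

theorem candG_repC_0 : candG repCS repCR repCK repCC0 = true := by decide +kernel

theorem candS_repC_0 : candS repCC0 = true := by decide +kernel

theorem candA_repC_1 : candA fam repCS repCB repCR repCC1 = true := by decide +kernel

theorem candG_repC_1 : candG repCS repCR repCK repCC1 = true := by decide +kernel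

theorem candS_repC_1 : candS repCC1 = true := by decide +kernel

theorem candA_repC_2 : candA fam repCS repCB repCR repCC2 = true := by decide +kernel

theorem candG_repC_2 : candG repCS repCR repCK repCC2 = true := by decide +kernel

theorem candS_repC_2 : candS repCC2 = true := by decide +kernel

theorem candA_repC_3 : candA fam repCS repCB repCR repCC3 = true := by decide +kernel

theorem candG_repC_3 : candG repCS repCR repCK repCC3 = true := by decide +kernel

theorem candS_repC_3 : candS repCC3 = true := by decide +kernel

theorem candA_repC_4 : candA fam repCS repCB repCR repCC4 = true := by decide +kernel

theorem candG_repC_4 : candG repCS repCR repCK repCC4 = true := by decide +kernel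

theorem candS_repC_4 : candS repCC4 = true := by decide +kernel

theorem candA_repC_5 : candA fam repCS repCB repCR repCC5 = true := by decide +kernel

theorem candG_repC_5 : candG repCS repCR repCK repCC5 = true := by decide +kernel

theorem candS_repC_5 : candS repCC5 = true := by decide +kernel

theorem candA_repC_6 : candA fam repCS repCB repCR repCC6 = true := by decide +kernel

theorem candG_repC_6 : candG repCS repCR repCK repCC6 = true := by decide +kernel

theorem candS_repC_6 : candS repCC6 = true := by decide +kernel

theorem candA_repC_7 : candA fam repCS repCB repCR repCC7 = true := by decide +kernel

theorem candG_repC_7 : candG repCS repCR repCK repCC7 = true := by decide +kernel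

theorem candS_repC_7 : candS repCC7 = true := by decide +kernel

theorem candA_repC_8 : candA fam repCS repCB repCR repCC8 = true := by decide +kernel

theorem candG_repC_8 : candG repCS repCR repCK repCC8 = true := by decide +kernel

theorem candS_repC_8 : candS repCC8 = true := by decide +kernel

theorem candA_repC_9 : candA fam repCS repCB repCR repCC9 = true := by decide +kernel

theorem candG_repC_9 : candG repCS repCR repCK repCC9 = true := by decide +kernel

theorem candS_repC_9 : candS repCC9 = true := by decide +kernel

theorem candA_repC_10 : candA fam repCS repCB repCR repCC10 = true := by decide +kernel

theorem candG_repC_10 : candG repCS repCR repCK repCC10 = true := by decide +kernel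

theorem candS_repC_10 : candS repCC10 = true := by decide +kernel

theorem candA_repC_11 : candA fam repCS repCB repCR repCC11 = true := by decide +kernel

theorem candG_repC_11 : candG repCS repCR repCK repCC11 = true := by decide +kernel

theorem candS_repC_11 : candS repCC11 = true := by decide +kernel

theorem candA_repC_12 : candA fam repCS repCB repCR repCC12 = true := by decide +kernel

theorem candG_repC_12 : candG repCS repCR repCK repCC12 = true := by decide +kernel

theorem candS_repC_12 : candS repCC12 = true := by decide +kernel

theorem candA_repC_13 : candA fam repCS repCB repCR repCC13 = true := by decide +kernel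

theorem candG_repC_13 : candG repCS repCR repCK repCC13 = true := by decide +kernel

theorem candS_repC_13 : candS repCC13 = true := by decide +kernel

theorem candA_repC_14 : candA fam repCS repCB repCR repCC14 = true := by decide +kernel

theorem candG_repC_14 : candG repCS repCR repCK repCC14 = true := by decide +kernel

theorem candS_repC_14 : candS repCC14 = true := by decide +kernel

theorem candA_repC_15 : candA fam repCS repCB repCR repCC15 = true := by decide +kernel

theorem candG_repC_15 : candG repCS repCR repCK repCC15 = true := by decide +kernel

theorem candS_repC_15 : candS repCC15 = true := by decide +kernel

end Cfsg.Agent.Spor.CoWC
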