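import Cfsg.Agent.Lib.Spor.CoWC.Data

/-!
The verdicts of the checks.
-/

set_option autoImplicit false
set_option maxRecDepth 100000
set_option Elab.async false

namespace Cfsg.Agent.Spor.CoWC

open Cfsg.Agent.Spor.CoT Cfsg.Agent.Spor.CoT.Chk WDat

theorem second_gs_A : caseBT fam repAS repAD2 = true := by decide +kernel

theorem second_A : caseBA fam repAS repAR repAD2 = true := by decide +kernel

theorem second_A_0_0_0 : caseBA2 fam repAS repAD2 1 2 4 = true := by decide +kernel

theorem second_A_0_0_1 : caseBA2 fam repAS repAD2 1 2 5 = true := by decide +kernel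

theorem second_A_0_0_2 : caseBA2 fam repAS repAD2 1 2 6 = true := by decide +kernel

theorem second_A_0_0_3 : caseBA2 fam repAS repAD2 1 2 7 = true := by decide +kernel

theorem second_A_0_1_0 : caseBA2 fam repAS repAD2 1 3 4 = true := by decide +kernel

theorem second_A_0_1_1 : caseBA2 fam repAS repAD2 1 3 5 = true := by decide +kernel

theorem second_A_0_1_2 : caseBA2 fam repAS repAD2 1 3 6 = true := by decide +kernel

theorem second_A_0_1_3 : caseBA2 fam repAS repAD2 1 3 7 = true := by decide +kernel

theorem second_A_0_2_0 : caseBA2 fam repAS repAD2 1 0 4 = true := by decide +kernel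

theorem second_A_0_2_1 : caseBA2 fam repAS repAD2 1 0 5 = true := by decide +kernel

theorem second_A_0_2_2 : caseBA2 fam repAS repAD2 1 0 6 = true := by decide +kernel

theorem second_A_0_2_3 : caseBA2 fam repAS repAD2 1 0 7 = true := by decide +kernel

theorem second_A_0_3_0 : caseBA2 fam repAS repAD2 1 1 4 = true := by decide +kernel

theorem second_A_0_3_1 : caseBA2 fam repAS repAD2 1 1 5 = true := by decide +kernel

theorem second_A_0_3_2 : caseBA2 fam repAS repAD2 1 1 6 = true := by decide +kernel

theorem second_A_0_3_3 : caseBA2 fam repAS repAD2 1 1 7 = true := by decide +kernel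

end Cfsg.Agent.Spor.CoWC
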