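import Cfsg.Agent.Lib.Spor.CoWC.Data

/-!
The verdicts of the checks.
-/

set_option autoImplicit false
set_option maxRecDepth 100000
set_option Elab.async false

namespace Cfsg.Agent.Spor.CoWC

open Cfsg.Agent.Spor.CoT Cfsg.Agent.Spor.CoT.Chk WDat

/-- the family is respected by the generators, and the outer element leaves it -/
def famGood (fam : List ℕ) : Bool :=
  famOK fam (Dat.gens.getD 0 []) && famOK fam (Dat.gens.getD 1 []) &&
    famOK fam (Dat.ginvs.getD 0 []) && famOK fam (Dat.ginvs.getD 1 []) && famOK fam idL &&
    fam.contains 65535 && isoL outM && mulL outM outM == idL &&
    fam.all fun W => !fam.any (Nat.beq (imgM outM W))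

theorem fam_good : famGood fam = true := by decide +kernel

theorem rep_cols : repAS = radL 2 ∧ repCS = radL 136 ∧ repES = mulL Dat.sgc (radL 8) ∧
    repFS = mulL Dat.sgc (radL 128) ∧ repNS = mulL Dat.sgc (radL 136) := by decide +kernel


theorem rep_ok_repA : repOK' repAS repAB repAR = true := by decide +kernel

theorem cover_repA : coverA repAB repAR repACs = true := by decide +kernel

theorem conjs_repA : repAK.all (conjOK fam repAS) = true := by decide +kernel

theorem rep_ok_repC : repOK' repCS repCB repCR = true := by decide +kernel

theorem cover_repC : coverA repCB repCR repCCs = true := by decide +kernel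

theorem conjs_repC : repCK.all (conjOK fam repCS) = true := by decide +kernel

theorem rep_ok_repE : repOK' repES repEB repER = true := by decide +kernel

theorem cover_repE : coverA repEB repER repECs = true := by decide +kernel

theorem conjs_repE : repEK.all (conjOK fam repES) = true := by decide +kernel

theorem rep_ok_repF : repOK' repFS repFB repFR = true := by decide +kernel

theorem cover_repF : coverA repFB repFR repFCs = true := by decide +kernel

theorem conjs_repF : repFK.all (conjOK fam repFS) = true := by decide +kernel

theorem rep_ok_repN : repOK' repNS repNB repNR = true := by decide +kernel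

theorem cover_repN : coverA repNB repNR repNCs = true := by decide +kernel

theorem conjs_repN : repNK.all (conjOK fam repNS) = true := by decide +kernel

end Cfsg.Agent.Spor.CoWC
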