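import Cfsg.Agent.Lib.Spor.CoWC.Data

/-!
The verdicts of the checks.
-/

set_option autoImplicit false
set_option maxRecDepth 100000
set_option Elab.async false

namespace Cfsg.Agent.Spor.CoWC

open Cfsg.Agent.Spor.CoT Cfsg.Agent.Spor.CoT.Chk WDat

theorem second_big_repA_0 : bigRows repAD2.gs repAS repAD2.roots repAD2.order 0 ((repAD2.order.drop 0).take 60) = true := by decide +kernel

theorem second_big_repA_1 : bigRows repAD2.gs repAS repAD2.roots repAD2.order 60 ((repAD2.order.drop 60).take 60) = true := by decide +kernel

theorem second_big_repA_2 : bigRows repAD2.gs repAS repAD2.roots repAD2.order 120 ((repAD2.order.drop 120).take 60) = true := by decide +kernel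

theorem second_big_repA_3 : bigRows repAD2.gs repAS repAD2.roots repAD2.order 180 ((repAD2.order.drop 180).take 60) = true := by decide +kernel

theorem second_big_repA_4 : bigRows repAD2.gs repAS repAD2.roots repAD2.order 240 ((repAD2.order.drop 240).take 60) = true := by decide +kernel

theorem second_big_repA_5 : bigRows repAD2.gs repAS repAD2.roots repAD2.order 300 ((repAD2.order.drop 300).take 60) = true := by decide +kernel

theorem second_big_repA_6 : bigRows repAD2.gs repAS repAD2.roots repAD2.order 360 ((repAD2.order.drop 360).take 60) = true := by decide +kernel

theorem second_big_repA_7 : bigRows repAD2.gs repAS repAD2.roots repAD2.order 420 ((repAD2.order.drop 420).take 60) = true := by decide +kernel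

theorem second_big_repA_8 : bigRows repAD2.gs repAS repAD2.roots repAD2.order 480 ((repAD2.order.drop 480).take 60) = true := by decide +kernel

theorem second_big_repA_9 : bigRows repAD2.gs repAS repAD2.roots repAD2.order 540 ((repAD2.order.drop 540).take 60) = true := by decide +kernel

theorem second_big_repA_10 : bigRows repAD2.gs repAS repAD2.roots repAD2.order 600 ((repAD2.order.drop 600).take 60) = true := by decide +kernel

theorem irr_A : repAR.all (fun v => Nat.beq v 0 || repAR.all fun w => (growS (repAD2.gs.map Prod.fst) 4 [0, v]).contains w) = true := by decide +kernel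

theorem card_A : 4 ≤ repAR.toFinset.card := by decide +kernel

end Cfsg.Agent.Spor.CoWC
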