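import Cfsg.Agent.Lib.Spor.CoWC.Data

/-!
The verdicts of the checks.
-/

set_option autoImplicit false
set_option maxRecDepth 100000
set_option Elab.async false

namespace Cfsg.Agent.Spor.CoWC

open Cfsg.Agent.Spor.CoT Cfsg.Agent.Spor.CoT.Chk WDat

theorem second_big_repE_0 : bigRows repED2.gs repES repED2.roots repED2.order 0 ((repED2.order.drop 0).take 60) = true := by decide +kernel

theorem second_big_repF_0 : bigRows repFD2.gs repFS repFD2.roots repFD2.order 0 ((repFD2.order.drop 0).take 60) = true := by decide +kernel

theorem second_gs_repE : caseBT fam repES repED2 = true := by decide +kernel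

theorem second_repE : caseBE fam repES repER repAS repEK repED repED2 = true := by decide +kernel

theorem second_cls_repE : caseBC repES repEK repED repED2 = true := by decide +kernel

theorem second_gs_repF : caseBT fam repFS repFD2 = true := by decide +kernel

theorem second_repF : caseBE fam repFS repFR repAS repFK repFD repFD2 = true := by decide +kernel

theorem second_cls_repF : caseBC repFS repFK repFD repFD2 = true := by decide +kernel

end Cfsg.Agent.Spor.CoWC
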