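import Cfsg.Agent.Lib.Spor.CoWC.Data

/-!
The verdicts of the checks.
-/

set_option autoImplicit false
set_option maxRecDepth 100000
set_option Elab.async false

namespace Cfsg.Agent.Spor.CoWC

open Cfsg.Agent.Spor.CoT Cfsg.Agent.Spor.CoT.Chk WDat

theorem candS_repN_0_0 : subRows repNC0.good.length repNC0.table repNC0.subs ((repNC0.subs.drop 0).take 15) = true := by decide +kernel

theorem candS_repN_0_1 : subRows repNC0.good.length repNC0.table repNC0.subs ((repNC0.subs.drop 15).take 15) = true := by decide +kernel

theorem candS_repN_0_2 : subRows repNC0.good.length repNC0.table repNC0.subs ((repNC0.subs.drop 30).take 15) = true := by decide +kernel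

theorem candS_repN_0_3 : subRows repNC0.good.length repNC0.table repNC0.subs ((repNC0.subs.drop 45).take 15) = true := by decide +kernel

theorem candS_repN_0_4 : subRows repNC0.good.length repNC0.table repNC0.subs ((repNC0.subs.drop 60).take 15) = true := by decide +kernel

theorem candS_repN_0_5 : subRows repNC0.good.length repNC0.table repNC0.subs ((repNC0.subs.drop 75).take 15) = true := by decide +kernel

theorem candS_repN_0_6 : subRows repNC0.good.length repNC0.table repNC0.subs ((repNC0.subs.drop 90).take 15) = true := by decide +kernel

theorem candS_repN_0_7 : subRows repNC0.good.length repNC0.table repNC0.subs ((repNC0.subs.drop 105).take 15) = true := by decide +kernel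

theorem candS_repN_0_8 : subRows repNC0.good.length repNC0.table repNC0.subs ((repNC0.subs.drop 120).take 15) = true := by decide +kernel

theorem candS_repN_0_9 : subRows repNC0.good.length repNC0.table repNC0.subs ((repNC0.subs.drop 135).take 15) = true := by decide +kernel

theorem candS_repN_0_10 : subRows repNC0.good.length repNC0.table repNC0.subs ((repNC0.subs.drop 150).take 15) = true := by decide +kernel

theorem candS_repN_0_11 : subRows repNC0.good.length repNC0.table repNC0.subs ((repNC0.subs.drop 165).take 15) = true := by decide +kernel

theorem candS_repN_0_12 : subRows repNC0.good.length repNC0.table repNC0.subs ((repNC0.subs.drop 180).take 15) = true := by decide +kernel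

theorem candS_repN_0_13 : subRows repNC0.good.length repNC0.table repNC0.subs ((repNC0.subs.drop 195).take 15) = true := by decide +kernel

theorem candS_repN_0_14 : subRows repNC0.good.length repNC0.table repNC0.subs ((repNC0.subs.drop 210).take 15) = true := by decide +kernel

theorem candS_repN_0_15 : subRows repNC0.good.length repNC0.table repNC0.subs ((repNC0.subs.drop 225).take 15) = true := by decide +kernel

theorem candS_repN_0_16 : subRows repNC0.good.length repNC0.table repNC0.subs ((repNC0.subs.drop 240).take 15) = true := by decide +kernel

theorem candS_repN_0_17 : subRows repNC0.good.length repNC0.table repNC0.subs ((repNC0.subs.drop 255).take 15) = true := by decide +kernel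

theorem candS_repN_0_18 : subRows repNC0.good.length repNC0.table repNC0.subs ((repNC0.subs.drop 270).take 15) = true := by decide +kernel

theorem candS_repN_0_19 : subRows repNC0.good.length repNC0.table repNC0.subs ((repNC0.subs.drop 285).take 15) = true := by decide +kernel

theorem candS_repN_0_20 : subRows repNC0.good.length repNC0.table repNC0.subs ((repNC0.subs.drop 300).take 15) = true := by decide +kernel

theorem candS_repN_0_21 : subRows repNC0.good.length repNC0.table repNC0.subs ((repNC0.subs.drop 315).take 15) = true := by decide +kernel

theorem candS_repN_0_22 : subRows repNC0.good.length repNC0.table repNC0.subs ((repNC0.subs.drop 330).take 15) = true := by decide +kernel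

theorem candS_repN_0_23 : subRows repNC0.good.length repNC0.table repNC0.subs ((repNC0.subs.drop 345).take 15) = true := by decide +kernel

theorem candS_repN_0_24 : subRows repNC0.good.length repNC0.table repNC0.subs ((repNC0.subs.drop 360).take 15) = true := by decide +kernel

theorem candS_repN_0_25 : subRows repNC0.good.length repNC0.table repNC0.subs ((repNC0.subs.drop 375).take 15) = true := by decide +kernel

theorem candS_repN_0_26 : subRows repNC0.good.length repNC0.table repNC0.subs ((repNC0.subs.drop 390).take 15) = true := by decide +kernel

theorem candS_repN_0_27 : subRows repNC0.good.length repNC0.table repNC0.subs ((repNC0.subs.drop 405).take 15) = true := by decide +kernel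

theorem candS_repN_0_28 : subRows repNC0.good.length repNC0.table repNC0.subs ((repNC0.subs.drop 420).take 15) = true := by decide +kernel

theorem candS_repN_0_29 : subRows repNC0.good.length repNC0.table repNC0.subs ((repNC0.subs.drop 435).take 15) = true := by decide +kernel

theorem candS_repN_0_30 : subRows repNC0.good.length repNC0.table repNC0.subs ((repNC0.subs.drop 450).take 15) = true := by decide +kernel

theorem candS_repN_0_31 : subRows repNC0.good.length repNC0.table repNC0.subs ((repNC0.subs.drop 465).take 15) = true := by decide +kernel

end Cfsg.Agent.Spor.CoWC
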