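import Cfsg.Agent.Lib.Spor.CoWC.SecondA
import Cfsg.Agent.Lib.Spor.CoWC.VerdictRep
import Cfsg.Agent.Lib.Spor.CoWC.VerdictA
import Cfsg.Agent.Lib.Spor.CoWC.VerdictC
import Cfsg.Agent.Lib.Spor.CoWC.VerdictBig
import Cfsg.Agent.Lib.Spor.CoWC.VerdictSubs
import Cfsg.Agent.Lib.Spor.CoWC.VerdictPart0
import Cfsg.Agent.Lib.Spor.CoWC.VerdictPart1
import Cfsg.Agent.Lib.Spor.CoWC.VerdictPart2
import Cfsg.Agent.Lib.Spor.CoWC.VerdictPart3
import Cfsg.Agent.Lib.Spor.CoWC.VerdictSecondB
import Cfsg.Agent.Lib.Spor.CoWC.VerdictSecondE

/-!
The verdicts put together.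
-/

set_option autoImplicit false
set_option maxRecDepth 100000
set_option Elab.async false

namespace Cfsg.Agent.Spor.CoWC

open Cfsg.Agent.Spor.CoT Cfsg.Agent.Spor.CoT.Chk WDat

/-- a check on all chunks is a check on the whole -/
theorem all_chunks {α : Type} (f : α → Bool) (k : ℕ) :
    ∀ (n : ℕ) (l : List α), l.length ≤ k * n → (∀ q < n, ((l.drop (k * q)).take k).all f = true) → l.all f = true
  | 0, l, hl, _ => by
    rw [List.eq_nil_of_length_eq_zero (l := l) (by simpa using hl)]; rfl
  | n + 1, l, hl, h => by
    have h0 := h 0 (Nat.succ_pos n)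
    rw [Nat.mul_zero, List.drop_zero] at h0
    rw [← List.take_append_drop k l, List.all_append, Bool.and_eq_true]
    refine ⟨h0, all_chunks f k n (l.drop k) (by rw [List.length_drop, Nat.mul_succ] at *; omega) fun q hq => ?_⟩
    have := h (q + 1) (Nat.succ_lt_succ hq)
    rwa [List.drop_drop, Nat.add_comm k (k * q), ← Nat.mul_succ]

theorem famData_of {fam : List ℕ} (h : famGood fam = true) : FamData fam outM := by
  simp only [famGood, Bool.and_eq_true, beq_iff_eq] at h
  obtain ⟨⟨⟨⟨⟨⟨⟨⟨g0, g1⟩, i0⟩, i1⟩, one⟩, base⟩, iso⟩, inv⟩, out⟩ := h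
  refine ⟨?_, ?_, one, List.contains_iff_mem.1 base, iso, inv, fun W hW hm => ?_⟩
  · intro i hi
    interval_cases i
    exacts [g0, g1]
  · intro i hi
    interval_cases i
    exacts [i0, i1]
  have := List.all_eq_true.1 out W hW
  rw [Bool.not_eq_true', List.any_eq_false] at this
  exact this _ hm (Nat.beq_refl _)

theorem famData : FamData fam outM := famData_of fam_good

theorem t_small_A : repACs.all (fun c => Nat.blt c.T.length 16) = true := by decide +kernel

theorem cands_A : CandsOK fam repAS repAB repAR repAK repACs where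
  rep := rep_ok_repA
  conj := conjs_repA
  cover := cover_repA
  a c hc := by
    simp only [repACs, List.mem_cons, List.not_mem_nil, or_false] at hc
    rcases hc with rfl | rfl | rfl | rfl | rfl | rfl | rfl | rfl | rfl | rfl | rfl | rfl | rfl | rfl | rfl | rfl
    exacts [candA_repA_0, candA_repA_1, candA_repA_2, candA_repA_3, candA_repA_4, candA_repA_5, candA_repA_6, candA_repA_7, candA_repA_8, candA_repA_9, candA_repA_10, candA_repA_11, candA_repA_12, candA_repA_13, candA_repA_14, candA_repA_15]
  g c hc := by
    simp only [repACs, List.mem_cons, List.not_mem_nil, or_false] at hc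
    rcases hc with rfl | rfl | rfl | rfl | rfl | rfl | rfl | rfl | rfl | rfl | rfl | rfl | rfl | rfl | rfl | rfl
    exacts [candG_repA_0, candG_repA_1, candG_repA_2, candG_repA_3, candG_repA_4, candG_repA_5, candG_repA_6, candG_repA_7, candG_repA_8, candG_repA_9, candG_repA_10, candG_repA_11, candG_repA_12, candG_repA_13, candG_repA_14, candG_repA_15]
  s c hc := by
    simp only [repACs, List.mem_cons, List.not_mem_nil, or_false] at hc
    rcases hc with rfl | rfl | rfl | rfl | rfl | rfl | rfl | rfl | rfl | rfl | rfl | rfl | rfl | rfl | rfl | rfl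
    exacts [candS_repA_0, candS_repA_1, candS_repA_2, candS_repA_3, candS_repA_4, candS_repA_5, candS_repA_6, candS_repA_7, candS_repA_8, candS_repA_9, candS_repA_10, candS_repA_11, candS_repA_12, candS_repA_13, candS_repA_14, candS_repA_15]
  t c hc h := absurd (Nat.le_of_ble_eq_true (List.all_eq_true.1 t_small_A c hc)) (by omega)

theorem t_small_C : repCCs.all (fun c => Nat.blt c.T.length 16) = true := by decide +kernel

theorem cands_C : CandsOK fam repCS repCB repCR repCK repCCs where
  rep := rep_ok_repC
  conj := conjs_repC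
  cover := cover_repC
  a c hc := by
    simp only [repCCs, List.mem_cons, List.not_mem_nil, or_false] at hc
    rcases hc with rfl | rfl | rfl | rfl | rfl | rfl | rfl | rfl | rfl | rfl | rfl | rfl | rfl | rfl | rfl | rfl
    exacts [candA_repC_0, candA_repC_1, candA_repC_2, candA_repC_3, candA_repC_4, candA_repC_5, candA_repC_6, candA_repC_7, candA_repC_8, candA_repC_9, candA_repC_10, candA_repC_11, candA_repC_12, candA_repC_13, candA_repC_14, candA_repC_15]
  g c hc := by
    simp only [repCCs, List.mem_cons, List.not_mem_nil, or_false] at hc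
    rcases hc with rfl | rfl | rfl | rfl | rfl | rfl | rfl | rfl | rfl | rfl | rfl | rfl | rfl | rfl | rfl | rfl
    exacts [candG_repC_0, candG_repC_1, candG_repC_2, candG_repC_3, candG_repC_4, candG_repC_5, candG_repC_6, candG_repC_7, candG_repC_8, candG_repC_9, candG_repC_10, candG_repC_11, candG_repC_12, candG_repC_13, candG_repC_14, candG_repC_15]
  s c hc := by
    simp only [repCCs, List.mem_cons, List.not_mem_nil, or_false] at hc
    rcases hc with rfl | rfl | rfl | rfl | rfl | rfl | rfl | rfl | rfl | rfl | rfl | rfl | rfl | rfl | rfl | rfl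
    exacts [candS_repC_0, candS_repC_1, candS_repC_2, candS_repC_3, candS_repC_4, candS_repC_5, candS_repC_6, candS_repC_7, candS_repC_8, candS_repC_9, candS_repC_10, candS_repC_11, candS_repC_12, candS_repC_13, candS_repC_14, candS_repC_15]
  t c hc h := absurd (Nat.le_of_ble_eq_true (List.all_eq_true.1 t_small_C c hc)) (by omega)

theorem len_E : (List.zip repEC0.good repEC0.table).length ≤ 14 * 3 := by decide +kernel

theorem cands_E : CandsOK fam repES repEB repER repEK repECs where
  rep := rep_ok_repE
  conj := conjs_repE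
  cover := cover_repE
  a c hc := (List.mem_singleton.1 hc) ▸ candA_repE_0
  g c hc := (List.mem_singleton.1 hc) ▸ candG_repE_0
  s c hc := (List.mem_singleton.1 hc) ▸ candS_repE_0
  t c hc _ := (List.mem_singleton.1 hc) ▸ all_chunks _ 14 3 _ len_E fun q hq => by
    interval_cases q
    exacts [candT_repE_0_0, candT_repE_0_1, candT_repE_0_2]

theorem len_F : (List.zip repFC0.good repFC0.table).length ≤ 14 * 3 := by decide +kernel

theorem cands_F : CandsOK fam repFS repFB repFR repFK repFCs where
  rep := rep_ok_repF
  conj := conjs_repF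
  cover := cover_repF
  a c hc := (List.mem_singleton.1 hc) ▸ candA_repF_0
  g c hc := (List.mem_singleton.1 hc) ▸ candG_repF_0
  s c hc := (List.mem_singleton.1 hc) ▸ candS_repF_0
  t c hc _ := (List.mem_singleton.1 hc) ▸ all_chunks _ 14 3 _ len_F fun q hq => by
    interval_cases q
    exacts [candT_repF_0_0, candT_repF_0_1, candT_repF_0_2]

theorem len_subs : repNC0.subs.length ≤ 15 * 32 := by decide +kernel

theorem cand_s_N : candS repNC0 = true := by
  have h : groupS repNC0.good.length repNC0.table repNC0.subs = true := by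
    simp only [groupS, Bool.and_eq_true, subRows]
    refine ⟨candS_repN_0_c, all_chunks _ 15 32 _ len_subs fun q hq => ?_⟩
    interval_cases q
    exacts [candS_repN_0_0, candS_repN_0_1, candS_repN_0_2, candS_repN_0_3, candS_repN_0_4, candS_repN_0_5, candS_repN_0_6, candS_repN_0_7, candS_repN_0_8, candS_repN_0_9, candS_repN_0_10, candS_repN_0_11, candS_repN_0_12, candS_repN_0_13, candS_repN_0_14, candS_repN_0_15, candS_repN_0_16, candS_repN_0_17, candS_repN_0_18, candS_repN_0_19, candS_repN_0_20, candS_repN_0_21, candS_repN_0_22, candS_repN_0_23, candS_repN_0_24, candS_repN_0_25, candS_repN_0_26, candS_repN_0_27, candS_repN_0_28, candS_repN_0_29, candS_repN_0_30, candS_repN_0_31]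
  rw [candS, h, Bool.or_true]

theorem len_N : (List.zip repNC0.good repNC0.table).length ≤ 14 * 4 := by decide +kernel

theorem cands_N : CandsOK fam repNS repNB repNR repNK repNCs where
  rep := rep_ok_repN
  conj := conjs_repN
  cover := cover_repN
  a c hc := (List.mem_singleton.1 hc) ▸ candA_repN_0
  g c hc := (List.mem_singleton.1 hc) ▸ candG_repN_0
  s c hc := (List.mem_singleton.1 hc) ▸ cand_s_N
  t c hc _ := (List.mem_singleton.1 hc) ▸ all_chunks _ 14 4 _ len_N fun q hq => by
    interval_cases q
    exacts [candT_repN_0_0, candT_repN_0_1, candT_repN_0_2, candT_repN_0_3]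

theorem len_big_A : repAD2.order.length ≤ 60 * 11 := by decide +kernel

theorem big_A : ∀ q, 60 * q < repAD2.order.length →
    bigRows repAD2.gs repAS repAD2.roots repAD2.order (60 * q) ((repAD2.order.drop (60 * q)).take 60) = true := by
  intro q hq
  have := len_big_A
  have : q < 11 := by omega
  interval_cases q
  exacts [second_big_repA_0, second_big_repA_1, second_big_repA_2, second_big_repA_3, second_big_repA_4, second_big_repA_5, second_big_repA_6, second_big_repA_7, second_big_repA_8, second_big_repA_9, second_big_repA_10]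

theorem len_big_E : repED2.order.length ≤ 60 * 1 := by decide +kernel

theorem big_E : ∀ q, 60 * q < repED2.order.length →
    bigRows repED2.gs repES repED2.roots repED2.order (60 * q) ((repED2.order.drop (60 * q)).take 60) = true := by
  intro q hq
  have := len_big_E
  have : q < 1 := by omega
  interval_cases q
  exacts [second_big_repE_0]

theorem len_big_F : repFD2.order.length ≤ 60 * 1 := by decide +kernel

theorem big_F : ∀ q, 60 * q < repFD2.order.length →
    bigRows repFD2.gs repFS repFD2.roots repFD2.order (60 * q) ((repFD2.order.drop (60 * q)).take 60) = true := by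
  intro q hq
  have := len_big_F
  have : q < 1 := by omega
  interval_cases q
  exacts [second_big_repF_0]

end Cfsg.Agent.Spor.CoWC
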